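import Mathlib
import Cfsg.Agent.H876.L64.TFive_m3
import Cfsg.Agent.KFacts.ChevTwoSysInst
import Cfsg.Agent.KFacts.ChevTwoInstE
import Cfsg.Agent.H413.L64.TFour_m3
import Cfsg.Agent.H413.L16.Nel_m3
import Cfsg.Agent.ChevFast.E8
import Cfsg.Agent.Lib.FastDecM
import Cfsg.Agent.H939.L64.Base
import Cfsg.Agent.Lib.FinFast
import Mathlib.Data.Nat.Bitwise
import Mathlib.Algebra.BigOperators.Intervals
import Mathlib.Algebra.BigOperators.GroupWithZero.Finset
import Mathlib.Tactic.Ring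
import Mathlib.Tactic.Linarith
import Mathlib.Tactic.Abel
import Mathlib.Algebra.Field.Basic
import Mathlib.Data.Fintype.Card
import Mathlib.Tactic.LinearCombination
import Mathlib.Tactic.IntervalCases
import Cfsg.Agent.H192.Lang
import Cfsg.Agent.FastGrp
import Cfsg.Agent.Prune
set_option linter.all false

section
prune_inst 0x7ffefdfcabb8abffffdf7e7fa6deeffc3bb11fffe6dff943ffe061ff0b9f130849e56b8909e010fe0ed6e01410b87843fb7ee77fe86bdc7ffffd5ff41ffbee4ff5f7350851948c340f380ff783f0778e7f3fffffffffffffffffffffffffffbeffbfffffffff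

-- part: H525/D32/Fix_mg
section
prune_inst 0x10003544054000020018008011001c00a600000000088000000001040c8008000003486010201100002800c40031004811880000420000000a000000011800800000000080080008000000800080000000000000000000000000000000000004000000000
set_option linter.all false
open scoped Cfsg.Agent.FastGrp

namespace Cfsg.Agent
private noncomputable def pkL (l : List ℕ) : ℕ := List.rec 0 (fun a _ ih => Nat.add a (Nat.mul 256 ih)) l

private noncomputable def okL (l : List ℕ) : Bool := List.rec true (fun a _ ih => and (Nat.blt a 256) ih) l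

private noncomputable def gtL (l : List ℕ) (d r : ℕ) : ℕ :=
  cond (Nat.blt r l.length) (Nat.mod (Nat.shiftRight (pkL l) (Nat.mul 8 r)) 256) d

private theorem gtL_eq (l : List ℕ) (h : okL l = true) (d r : ℕ) : l.getD r d = gtL l d r := by
  induction l generalizing r with
  | nil => rfl
  | cons a l ih =>
    have h' : Nat.blt a 256 = true ∧ okL l = true := Bool.and_eq_true_iff.1 h
    have ha : a < 256 := Nat.blt_eq.mp h'.1
    cases r with
    | zero =>
      show a = (a + 256 * pkL l) % 256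
      omega
    | succ r =>
      show l.getD r d = cond (Nat.blt r l.length) ((a + 256 * pkL l) >>> (8 * (r + 1)) % 256) d
      rw [ih h'.2, Nat.mul_succ, Nat.add_comm (8 * r), Nat.shiftRight_add,
        show (a + 256 * pkL l) >>> 8 = pkL l by rw [Nat.shiftRight_eq_div_pow]; omega]
      rfl
end Cfsg.Agent

namespace Cfsg.Agent
private noncomputable def fN (x : ℕ) (f : ℕ → ℕ) : ℕ := Nat.rec (f 0) (fun n _ => f (Nat.succ n)) x

private noncomputable def lk (l : List (ℕ × Array (ℕ × ℤ))) (s : ℕ) : ℕ :=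
  List.rec 240 (fun e _ ih => @Bool.rec (fun _ => ℕ) ih (e.2.getD 0 (240, 0)).1 (Nat.beq e.1 s)) l

private noncomputable def mk (l : List (ℕ × Array (ℕ × ℤ))) : ℕ :=
  List.rec 0 (fun e _ ih => Nat.lor ih (Nat.shiftLeft 1 e.1)) l

private noncomputable def tgF (r s : ℕ) : ℕ := fN r fun r => fN s fun s => @Bool.rec (fun _ => ℕ)
  (lk (Cfsg.Agent.H413.L16.row r) s) 240 (Nat.beq (Nat.land (Nat.shiftRight (mk (Cfsg.Agent.H413.L16.row r)) s) 1) 0)

private theorem tg_eq : Cfsg.Agent.H413.L16.tg = tgF := by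
  have h0 : ∀ x f, fN x f = f x := fun x f => by cases x <;> rfl
  have h1 : ∀ (s : ℕ) (l : List (ℕ × Array (ℕ × ℤ))),
      ((l.find? fun e => e.1 == s).elim 240 fun e => (e.2.getD 0 (240, 0)).1) = lk l s := fun s l => by
    induction l with
    | nil => rfl
    | cons e l ih =>
      show _ = @Bool.rec (fun _ => ℕ) (lk l s) _ (Nat.beq e.1 s)
      rw [List.find?_cons, ← ih]
      by_cases h : e.1 = s
      · rw [beq_iff_eq.2 h, show Nat.beq e.1 s = true from h ▸ Nat.beq_refl _]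
        rfl
      · rw [beq_false_of_ne h, Bool.eq_false_iff.2 fun h' => h (Nat.eq_of_beq_eq_true h')]
  have h2 : ∀ (s : ℕ) (l : List (ℕ × Array (ℕ × ℤ))), (mk l).testBit s = false → lk l s = 240 := fun s l h => by
    induction l with
    | nil => rfl
    | cons e l ih =>
      have h1 : (mk l ||| 1 <<< e.1).testBit s = false := h
      rw [Nat.testBit_or, Bool.or_eq_false_iff, Nat.one_shiftLeft, Nat.testBit_two_pow] at h1
      show @Bool.rec (fun _ => ℕ) (lk l s) _ (Nat.beq e.1 s) = 240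
      rw [Bool.eq_false_iff.2 fun h2 => of_decide_eq_false h1.2 (Nat.eq_of_beq_eq_true h2)]
      exact ih h1.1
  funext r s
  delta tgF
  rw [h0, h0]
  refine (h1 s (Cfsg.Agent.H413.L16.row r)).trans ?_
  cases h : Nat.beq (Nat.land (Nat.shiftRight (mk (Cfsg.Agent.H413.L16.row r)) s) 1) 0 with
  | false => rfl
  | true =>
    refine h2 _ _ ?_
    have h3 : (mk (Cfsg.Agent.H413.L16.row r) >>> s) &&& 1 = 0 := Nat.eq_of_beq_eq_true h
    rw [Nat.and_one_is_mod] at h3
    rw [← Nat.add_zero s, ← Nat.testBit_shiftRight, Nat.testBit_zero, h3]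
    rfl
end Cfsg.Agent

-- part: H525/D32/Mdef
section
/-!
# S5916, dimension 32: the 8-dimensional space (definitions)
-/

set_option autoImplicit false

namespace Cfsg.Agent.H525.D32

open Matrix

variable {K : Type*} [Field K]

/-- the opposite index -/
def st (k : Fin 8) : Fin 8 := k + 4

/-- the graph automorphism -/
def ph (k : Fin 8) : Fin 8 := if k = 3 then 7 else if k = 7 then 3 else k

/-- the quadratic form -/
def q8 (v : Fin 8 → K) : K := v 0 * v 4 + v 1 * v 5 + v 2 * v 6 + v 3 * v 7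

/-- its polarisation -/
def b8 (v w : Fin 8 → K) : K := v 0 * w 4 + v 4 * w 0 + (v 1 * w 5 + v 5 * w 1) + (v 2 * w 6 + v 6 * w 2) +
  (v 3 * w 7 + v 7 * w 3)

/-- the Siegel element -/
def sg (p u w : Fin 8 → K) : Fin 8 → K := w + b8 w p • u + b8 w u • p + (q8 u * b8 w p) • p

/-- the properties of the matrix of a toral element -/
structure GM (X : Matrix (Fin 8) (Fin 8) K) : Prop where
  sym : ∀ k l, X k l = X (st l) (st k)
  alt : ∀ l, X (st l) l = 0
  idem : X * X = X
  rat : ∀ k l, k ≠ l → X k l ^ 2 = X (ph k) (ph l)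
  dia : ∀ k, X k k ^ 2 = X (ph k) (ph k) + 1

/-- the seven singular vectors -/
def pp (a : Fin 7) : Fin 8 → K :=
  ![![1, 0, 0, 0, 0, 0, 0, 0], ![0, 1, 0, 0, 0, 0, 0, 0], ![0, 0, 1, 0, 0, 0, 0, 0], ![1, 1, 0, 0, 0, 0, 0, 0],
    ![1, 0, 1, 0, 0, 0, 0, 0], ![0, 1, 1, 0, 0, 0, 0, 0], ![1, 1, 1, 0, 0, 0, 0, 0]] a

/-- M1 -/
def M1Stmt : Prop := ∀ (K : Type) [Field K] [CharP K 2] (X : Matrix (Fin 8) (Fin 8) K) (_ : GM X) (p : Fin 8 → K)
  (_ : q8 p = 0) (_ : q8 (X *ᵥ p) = 1) (w : Fin 8 → K), X *ᵥ sg p (X *ᵥ p) w = sg p (X *ᵥ p) (X *ᵥ w)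

/-- M2 -/
def M2Stmt : Prop := ∀ (K : Type) [Field K] [CharP K 2] (X : Matrix (Fin 8) (Fin 8) K) (_ : GM X),
  ∃ a b : Fin 7, a ≠ b ∧ q8 (X *ᵥ (pp a : Fin 8 → K)) = 1 ∧ q8 (X *ᵥ (pp b : Fin 8 → K)) = 1

/-- M3 -/
def M3Stmt : Prop := ∀ (K : Type) [Field K] [CharP K 2] (X : Matrix (Fin 8) (Fin 8) K) (_ : GM X) (a b : Fin 7)
  (_ : a ≠ b) (_ : q8 (X *ᵥ (pp a : Fin 8 → K)) = 1) (_ : q8 (X *ᵥ (pp b : Fin 8 → K)) = 1),
  ∃ w, sg (pp a) (X *ᵥ pp a) w ≠ sg (pp b) (X *ᵥ pp b) w

end Cfsg.Agent.H525.D32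
end

-- part: H525/D32/Root
section
/-!
# S5916, dimension 32: root elements and brackets of `E₈` in characteristic two (helper525)
-/

set_option autoImplicit false
set_option linter.unusedSectionVars false
set_option maxRecDepth 100000

namespace Cfsg.Agent.H525.D32

open CoxeterSystem Cfsg Cfsg.Lie Cfsg.Lie.ChevalleyDatum
open Cfsg.Agent.ChevalleyStructure Cfsg.Agent.ChevalleyStructure.Elts Cfsg.Agent.ChevalleyStructure.CoxeterGeom
  Cfsg.Agent.ChevalleyStructure.CoxeterGeomTypes Cfsg.Agent.ChevalleyStructure.NPerm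
open Cfsg.Agent.Tits.Roots Cfsg.Agent.Tits.Core Cfsg.Agent.Nodes Cfsg.Agent.Nodes.Reps Cfsg.Agent.Nodes.BNOf
  Cfsg.Agent.Nodes.RGDChev
open Cfsg.Agent.KFacts.RgdChevCoord Cfsg.Agent.BpExc.TorChev Cfsg.Agent.H129.TorusChar
open Cfsg.Agent.GpExc.Field (emb)
open Cfsg.Agent.H942.E8Tab Cfsg.Agent.H944.RootVals
open Cfsg.Agent.H939.L64 Cfsg.Agent.H876.L64
open Cfsg.Agent.ChevalleyStructure.RootVec (rt)
open Cfsg.Agent.ChevalleyStructure.Ring Cfsg.Agent.ChevalleyStructure.LieAbs Cfsg.Agent.ChevalleyStructure.LieAut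
open Cfsg.Agent.ChevalleyStructure.JacMain (adA adA_inl adA_inr adH)
open Cfsg.Agent.ChevalleyStructure.Columns (car cor)
open Cfsg.Agent.ChevalleyStructure.XColumns
open Matrix

instance instCharKK : CharP KK 2 := charP_of_injective_algebraMap (algebraMap (ZMod 2) KK).injective 2

theorem add_self (a : KK) : a + a = 0 := CharTwo.add_self_eq_zero a

theorem neg_self (a : KK) : -a = a := CharTwo.neg_eq a

theorem lk_add_self (v : LK) : v + v = 0 := by funext i; exact add_self _

/-- the root element -/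
noncomputable def xg (r : ℕ) (t : KK) : ↥(chevE8.group KK) := xc e8T (vec chevE8 8 r) t

/-- the root vector -/
noncomputable def E (r : ℕ) : LK := XColumns.ev chevE8 KK r

/-- the elements of the Cartan subalgebra -/
noncomputable def Hv (c : Fin chevE8.rank → KK) : LK := Sum.elim c 0

/-- the values of the roots on the Cartan subalgebra -/
noncomputable def rv (c : Fin chevE8.rank → KK) (s : ℕ) : KK := ∑ i, c i * ((car chevE8 i s : ℤ) : KK)

theorem nr : chevE8.nroots = 240 := by decide +kernel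

theorem rk : chevE8.rank = 8 := by decide +kernel

theorem neg_eq {r : ℕ} (hr : r < 240) : chevE8.neg r = 239 - r := by
  have h := CorootGcd.neg_eq hE8 (r := r) (by rw [nr]; exact hr)
  rw [nr] at h
  exact h

theorem aK_xg {r : ℕ} (hr : r < 240) (t : KK) (v : LK) : aK (xg r t) v = chevE8.x KK r t *ᵥ v := by
  unfold aK xg
  rw [coe_xc e8T (by rw [nr]; exact hr), coe_xG]

/-! ### brackets with root vectors -/

theorem br_E {r : ℕ} (hr : r < 240) (v : LK) : brK (E r) v = adK chevE8 KK r *ᵥ v := by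
  have hr' : r < chevE8.nroots := by rw [nr]; exact hr
  show (adv (adR chevE8 KK) (XColumns.ev chevE8 KK r)).mulVec v = _
  congr 1
  unfold adv
  rw [Finset.sum_eq_single (Sum.inr ⟨r, hr'⟩ : chevE8.Idx)]
  · show (if r = r then (1 : KK) else 0) • adR chevE8 KK (Sum.inr ⟨r, hr'⟩) = _
    rw [if_pos rfl, one_smul]
    rfl
  · intro b _ hb
    have : XColumns.ev chevE8 KK r b = 0 := by
      rcases b with i | s
      · rfl
      · show (if s.val = r then (1 : KK) else 0) = 0
        exact if_neg fun h => hb (by congr 1; exact Fin.ext h)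
    rw [this, zero_smul]
  · intro h; exact absurd (Finset.mem_univ _) h

/-- the quadratic part of a root element -/
noncomputable def qd (r : ℕ) (v : LK) : LK := (coefE chevE8 r 2).map (Int.castRingHom KK) *ᵥ v

theorem lac8 : Cfsg.Agent.H512.LinFour.IdealF.Lac chevE8 := Cfsg.Agent.H413.L16.lac8

theorem aK_xg' {r : ℕ} (hr : r < 240) (t : KK) (v : LK) : aK (xg r t) v = v + t • brK (E r) v + t ^ 2 • qd r v := by
  have hr' : r < chevE8.nroots := by rw [nr]; exact hr
  rw [aK_xg hr, Cfsg.Agent.H971.RV.x_eq_three lac8 hr', Matrix.add_mulVec, Matrix.add_mulVec, Matrix.one_mulVec,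
    Matrix.smul_mulVec, Matrix.smul_mulVec, br_E hr]
  rfl

theorem exists_gen : ∃ c : KK, c ≠ 0 ∧ c ≠ 1 := by
  obtain ⟨z, h1, h2⟩ := Cfsg.Agent.H971.RV.exists_z12 (k := KK)
  exact ⟨z, h1, fun h => h2 (by rw [h, one_pow])⟩

/-- comparison of coefficients -/
theorem coef_eq {a b a' b' : LK} (h : ∀ t : KK, t • a + t ^ 2 • b = t • a' + t ^ 2 • b') : a = a' ∧ b = b' := by
  obtain ⟨c, h0, h1⟩ := exists_gen
  have e1 := h 1
  have e2 := h c
  rw [one_pow, one_smul, one_smul, one_smul, one_smul] at e1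
  have e3 : a = a' := by
    funext i
    have f1 := congrFun e1 i
    have f2 := congrFun e2 i
    simp only [Pi.add_apply, Pi.smul_apply, smul_eq_mul] at f1 f2
    have h3 : c * (c - 1) * (a i - a' i) = 0 := by linear_combination c ^ 2 * f1 - f2
    rcases mul_eq_zero.1 h3 with h4 | h4
    · rcases mul_eq_zero.1 h4 with h5 | h5
      · exact absurd h5 h0
      · exact absurd (sub_eq_zero.1 h5) h1
    · exact sub_eq_zero.1 h4
  refine ⟨e3, ?_⟩
  rw [e3] at e1
  exact add_left_cancel e1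

/-- the bracket of a root vector from the action of the root element -/
theorem br_of {r : ℕ} (hr : r < 240) {v a b : LK} (h : ∀ t : KK, aK (xg r t) v = v + t • a + t ^ 2 • b) :
    brK (E r) v = a ∧ qd r v = b := by
  refine coef_eq fun t => ?_
  have h1 := h t
  rw [aK_xg' hr, add_assoc, add_assoc] at h1
  exact add_left_cancel h1

end Cfsg.Agent.H525.D32
end

-- part: H525/D32/Lie
section
/-!
# S5916, dimension 32: brackets on the basis (helper525)
-/

set_option autoImplicit false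
set_option linter.unusedSectionVars false
set_option maxRecDepth 100000

namespace Cfsg.Agent.H525.D32

open CoxeterSystem Cfsg Cfsg.Lie Cfsg.Lie.ChevalleyDatum
open Cfsg.Agent.ChevalleyStructure Cfsg.Agent.ChevalleyStructure.Elts Cfsg.Agent.ChevalleyStructure.CoxeterGeom
  Cfsg.Agent.ChevalleyStructure.CoxeterGeomTypes Cfsg.Agent.ChevalleyStructure.NPerm
open Cfsg.Agent.Tits.Roots Cfsg.Agent.Tits.Core Cfsg.Agent.Nodes Cfsg.Agent.Nodes.Reps Cfsg.Agent.Nodes.BNOf
  Cfsg.Agent.Nodes.RGDChev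
open Cfsg.Agent.KFacts.RgdChevCoord Cfsg.Agent.BpExc.TorChev Cfsg.Agent.H129.TorusChar
open Cfsg.Agent.GpExc.Field (emb)
open Cfsg.Agent.H942.E8Tab Cfsg.Agent.H944.RootVals
open Cfsg.Agent.H939.L64 Cfsg.Agent.H876.L64
open Cfsg.Agent.ChevalleyStructure.RootVec (rt)
open Cfsg.Agent.ChevalleyStructure.Ring Cfsg.Agent.ChevalleyStructure.LieAbs Cfsg.Agent.ChevalleyStructure.LieAut
open Cfsg.Agent.ChevalleyStructure.JacMain (adA adA_inl adA_inr adH)
open Cfsg.Agent.ChevalleyStructure.Columns (car cor)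
open Cfsg.Agent.ChevalleyStructure.XColumns
open Matrix

/-- the coordinate of a root vector -/
noncomputable def co (v : LK) (r : ℕ) : KK := if h : r < chevE8.nroots then v (Sum.inr ⟨r, h⟩) else 0

/-- the Cartan part -/
def hp (v : LK) : Fin chevE8.rank → KK := fun i => v (Sum.inl i)

theorem E_apply (r : ℕ) (s : Fin chevE8.nroots) : E r (Sum.inr s) = if s.val = r then 1 else 0 := rfl

theorem E_inl (r : ℕ) (i : Fin chevE8.rank) : E r (Sum.inl i) = 0 := rfl

theorem co_add (v w : LK) (r : ℕ) : co (v + w) r = co v r + co w r := by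
  unfold co
  split
  · rfl
  · rw [add_zero]

theorem co_smul (c : KK) (v : LK) (r : ℕ) : co (c • v) r = c * co v r := by
  unfold co
  split
  · rfl
  · rw [mul_zero]

theorem hp_add (v w : LK) : hp (v + w) = hp v + hp w := rfl

theorem hp_smul (c : KK) (v : LK) : hp (c • v) = c • hp v := rfl

theorem rv_add (c d : Fin chevE8.rank → KK) (s : ℕ) : rv (c + d) s = rv c s + rv d s := by
  unfold rv
  rw [← Finset.sum_add_distrib]
  exact Finset.sum_congr rfl fun i _ => by rw [Pi.add_apply, add_mul]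

theorem rv_smul (a : KK) (c : Fin chevE8.rank → KK) (s : ℕ) : rv (a • c) s = a * rv c s := by
  unfold rv
  rw [Finset.mul_sum]
  exact Finset.sum_congr rfl fun i _ => by rw [Pi.smul_apply, smul_eq_mul, mul_assoc]

theorem rv_zero (s : ℕ) : rv 0 s = 0 := by
  unfold rv
  exact Finset.sum_eq_zero fun i _ => by rw [Pi.zero_apply, zero_mul]

/-- decomposition of a vector -/
theorem dec (v : LK) : v = Hv (hp v) + ∑ s : Fin chevE8.nroots, v (Sum.inr s) • E s.val := by
  funext i
  rw [Pi.add_apply, Finset.sum_apply]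
  rcases i with i | s
  · have h : ∑ c : Fin chevE8.nroots, (v (Sum.inr c) • E c.val) (Sum.inl i) = 0 :=
      Finset.sum_eq_zero fun c _ => by rw [Pi.smul_apply, E_inl, smul_zero]
    rw [h, add_zero]
    rfl
  · rw [Finset.sum_eq_single s]
    · rw [Pi.smul_apply, E_apply, if_pos rfl, smul_eq_mul, mul_one]
      show _ = 0 + _
      rw [zero_add]
    · intro b _ hb
      rw [Pi.smul_apply, E_apply, if_neg (fun h => hb (Fin.ext h.symm)), smul_zero]
    · intro h; exact absurd (Finset.mem_univ _) h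

theorem brK_add_left (u v w : LK) : brK (u + v) w = brK u w + brK v w := Cfsg.Agent.H971.RV.br_add_left u v w

theorem brK_add_right (u v w : LK) : brK u (v + w) = brK u v + brK u w := Cfsg.Agent.H971.RV.br_add_right u v w

theorem brK_smul_left (a : KK) (v w : LK) : brK (a • v) w = a • brK v w := Cfsg.Agent.H971.RV.br_smul_left a v w

theorem brK_smul_right (a : KK) (v w : LK) : brK v (a • w) = a • brK v w := Cfsg.Agent.H971.RV.br_smul_right a v w

theorem brK_zero_left (w : LK) : brK 0 w = 0 := by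
  have h := brK_smul_left 0 0 w
  rwa [zero_smul, zero_smul] at h

theorem brK_zero_right (w : LK) : brK w 0 = 0 := by
  have h := brK_smul_right 0 w 0
  rwa [zero_smul, zero_smul] at h

theorem brK_sum_left {ι : Type*} (s : Finset ι) (f : ι → LK) (w : LK) : brK (∑ i ∈ s, f i) w = ∑ i ∈ s, brK (f i) w := by
  classical
  induction s using Finset.induction_on with
  | empty => rw [Finset.sum_empty, Finset.sum_empty, brK_zero_left]
  | insert a s ha ih => rw [Finset.sum_insert ha, Finset.sum_insert ha, brK_add_left, ih]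

/-- the Jacobi identity -/
theorem jac (x y z : LK) : brK x (brK y z) = brK (brK x y) z + brK y (brK x z) := Cfsg.Agent.H971.RV.br_br hE8 x y z

/-! ### the action on the Cartan part -/

theorem mulVec_sum' {ι : Type*} (A : Matrix chevE8.Idx chevE8.Idx KK) (s : Finset ι) (f : ι → LK) :
    A *ᵥ (∑ i ∈ s, f i) = ∑ i ∈ s, A *ᵥ f i := by
  classical
  induction s using Finset.induction_on with
  | empty => rw [Finset.sum_empty, Finset.sum_empty, Matrix.mulVec_zero]
  | insert a s ha ih => rw [Finset.sum_insert ha, Finset.sum_insert ha, Matrix.mulVec_add, ih]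

/-! ### the action on the other root vectors -/

theorem cast_odd {c : ℤ} (h : c % 2 = 1) : ((c : ℤ) : KK) = 1 := by
  have h1 : ((c : ℤ) : KK) = ((c % 2 : ℤ) : KK) := by
    conv_lhs => rw [← Int.emod_add_mul_ediv c 2]
    push_cast
    have : (2 : KK) = 0 := CharTwo.two_eq_zero
    rw [this, zero_mul, add_zero]
  rw [h1, h]
  simp

end Cfsg.Agent.H525.D32
end

-- part: H977/D32/Mat
section
/-!
# S5916, dimension 32: the matrices of the toral elements (helper977)

`m1 : M1Stmt`, `m2 : M2Stmt`, `m3 : M3Stmt`.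
-/

set_option autoImplicit false
set_option linter.unusedSectionVars false

namespace Cfsg.Agent.H977.D32

open Matrix Cfsg.Agent.H525.D32

section Gen

variable {K : Type} [Field K]

theorem st_st : ∀ k : Fin 8, st (st k) = k := by decide

/-- `st` as a permutation -/
def stE : Equiv.Perm (Fin 8) := ⟨st, st, st_st, st_st⟩

theorem b8_eq (v w : Fin 8 → K) : b8 v w = ∑ k, v k * w (st k) := by
  rw [Fin.sum_univ_eight]
  have h : st 0 = 4 ∧ st 1 = 5 ∧ st 2 = 6 ∧ st 3 = 7 ∧ st 4 = 0 ∧ st 5 = 1 ∧ st 6 = 2 ∧ st 7 = 3 := by decide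
  rw [h.1, h.2.1, h.2.2.1, h.2.2.2.1, h.2.2.2.2.1, h.2.2.2.2.2.1, h.2.2.2.2.2.2.1, h.2.2.2.2.2.2.2]
  unfold b8
  ring

theorem b8_mul {X : Matrix (Fin 8) (Fin 8) K} (hX : GM X) (v w : Fin 8 → K) : b8 (X *ᵥ v) w = b8 v (X *ᵥ w) := by
  rw [b8_eq, b8_eq]
  have h1 : ∀ k, (X *ᵥ v) k * w (st k) = ∑ l, X k l * v l * w (st k) := fun k => by
    rw [Matrix.mulVec, dotProduct, Finset.sum_mul]
  have h2 : ∀ l, v l * (X *ᵥ w) (st l) = ∑ k, X k l * v l * w (st k) := fun l => by
    rw [Matrix.mulVec, dotProduct, Finset.mul_sum]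
    rw [← Equiv.sum_comp stE (fun k => v l * (X (st l) k * w k))]
    refine Finset.sum_congr rfl fun k _ => ?_
    show v l * (X (st l) (st k) * w (st k)) = _
    rw [hX.sym k l]
    ring
  rw [Finset.sum_congr rfl fun k _ => h1 k, Finset.sum_congr rfl fun l _ => h2 l, Finset.sum_comm]

end Gen

theorem m1 : M1Stmt := by
  intro K _ _ X hX p hp hu w
  have hXX : X *ᵥ (X *ᵥ p) = X *ᵥ p := by rw [Matrix.mulVec_mulVec, hX.idem]
  unfold sg
  rw [hu, one_mul, one_mul, Matrix.mulVec_add, Matrix.mulVec_add, Matrix.mulVec_add, Matrix.mulVec_smul,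
    Matrix.mulVec_smul, Matrix.mulVec_smul, hXX, b8_mul hX w p, b8_mul hX w (X *ᵥ p), hXX]
  have h2 : ∀ v : Fin 8 → K, v + v = 0 := fun v => by
    funext k
    exact CharTwo.add_self_eq_zero _
  have e1 : X *ᵥ w + b8 w p • X *ᵥ p + b8 w (X *ᵥ p) • X *ᵥ p + b8 w p • X *ᵥ p =
      X *ᵥ w + b8 w (X *ᵥ p) • X *ᵥ p + (b8 w p • X *ᵥ p + b8 w p • X *ᵥ p) := by abel
  have e2 : X *ᵥ w + b8 w (X *ᵥ p) • X *ᵥ p + b8 w (X *ᵥ p) • p + b8 w (X *ᵥ p) • p =
      X *ᵥ w + b8 w (X *ᵥ p) • X *ᵥ p + (b8 w (X *ᵥ p) • p + b8 w (X *ᵥ p) • p) := by abel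
  rw [e1, e2, h2, h2]

/-- the seven vectors over `F₂` -/
def pz (a : Fin 7) : Fin 3 → ZMod 2 :=
  ![![1, 0, 0], ![0, 1, 0], ![0, 0, 1], ![1, 1, 0], ![1, 0, 1], ![0, 1, 1], ![1, 1, 1]] a

section Two

variable {K : Type} [Field K] [CharP K 2]

/-- the embedding of `F₂` -/
noncomputable def fz (K : Type) [Field K] [CharP K 2] : ZMod 2 →+* K := ZMod.castHom (dvd_refl 2) K

theorem fz_inj : Function.Injective (fz K) := (fz K).injective

theorem fz_sq (x : ZMod 2) : fz K x ^ 2 = fz K x := by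
  rw [← map_pow]
  congr 1
  revert x
  decide

theorem exists_fz {x : K} (h : x ^ 2 = x) : ∃ z : ZMod 2, fz K z = x := by
  have h1 : x * (x - 1) = 0 := by linear_combination h
  rcases mul_eq_zero.1 h1 with h2 | h2
  · exact ⟨0, by rw [map_zero, h2]⟩
  · exact ⟨1, by rw [map_one]; exact (sub_eq_zero.1 h2).symm⟩

theorem pp_eq (a : Fin 7) : (pp a : Fin 8 → K) =
    fz K (pz a 0) • Pi.single 0 1 + fz K (pz a 1) • Pi.single 1 1 + fz K (pz a 2) • Pi.single 2 1 := by
  fin_cases a <;> funext k <;> fin_cases k <;> simp [pp, pz]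

end Two

theorem m3 : M3Stmt := by
  intro K _ _ X hX a b hab ha hb
  have hw : ∀ a b : Fin 7, a ≠ b → ∃ w : Fin 3 → ZMod 2, w 0 * pz a 0 + w 1 * pz a 1 + w 2 * pz a 2 = 1 ∧
      w 0 * pz b 0 + w 1 * pz b 1 + w 2 * pz b 2 = 0 := by decide
  obtain ⟨w, hwa, hwb⟩ := hw a b hab
  let W : Fin 8 → K := ![0, 0, 0, 0, fz K (w 0), fz K (w 1), fz K (w 2), 0]
  have hW : ∀ c : Fin 7, b8 W (pp c) = fz K (w 0 * pz c 0 + w 1 * pz c 1 + w 2 * pz c 2) := by
    intro c
    rw [pp_eq, map_add, map_add, map_mul, map_mul, map_mul]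
    simp [b8, W]
  refine ⟨W, fun h => ?_⟩
  have h1 : b8 W (pp a) = 1 := by rw [hW, hwa, map_one]
  have h2 : b8 W (pp b) = 0 := by rw [hW, hwb, map_zero]
  unfold sg at h
  rw [h1, h2, one_smul, zero_smul, mul_zero, zero_smul, mul_one, ha, one_smul, add_zero, add_zero] at h
  set u := X *ᵥ (pp a : Fin 8 → K) with hu
  set c := b8 W u
  set d := b8 W (X *ᵥ (pp b : Fin 8 → K))
  have hk : ∀ k : Fin 8, 3 ≤ k → u k = 0 := by
    intro k hk
    have h3 := congrFun h k
    have h4 : ∀ e : Fin 7, (pp e : Fin 8 → K) k = 0 := by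
      intro e
      rw [pp_eq]
      fin_cases k <;> simp_all
    simp only [Pi.add_apply, Pi.smul_apply, smul_eq_mul, h4, mul_zero, add_zero] at h3
    exact left_eq_add.1 h3.symm
  have h5 : q8 u = 0 := by
    unfold q8
    rw [hk 3 (by decide), hk 4 (by decide), hk 5 (by decide), hk 6 (by decide)]
    ring
  rw [h5] at ha
  exact zero_ne_one ha

theorem no_mat : ∀ Y : Fin 3 → Fin 3 → ZMod 2, ∃ i j, (∑ k, Y i k * Y k j) ≠ Y i j + if i = j then 1 else 0 := by
  (first | (set_option backward.isDefEq.respectTransparency.types false in set_option synthInstance.maxSize 99999 in (exact _root_.Cfsg.Agent.FastDec.of (by decide +kernel))) | decide +kernel)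

/-- the value of a quadratic form on `F₂³` -/
def qv (n : Fin 3 → ZMod 2) (b : Fin 3 → ZMod 2) (a : Fin 7) : ZMod 2 :=
  pz a 0 * n 0 + pz a 1 * n 1 + pz a 2 * n 2 + pz a 0 * pz a 1 * b 0 + pz a 0 * pz a 2 * b 1 + pz a 1 * pz a 2 * b 2

theorem two_ones : ∀ n b : Fin 3 → ZMod 2, (n ≠ 0 ∨ b ≠ 0) → ∃ a c : Fin 7, a ≠ c ∧ qv n b a = 1 ∧ qv n b c = 1 := by
  decide +kernel

section M2

variable {K : Type} [Field K] [CharP K 2]

/-- the columns -/
def cl (X : Matrix (Fin 8) (Fin 8) K) (i : Fin 8) : Fin 8 → K := fun k => X k i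

theorem mul_single (X : Matrix (Fin 8) (Fin 8) K) (i : Fin 8) : X *ᵥ Pi.single i 1 = cl X i := by
  funext k
  rw [Matrix.mulVec, dotProduct_single, mul_one]
  rfl

theorem b8_single (v : Fin 8 → K) (j : Fin 8) : b8 v (Pi.single j 1) = v (st j) := by
  rw [b8_eq, Finset.sum_eq_single (st j)]
  · rw [st_st, Pi.single_eq_same, mul_one]
  · intro k _ hk
    rw [Pi.single_eq_of_ne, mul_zero]
    rintro rfl
    exact hk (st_st k).symm
  · intro h
    exact absurd (Finset.mem_univ _) h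

theorem b8_cl {X : Matrix (Fin 8) (Fin 8) K} (hX : GM X) (i j : Fin 8) : b8 (cl X i) (cl X j) = X (st j) i := by
  rw [← mul_single, ← mul_single, ← b8_mul hX, Matrix.mulVec_mulVec, hX.idem, b8_single, mul_single]
  rfl

theorem q8_lin (a b c : K) (u v w : Fin 8 → K) : q8 (a • u + b • v + c • w) =
    a ^ 2 * q8 u + b ^ 2 * q8 v + c ^ 2 * q8 w + a * b * b8 u v + a * c * b8 u w + b * c * b8 v w := by
  simp only [q8, b8, Pi.add_apply, Pi.smul_apply, smul_eq_mul]
  ring

theorem q8_pp {X : Matrix (Fin 8) (Fin 8) K} (hX : GM X) (a : Fin 7) : q8 (X *ᵥ (pp a : Fin 8 → K)) =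
    fz K (pz a 0) * q8 (cl X 0) + fz K (pz a 1) * q8 (cl X 1) + fz K (pz a 2) * q8 (cl X 2) +
      fz K (pz a 0) * fz K (pz a 1) * X 5 0 + fz K (pz a 0) * fz K (pz a 2) * X 6 0 +
      fz K (pz a 1) * fz K (pz a 2) * X 6 1 := by
  rw [pp_eq, Matrix.mulVec_add, Matrix.mulVec_add, Matrix.mulVec_smul, Matrix.mulVec_smul, Matrix.mulVec_smul,
    mul_single, mul_single, mul_single, q8_lin, fz_sq, fz_sq, fz_sq, b8_cl hX, b8_cl hX, b8_cl hX]
  rfl

theorem rat2 {X : Matrix (Fin 8) (Fin 8) K} (hX : GM X) : ∀ k l : Fin 8, k ≠ l → ph k = k → ph l = l →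
    X k l ^ 2 = X k l := by
  intro k l h h1 h2
  rw [hX.rat k l h, h1, h2]

theorem nu_sq {X : Matrix (Fin 8) (Fin 8) K} (hX : GM X) (i : Fin 3) :
    q8 (cl X (![0, 1, 2] i)) = (q8 (cl X (![0, 1, 2] i))) ^ 2 ∧
      q8 (cl X (![0, 1, 2] i)) = (∑ k : Fin 3, if k = i then 0 else X (![0, 1, 2] k) (![0, 1, 2] i) *
        X (![4, 5, 6] k) (![0, 1, 2] i)) + X 3 (![0, 1, 2] i) * X 7 (![0, 1, 2] i) := by
  have h2 : ∀ a b : K, (a + b) ^ 2 = a ^ 2 + b ^ 2 := fun a b => CharTwo.add_sq a b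
  have e37 : ∀ l : Fin 8, l ≠ 3 → l ≠ 7 → X 3 l ^ 2 = X 7 l := fun l h3 h7 => by
    rw [hX.rat 3 l h3.symm]
    congr 1
    unfold ph
    rw [if_neg h3, if_neg h7]
  have e73 : ∀ l : Fin 8, l ≠ 3 → l ≠ 7 → X 7 l ^ 2 = X 3 l := fun l h3 h7 => by
    rw [hX.rat 7 l h7.symm]
    congr 1
    unfold ph
    rw [if_neg h3, if_neg h7]
  have a0 : X 4 0 = 0 := hX.alt 0
  have a1 : X 5 1 = 0 := hX.alt 1
  have a2 : X 6 2 = 0 := hX.alt 2
  fin_cases i
  · have r1 := rat2 hX 1 0 (by decide) (by decide) (by decide)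
    have r2 := rat2 hX 5 0 (by decide) (by decide) (by decide)
    have r3 := rat2 hX 2 0 (by decide) (by decide) (by decide)
    have r4 := rat2 hX 6 0 (by decide) (by decide) (by decide)
    have r5 := e37 0 (by decide) (by decide)
    have r6 := e73 0 (by decide) (by decide)
    constructor
    · simp [q8, cl, a0]
      rw [h2, h2, mul_pow, mul_pow, mul_pow, r1, r2, r3, r4, r5, r6]
      ring
    · simp [q8, cl, a0, Fin.sum_univ_three]
  · have r1 := rat2 hX 0 1 (by decide) (by decide) (by decide)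
    have r2 := rat2 hX 4 1 (by decide) (by decide) (by decide)
    have r3 := rat2 hX 2 1 (by decide) (by decide) (by decide)
    have r4 := rat2 hX 6 1 (by decide) (by decide) (by decide)
    have r5 := e37 1 (by decide) (by decide)
    have r6 := e73 1 (by decide) (by decide)
    constructor
    · simp [q8, cl, a1]
      rw [h2, h2, mul_pow, mul_pow, mul_pow, r1, r2, r3, r4, r5, r6]
      ring
    · simp [q8, cl, a1, Fin.sum_univ_three]
  · have r1 := rat2 hX 0 2 (by decide) (by decide) (by decide)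
    have r2 := rat2 hX 4 2 (by decide) (by decide) (by decide)
    have r3 := rat2 hX 1 2 (by decide) (by decide) (by decide)
    have r4 := rat2 hX 5 2 (by decide) (by decide) (by decide)
    have r5 := e37 2 (by decide) (by decide)
    have r6 := e73 2 (by decide) (by decide)
    constructor
    · simp [q8, cl, a2]
      rw [h2, h2, mul_pow, mul_pow, mul_pow, r1, r2, r3, r4, r5, r6]
      ring
    · simp [q8, cl, a2, Fin.sum_univ_three]

end M2

theorem m2 : M2Stmt := by
  intro K _ _ X hX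
  have hn : ∀ i : Fin 3, ∃ z : ZMod 2, fz K z = q8 (cl X (![0, 1, 2] i)) := fun i =>
    exists_fz (nu_sq hX i).1.symm
  choose n hn using hn
  obtain ⟨b0, hb0⟩ := exists_fz (rat2 hX 5 0 (by decide) (by decide) (by decide))
  obtain ⟨b1, hb1⟩ := exists_fz (rat2 hX 6 0 (by decide) (by decide) (by decide))
  obtain ⟨b2, hb2⟩ := exists_fz (rat2 hX 6 1 (by decide) (by decide) (by decide))
  have hval : ∀ a : Fin 7, q8 (X *ᵥ (pp a : Fin 8 → K)) = fz K (qv n ![b0, b1, b2] a) := by
    intro a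
    have h0 : fz K (n 0) = q8 (cl X 0) := hn 0
    have h1 : fz K (n 1) = q8 (cl X 1) := hn 1
    have h2 : fz K (n 2) = q8 (cl X 2) := hn 2
    rw [q8_pp hX, ← hb0, ← hb1, ← hb2, ← h0, ← h1, ← h2]
    simp [qv]
  by_cases hc : n ≠ 0 ∨ (![b0, b1, b2] : Fin 3 → ZMod 2) ≠ 0
  · obtain ⟨a, c, hac, ha, hc⟩ := two_ones n ![b0, b1, b2] hc
    exact ⟨a, c, hac, by rw [hval, ha, map_one], by rw [hval, hc, map_one]⟩
  · exfalso
    push Not at hc
    obtain ⟨hn0, hb⟩ := hc
    have z0 : b0 = 0 := congrFun hb 0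
    have z1 : b1 = 0 := congrFun hb 1
    have z2 : b2 = 0 := congrFun hb 2
    rw [z0, map_zero] at hb0
    rw [z1, map_zero] at hb1
    rw [z2, map_zero] at hb2
    have s0 : X 4 1 = 0 := by rw [hX.sym 4 1]; exact hb0.symm
    have s1 : X 4 2 = 0 := by rw [hX.sym 4 2]; exact hb1.symm
    have s2 : X 5 2 = 0 := by rw [hX.sym 5 2]; exact hb2.symm
    have a0 : X 4 0 = 0 := hX.alt 0
    have a1 : X 5 1 = 0 := hX.alt 1
    have a2 : X 6 2 = 0 := hX.alt 2
    have hk : ∀ i : Fin 3, X 3 (![0, 1, 2] i) = 0 ∧ X 7 (![0, 1, 2] i) = 0 := by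
      intro i
      have h1 := (nu_sq hX i).2
      rw [← hn i, hn0, Pi.zero_apply, map_zero] at h1
      have h3 : (∑ k : Fin 3, if k = i then 0 else X (![0, 1, 2] k) (![0, 1, 2] i) *
          X (![4, 5, 6] k) (![0, 1, 2] i)) = 0 := by
        fin_cases i <;> simp [Fin.sum_univ_three, ← hb0, ← hb1, ← hb2, s0, s1, s2]
      rw [h3, zero_add] at h1
      have h4 : X 3 (![0, 1, 2] i) ^ 2 = X 7 (![0, 1, 2] i) := by
        rw [hX.rat 3 _ (by fin_cases i <;> decide)]
        congr 1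
        fin_cases i <;> rfl
      rw [← h4] at h1
      have h5 : X 3 (![0, 1, 2] i) = 0 := by
        rcases mul_eq_zero.1 h1.symm with h | h
        · exact h
        · exact pow_eq_zero_iff (two_ne_zero) |>.1 h
      exact ⟨h5, by rw [← h4, h5]; ring⟩
    have hZ : ∀ i j : Fin 3, ∑ k : Fin 3, X (![0, 1, 2] i) (![0, 1, 2] k) * X (![0, 1, 2] k) (![0, 1, 2] j) =
        X (![0, 1, 2] i) (![0, 1, 2] j) := by
      intro i j
      have h1 := congrFun (congrFun hX.idem (![0, 1, 2] i)) (![0, 1, 2] j)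
      rw [Matrix.mul_apply, Fin.sum_univ_eight] at h1
      have h4 : X 4 (![0, 1, 2] j) = 0 ∧ X 5 (![0, 1, 2] j) = 0 ∧ X 6 (![0, 1, 2] j) = 0 := by
        fin_cases j
        · exact ⟨a0, hb0.symm, hb1.symm⟩
        · exact ⟨s0, a1, hb2.symm⟩
        · exact ⟨s1, s2, a2⟩
      rw [(hk j).1, (hk j).2, h4.1, h4.2.1, h4.2.2] at h1
      rw [Fin.sum_univ_three]
      simp only [mul_zero, add_zero] at h1
      exact h1
    have hdia : ∀ i : Fin 3, X (![0, 1, 2] i) (![0, 1, 2] i) ^ 2 = X (![0, 1, 2] i) (![0, 1, 2] i) + 1 := by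
      intro i
      have hp : ph (![0, 1, 2] i) = ![0, 1, 2] i := by fin_cases i <;> rfl
      rw [hX.dia, hp]
    set α := X 0 0 with hα
    have hα2 : α ^ 2 = α + 1 := hdia 0
    have hY : ∀ i j : Fin 3, ∃ z : ZMod 2, fz K z = X (![0, 1, 2] i) (![0, 1, 2] j) + if i = j then α else 0 := by
      intro i j
      apply exists_fz
      by_cases hij : i = j
      · subst hij
        rw [if_pos rfl, CharTwo.add_sq, hdia, hα2]
        have := CharTwo.two_eq_zero (R := K)
        linear_combination this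
      · rw [if_neg hij, add_zero]
        apply rat2 hX
        · fin_cases i <;> fin_cases j <;> first | decide | exact absurd rfl hij
        · fin_cases i <;> rfl
        · fin_cases j <;> rfl
    choose Y hY using hY
    obtain ⟨i, j, hij⟩ := no_mat Y
    apply hij
    apply fz_inj (K := K)
    rw [map_sum, map_add]
    have h1 : ∀ k, fz K (Y i k * Y k j) = (X (![0, 1, 2] i) (![0, 1, 2] k) + if i = k then α else 0) *
        (X (![0, 1, 2] k) (![0, 1, 2] j) + if k = j then α else 0) := fun k => by rw [map_mul, hY, hY]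
    rw [Finset.sum_congr rfl fun k _ => h1 k, hY]
    have h2 : ∀ k : Fin 3, (X (![0, 1, 2] i) (![0, 1, 2] k) + if i = k then α else 0) *
        (X (![0, 1, 2] k) (![0, 1, 2] j) + if k = j then α else 0) =
        X (![0, 1, 2] i) (![0, 1, 2] k) * X (![0, 1, 2] k) (![0, 1, 2] j) +
        (if k = j then α * X (![0, 1, 2] i) (![0, 1, 2] k) else 0) +
        (if k = i then α * X (![0, 1, 2] k) (![0, 1, 2] j) else 0) +
        (if k = j then (if i = k then α ^ 2 else 0) else 0) := by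
      intro k
      by_cases h3 : i = k
      · subst h3
        by_cases h4 : i = j
        · subst h4; simp only [if_true]; ring
        · simp only [if_neg h4, if_true]; ring
      · have h3' : ¬ k = i := fun h => h3 h.symm
        by_cases h4 : k = j
        · subst h4; simp only [if_neg h3, if_neg h3', if_true]; ring
        · simp only [if_neg h3, if_neg h3', if_neg h4]; ring
    rw [Finset.sum_congr rfl fun k _ => h2 k, Finset.sum_add_distrib, Finset.sum_add_distrib,
      Finset.sum_add_distrib, hZ, Finset.sum_ite_eq', Finset.sum_ite_eq', Finset.sum_ite_eq']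
    simp only [Finset.mem_univ, if_true]
    have t2 := CharTwo.two_eq_zero (R := K)
    by_cases h5 : i = j
    · simp only [if_pos h5, map_one, hα2]
      linear_combination α * X (![0, 1, 2] i) (![0, 1, 2] j) * t2
    · simp only [if_neg h5, map_zero]
      linear_combination α * X (![0, 1, 2] i) (![0, 1, 2] j) * t2

end Cfsg.Agent.H977.D32
end

-- part: H525/D32/Fdef
section
/-!
# S5916, dimension 32: interface (helper525)

Frame coordinates `v' = z⁻¹ v`; root vectors `er`, root elements `xr` of `H413.L16`.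
-/

set_option autoImplicit false
set_option linter.unusedSectionVars false
set_option maxRecDepth 100000

namespace Cfsg.Agent.H525.D32

open Matrix Cfsg Cfsg.Lie Cfsg.Agent.H939.L64
open Cfsg.Agent.H413.L16 (er hv hr xr nn tg)

/-- the group -/
abbrev GK : Type := ↥(chevE8.group KK)

/-- the permutation `w` of the indices of the roots -/
def WI : List ℕ := [228, 79, 80, 83, 86, 90, 101, 95, 107, 112, 116, 121, 122, 2, 162, 163, 164, 165, 167, 168, 14, 169, 170, 172,
  173, 15, 174, 176, 177, 16, 179, 180, 17, 183, 19, 20, 184, 186, 187, 21, 189, 190, 22, 193, 24, 25, 195, 196,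
  26, 199, 28, 29, 202, 31, 32, 35, 205, 206, 36, 209, 38, 39, 212, 41, 42, 45, 216, 47, 48, 51, 54, 221, 57,
  58, 61, 64, 68, 73, 226, 227, 78, 229, 81, 82, 230, 84, 85, 87, 231, 88, 89, 91, 92, 233, 99, 100, 102, 103,
  104, 232, 93, 94, 96, 97, 98, 234, 105, 106, 108, 109, 235, 110, 111, 113, 236, 114, 115, 238, 119, 239, 0,
  120, 1, 124, 125, 3, 126, 128, 129, 4, 130, 131, 133, 134, 5, 141, 142, 143, 145, 146, 7, 135, 136, 137, 139,
  140, 6, 147, 148, 150, 151, 8, 152, 154, 155, 9, 157, 158, 10, 161, 12, 13, 166, 171, 175, 178, 181, 182, 18,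
  185, 188, 191, 192, 23, 194, 197, 198, 27, 200, 201, 30, 203, 33, 34, 204, 207, 208, 37, 210, 211, 40, 213,
  43, 44, 214, 215, 46, 217, 49, 50, 218, 52, 53, 55, 219, 220, 56, 222, 59, 60, 223, 62, 63, 65, 224, 66, 67,
  69, 70, 225, 71, 72, 74, 75, 76, 77, 237, 117, 118, 123, 127, 132, 144, 138, 149, 153, 156, 159, 160, 11]

/-- the weights of the roots -/
def WT : List ℕ := [4, 6, 7, 8, 8, 8, 8, 8, 8, 8, 8, 9, 10, 12, 9, 9, 9, 9, 10, 11, 13, 9, 9, 10, 11, 13, 9, 10, 11, 13, 10, 11,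
  13, 12, 14, 15, 9, 10, 11, 13, 10, 11, 13, 12, 14, 15, 10, 11, 13, 12, 14, 15, 12, 14, 15, 16, 10, 11, 13, 12,
  14, 15, 12, 14, 15, 16, 12, 14, 15, 16, 16, 12, 14, 15, 16, 16, 16, 16, 11, 12, 14, 13, 15, 16, 13, 15, 16, 0,
  13, 15, 16, 0, 0, 13, 15, 16, 0, 0, 0, 13, 15, 16, 0, 0, 0, 13, 15, 16, 0, 0, 13, 15, 16, 0, 13, 15, 16, 14,
  16, 15, 2, 1, 3, 1, 2, 4, 0, 1, 2, 4, 0, 0, 1, 2, 4, 0, 0, 0, 1, 2, 4, 0, 0, 0, 1, 2, 4, 0, 0, 1, 2, 4, 0, 1,
  2, 4, 1, 2, 4, 3, 5, 6, 1, 1, 1, 1, 2, 3, 5, 1, 1, 2, 3, 5, 1, 2, 3, 5, 2, 3, 5, 4, 6, 7, 1, 2, 3, 5, 2, 3, 5,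
  4, 6, 7, 2, 3, 5, 4, 6, 7, 4, 6, 7, 8, 2, 3, 5, 4, 6, 7, 4, 6, 7, 8, 4, 6, 7, 8, 8, 4, 6, 7, 8, 8, 8, 8, 5, 7,
  8, 9, 9, 9, 9, 9, 9, 9, 9, 10, 11, 13]

/-- the permutation `w` -/
def wi (r : ℕ) : ℕ := WI.getD r 240

/-- the weight of a root -/
def wt (r : ℕ) : ℕ := WT.getD r 0

private theorem wi_eq : wi = gtL WI 240 := funext (gtL_eq WI (by decide +kernel) 240)

private theorem wt_eq : wt = gtL WT 0 := funext (gtL_eq WT (by decide +kernel) 0)

/-- the roots of weight 0 (type `D₄`) -/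
def D4L : List ℕ := [87, 91, 92, 96, 97, 98, 102, 103, 104, 108, 109, 113, 126, 130, 131, 135, 136, 137, 141, 142, 143,
  147, 148, 152]

/-- the roots orthogonal to those of weight 0 (type `D₄`) -/
def DPL : List ℕ := [0, 1, 2, 11, 12, 13, 78, 79, 80, 117, 118, 119, 120, 121, 122, 159, 160, 161, 226, 227, 228, 237,
  238, 239]

/-- the three orbits of `w` on `DPL` -/
def OG : List ℕ := [122, 1, 79, 227, 117, 238, 160, 12]

/-- the second orbit -/
def OA : List ℕ := [120, 0, 228, 118, 119, 239, 11, 121]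

/-- the third orbit -/
def OB : List ℕ := [2, 80, 78, 226, 237, 159, 161, 13]

/-- eight roots of weight 1: `e'₁ + e_{k+1}` (`k < 4`), `e'₁ - e_{k-3}` (`k ≥ 4`) -/
def PI (k : Fin 8) : ℕ := ![156, 153, 149, 138, 123, 127, 132, 144] k

/-- the index of the root `s_k - s_l` of `D4L` -/
def Tb (k l : Fin 8) : ℕ := ![![240, 126, 131, 143, 240, 152, 148, 137], ![113, 240, 130, 142, 152, 240, 147, 136],
  ![108, 109, 240, 141, 148, 147, 240, 135], ![96, 97, 98, 240, 137, 136, 135, 240],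
  ![240, 87, 91, 102, 240, 113, 108, 96], ![87, 240, 92, 103, 126, 240, 109, 97],
  ![91, 92, 240, 104, 131, 130, 240, 98], ![102, 103, 104, 240, 143, 142, 141, 240]] k l

/-- the eight-dimensional space -/
noncomputable def io (v : Fin 8 → KK) : LK := ∑ k, v k • er (PI k)

/-- the fixed space of `t` -/
def InM (v : LK) : Prop := ∀ r < 240, r ∉ D4L → co v r = 0

/-- the roots of `DPL` vanish -/
def Bad (v : LK) : Prop := ∀ r ∈ DPL, rv (hp v) r = 0

/-- toral elements -/
def Tor (h : LK) : Prop := ∀ v, brK h (brK h v) = brK h v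

/-- **the frame of the element `x` of order 17** -/
structure Fr32 (x : E2) (ζ : KK) (z t : GK) (Fp : LK → LK) (FG : GK → GK) : Prop where
  prim : IsPrimitiveRoot ζ 17
  conj : em x = z * t * z⁻¹
  /-- the torus element -/
  txr : ∀ r < 240, ∀ a, t * xr r a * t⁻¹ = xr r (ζ ^ wt r * a)
  ter : ∀ r < 240, aK t (er r) = ζ ^ wt r • er r
  thv : ∀ c, aK t (hv c) = hv c
  /-- the Frobenius map in frame coordinates -/
  add : ∀ u v, Fp (u + v) = Fp u + Fp v
  smul : ∀ (c : KK) u, Fp (c • u) = c ^ 2 • Fp u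
  br : ∀ u v, Fp (brK u v) = brK (Fp u) (Fp v)
  inj : Function.Injective Fp
  fer : ∀ r < 240, Fp (er r) = er (wi r)
  fhv : ∀ c, ∃ c', Fp (hv c) = hv c' ∧ ∀ r < 240, rv c' (wi r) = rv c r ^ 2
  frob : ∀ v, aK z⁻¹ (fr v) = Fp (aK z⁻¹ v)
  /-- the Frobenius map on the group in frame coordinates -/
  gmul : ∀ g h, FG (g * h) = FG g * FG h
  gxr : ∀ r < 240, ∀ a, FG (xr r a) = xr (wi r) (a ^ 2)
  gact : ∀ g v, Fp (aK g v) = aK (FG g) (Fp v)
  lift : ∀ g, FG g = g → ∃ e : E2, em e = z * g * z⁻¹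

/-! ### the relation between the notations -/

theorem E_eq (r : ℕ) : E r = er r := by
  funext a
  rcases a with i | s
  · unfold er
    split
    · rw [Pi.single_eq_of_ne (by simp)]; rfl
    · rfl
  · rw [Cfsg.Agent.H413.L16.er_inr, E_apply]
    by_cases h : s.val = r
    · rw [if_pos h, if_pos h.symm]
    · rw [if_neg h, if_neg (fun h' => h h'.symm)]

theorem xg_eq (r : ℕ) (a : KK) : xg r a = xr r a := rfl

end Cfsg.Agent.H525.D32
end

-- part: H525/D32/Frame
section
/-!
# S5916, dimension 32: the frame of an element of order 17 (helper525)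
-/

set_option autoImplicit false
set_option linter.unusedSectionVars false
set_option maxRecDepth 100000

namespace Cfsg.Agent.H525.D32

open CoxeterSystem Cfsg Cfsg.Lie Cfsg.Lie.ChevalleyDatum
open Cfsg.Agent.ChevalleyStructure Cfsg.Agent.ChevalleyStructure.Elts Cfsg.Agent.ChevalleyStructure.CoxeterGeom
  Cfsg.Agent.ChevalleyStructure.CoxeterGeomTypes Cfsg.Agent.ChevalleyStructure.NPerm
open Cfsg.Agent.Tits.Roots Cfsg.Agent.Tits.Core Cfsg.Agent.Nodes Cfsg.Agent.Nodes.Reps Cfsg.Agent.Nodes.BNOf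
  Cfsg.Agent.Nodes.RGDChev
open Cfsg.Agent.KFacts.RgdChevCoord Cfsg.Agent.BpExc.TorChev Cfsg.Agent.H129.TorusChar
open Cfsg.Agent.GpExc.Field (emb)
open Cfsg.Agent.H942.E8Tab Cfsg.Agent.H944.RootVals
open Cfsg.Agent.H939.L64 Cfsg.Agent.H876.L64
open Cfsg.Agent.H413.L64 (nsysKK locKK vl frame8z cX_eq_zpow)
open Cfsg.Agent.ChevalleyStructure.RootVec (rt)
open Cfsg.Agent.ChevalleyStructure.Columns (car cor)
open Cfsg.Agent.BpExc.TowChev
open Matrix

/-- the vector of the class (Bourbaki numbering) -/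
def Y32 : Fin 8 → ZMod 17 := ![1, 0, 0, 0, 0, 1, 1, 2]

local notation "csE" => CoxeterMatrix.E₈.toCoxeterSystem

theorem nact2 {i : Fin 8} {r : ℕ} (hr : r < 240) (a : KK) :
    nc e8T KK i * xc e8T (vec chevE8 8 r) a * (nc e8T KK i)⁻¹ =
      xc e8T (rep csE e8T.isCartan ((csE).simple i) (vec chevE8 8 r)) a := by
  have hr' : r < chevE8.nroots := by rw [nr]; exact hr
  rw [rep_vec e8T csE i hr']
  obtain ⟨η, hη, h⟩ := Cfsg.Agent.S1031.result (F := KK) chevE8 e8T.inList i r (lt_rank e8T i) hr'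
  have hη1 : ((η : ℤ) : KK) = 1 := by
    rcases hη with rfl | rfl
    · simp
    · simp [neg_self]
  refine Subtype.ext ?_
  rw [Subgroup.coe_mul, Subgroup.coe_mul, Subgroup.coe_inv, coe_xc e8T hr',
    coe_xc e8T (reflectRoot_lt e8T.inList (lt_rank e8T i) hr')]
  show nG e8T.inList (chevE8.simple i) 1 * _ * (nG e8T.inList (chevE8.simple i) 1)⁻¹ = _
  rw [mul_inv_eq_iff_eq_mul]
  apply Units.ext
  rw [Units.val_mul, Units.val_mul, coe_nG, coe_xG, coe_xG]
  have h1 := h a
  rw [hη1, one_mul] at h1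
  exact h1

/-- a simple reflection -/
def rs (i : Fin 8) (x : Fin 8 → ℤ) : Fin 8 → ℤ :=
  fun j => if j = i then x i - ∑ k, Cfsg.Agent.H897.T5UntwRow.A8 i k * x k else x j

theorem rep_rs (i : Fin 8) (x : Fin 8 → ℤ) : rep csE e8T.isCartan ((csE).simple i) x = rs i x := by
  have hA : ∀ i j, cartanOf chevE8 8 i j = Cfsg.Agent.H897.T5UntwRow.A8 i j := H897.T5UntwRow.frOK8.hA
  rw [rep_simple_eq]
  funext j
  rw [Pi.sub_apply, Pi.smul_apply, smul_eq_mul]
  unfold rs
  by_cases hj : j = i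
  · subst hj
    rw [sr_self, if_pos rfl, mul_one]
    congr 1
    unfold pairing
    exact Finset.sum_congr rfl fun k _ => by rw [← hA]; try ring
  · rw [sr_ne hj, if_neg hj, mul_zero, sub_zero]

theorem exists_m (L : List (Fin 8)) : ∃ (w : CoxeterMatrix.E₈.Group) (m : ↥(chevE8.group KK)),
    Rp csE nsysKK w m ∧ (∀ x, rep csE e8T.isCartan w x = L.foldr rs x) ∧
      ∀ r < 240, ∀ a, m * xc e8T (vec chevE8 8 r) a * m⁻¹ = xc e8T (rep csE e8T.isCartan w (vec chevE8 8 r)) a := by
  induction L with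
  | nil =>
    refine ⟨1, 1, rp_one, fun x => ?_, fun r _ a => ?_⟩
    · rw [map_one, Module.End.one_apply]; rfl
    · rw [map_one, Module.End.one_apply, one_mul, inv_one, mul_one]
  | cons i L ih =>
    obtain ⟨w, m, h1, h2, h3⟩ := ih
    refine ⟨(csE).simple i * w, nc e8T KK i * m, (rp_simple csE nsysKK i).mul h1, fun x => ?_, fun r hr a => ?_⟩
    · rw [rep_mul_apply, h2, rep_rs]; rfl
    · have e : nc e8T KK i * m * xc e8T (vec chevE8 8 r) a * (nc e8T KK i * m)⁻¹ =
          nc e8T KK i * (m * xc e8T (vec chevE8 8 r) a * m⁻¹) * (nc e8T KK i)⁻¹ := by group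
      have hroot : IsRoot csE e8T.isCartan (rep csE e8T.isCartan w (vec chevE8 8 r)) :=
        ((isRoot_iff e8T csE _).2 ⟨r, by rw [nr]; exact hr, rfl⟩).act w
      obtain ⟨r', hr', hv⟩ := (isRoot_iff e8T csE _).1 hroot
      have hr2 : r' < 240 := by rw [← nr]; exact hr'
      rw [e, h3 r hr, ← hv, nact2 hr2, hv, rep_mul_apply]

/-- the word of the twisting element -/
def wd : List (Fin 8) := [6, 0, 2, 3, 4, 5, 1, 3, 4, 2, 3, 0, 2, 1, 3, 4, 5, 6, 7, 6, 5, 4, 3, 2, 1, 3, 4, 5, 6, 0, 2, 3, 4, 5,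
  1, 3, 4, 2, 3, 0, 2, 1, 3, 4, 5, 6, 7]

/-- the images of the simple roots -/
def Wv (i : Fin 8) : Fin 8 → ℤ :=
  ![![1, 0, 1, 1, 1, 1, 0, 0], ![0, 0, 1, 0, 0, 0, 0, 0], ![0, 1, 0, 0, 0, 0, 0, 0], ![0, 0, 0, 1, 0, 0, 0, 0],
    ![0, 0, 0, 0, 1, 0, 0, 0], ![0, 0, 0, 0, 0, 1, 1, 0], ![0, 0, 0, 0, 0, 0, 0, 1],
    ![-2, -3, -4, -6, -5, -4, -3, -2]] i

/-- the twisting element as a linear map -/
def wl (x : Fin 8 → ℤ) : Fin 8 → ℤ := fun j => ∑ i, x i * Wv i j

theorem wd_sr : ∀ i : Fin 8, wd.foldr rs (Pi.single i 1) = Wv i := by decide +kernel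

theorem frame {x : E2} {ζ : KK} (h : TorZ x 17 Y32 ζ) : ∃ z t m : ↥(chevE8.group KK), z⁻¹ * em x * z = t ∧
    t ∈ TT chevE8 KK ∧ (∀ a, cX e8T t a = ζ ^ vl Y32 a) ∧ Cfsg.Agent.BpExc.FamUntw.phi chevE8 KK 2 1 z = z * m ∧
    m ∈ Subgroup.normalizer (TT chevE8 KK : Set ↥(chevE8.group KK)) ∧
    ∀ r < 240, ∀ a, m * xg r a * m⁻¹ = xc e8T (wl (vec chevE8 8 r)) a := by
  obtain ⟨w, m, h1, h2, h3⟩ := exists_m wd
  obtain ⟨hζ, z0, t, hz0, ht, hv⟩ := h
  have hcard : Nat.card (ZMod 2) = 2 ^ 1 := by simp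
  have hsr : ∀ i : Fin 8, rep csE e8T.isCartan w (sr i) = Wv i := fun i => by rw [h2]; exact wd_sr i
  have hw : ∀ i, (17 : ℤ) ∣ vl Y32 (rep csE e8T.isCartan w (sr i)) - ((2 ^ 1 : ℕ) : ℤ) * vl Y32 (sr i) := by
    have h4 : ∀ i : Fin 8, (17 : ℤ) ∣ vl Y32 (Wv i) - ((2 ^ 1 : ℕ) : ℤ) * vl Y32 (Pi.single i 1) := by decide +kernel
    intro i
    rw [hsr]
    exact h4 i
  obtain ⟨z, hz, hzm⟩ := frame8z 2 1 hcard (by norm_num) (by norm_num) locKK one_pos hζ hz0 ht hv hw h1
  refine ⟨z, t, m, hz, ht, cX_eq_zpow ht (hζ.ne_zero (by norm_num)) hv, by rw [← hzm]; group, h1.mem_normalizer, ?_⟩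
  intro r hr a
  show m * xc e8T (vec chevE8 8 r) a * m⁻¹ = _
  rw [h3 r hr]
  congr 1
  have h5 : ∀ y : Fin 8 → ℤ, rep csE e8T.isCartan w y = wl y := by
    intro y
    have h6 : y = ∑ i, y i • (sr i : Fin 8 → ℤ) := by
      funext j
      rw [Finset.sum_apply, Finset.sum_eq_single j]
      · rw [Pi.smul_apply, sr_self, smul_eq_mul, mul_one]
      · intro b _ hb
        rw [Pi.smul_apply, sr_ne hb.symm, smul_zero]
      · intro h; exact absurd (Finset.mem_univ _) h
    conv_lhs => rw [h6]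
    rw [map_sum]
    funext j
    rw [Finset.sum_apply]
    exact Finset.sum_congr rfl fun i _ => by rw [map_zsmul, hsr, Pi.smul_apply, smul_eq_mul]
  exact h5 _

end Cfsg.Agent.H525.D32
end

-- part: H525/D32/Act
section
/-!
# S5916, dimension 32: existence of the frame (helper525)
-/

set_option autoImplicit false
set_option linter.unusedSectionVars false
set_option maxRecDepth 100000

namespace Cfsg.Agent.H525.D32

open CoxeterSystem Cfsg Cfsg.Lie Cfsg.Lie.ChevalleyDatum
open Cfsg.Agent.ChevalleyStructure Cfsg.Agent.ChevalleyStructure.Elts Cfsg.Agent.ChevalleyStructure.CoxeterGeom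
  Cfsg.Agent.ChevalleyStructure.CoxeterGeomTypes Cfsg.Agent.ChevalleyStructure.NPerm
open Cfsg.Agent.Tits.Roots Cfsg.Agent.Tits.Core Cfsg.Agent.Nodes Cfsg.Agent.Nodes.Reps Cfsg.Agent.Nodes.BNOf
  Cfsg.Agent.Nodes.RGDChev
open Cfsg.Agent.KFacts.RgdChevCoord Cfsg.Agent.BpExc.TorChev Cfsg.Agent.H129.TorusChar
open Cfsg.Agent.GpExc.Field (emb)
open Cfsg.Agent.H942.E8Tab Cfsg.Agent.H944.RootVals
open Cfsg.Agent.H939.L64 Cfsg.Agent.H876.L64
open Cfsg.Agent.ChevalleyStructure.RootVec (rt)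
open Cfsg.Agent.ChevalleyStructure.LieAut Cfsg.Agent.ChevalleyStructure.LieAbs
open Cfsg.Agent.ChevalleyStructure.Columns (car cor)
open Cfsg.Agent.H413.L16 (er hv hr xr nn tg br_hv ad_inj er_of er_ge br_rr br_neg aK_xr coe_xr)
open Matrix

/-- the Frobenius map of the group -/
noncomputable def sF (g : GK) : GK := Cfsg.Agent.BpExc.FamUntw.phi chevE8 KK 2 1 g

theorem sF_mul (g h : GK) : sF (g * h) = sF g * sF h := map_mul _ _ _

theorem sF_inv (g : GK) : sF g⁻¹ = (sF g)⁻¹ := map_inv _ _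

theorem sF_entry (g : GK) (i j : chevE8.Idx) :
    (((sF g : GK) : GL chevE8.Idx KK) : Matrix chevE8.Idx chevE8.Idx KK) i j =
      (((g : GK) : GL chevE8.Idx KK) : Matrix chevE8.Idx chevE8.Idx KK) i j ^ 2 := by
  unfold sF
  rw [Cfsg.Agent.H378.TorFin.phi_glMap, Cfsg.Agent.GpExc.Field.coe_glMap, Matrix.map_apply,
    Cfsg.Agent.H378.TorFin.frobHom_apply, pow_one]

theorem fr_add (u v : LK) : fr (u + v) = fr u + fr v := by
  funext i
  exact add_pow_char (u i) (v i) 2

theorem fr_smul (c : KK) (v : LK) : fr (c • v) = c ^ 2 • fr v := by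
  funext i
  show (c * v i) ^ 2 = c ^ 2 * v i ^ 2
  ring

theorem sum_sq {ι : Type*} (s : Finset ι) (f : ι → KK) : (∑ i ∈ s, f i) ^ 2 = ∑ i ∈ s, f i ^ 2 := by
  rw [← frobenius_def, map_sum]
  rfl

theorem fr_aK (g : GK) (v : LK) : fr (aK g v) = aK (sF g) (fr v) := by
  funext i
  show (∑ j, _ * v j) ^ 2 = ∑ j, _ * v j ^ 2
  rw [sum_sq]
  refine Finset.sum_congr rfl fun j _ => ?_
  rw [sF_entry, mul_pow]

theorem int_sq (n : ℤ) : ((n : ℤ) : KK) ^ 2 = n := by
  rw [← frobenius_def, map_intCast]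

theorem br_entry (u x : LK) (i : chevE8.Idx) : brK u x i = ∑ k, (∑ j, u j * adR chevE8 KK j i k) * x k := by
  show (∑ k, (adv (adR chevE8 KK) u) i k * x k) = _
  refine Finset.sum_congr rfl fun k _ => ?_
  unfold adv
  rw [Matrix.sum_apply]
  rfl

theorem adR_sq (j i k : chevE8.Idx) : adR chevE8 KK j i k ^ 2 = adR chevE8 KK j i k := by
  rw [adR_def, Matrix.map_apply]
  exact int_sq _

theorem fr_br (v w : LK) : fr (brK v w) = brK (fr v) (fr w) := by
  funext i
  have e : fr (brK v w) i = (brK v w i) ^ 2 := rfl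
  rw [e, br_entry, br_entry, sum_sq]
  refine Finset.sum_congr rfl fun k _ => ?_
  rw [mul_pow, sum_sq]
  refine congrArg₂ (· * ·) (Finset.sum_congr rfl fun j _ => ?_) rfl
  rw [mul_pow, adR_sq]
  rfl

theorem fr_er {r : ℕ} (hr : r < 240) : fr (er r) = er r := by
  funext a
  rw [er_of (by rw [Cfsg.Agent.H413.L16.nr]; exact hr)]
  show (Pi.single (Sum.inr (⟨r, _⟩ : Fin chevE8.nroots)) 1 : LK) a ^ 2 = _
  by_cases h : a = Sum.inr ⟨r, by rw [Cfsg.Agent.H413.L16.nr]; exact hr⟩
  · rw [h, Pi.single_eq_same, one_pow]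
  · rw [Pi.single_eq_of_ne h]
    exact zero_pow two_ne_zero

theorem fr_hv (c : Fin chevE8.rank → KK) : fr (hv c) = hv (fun i => c i ^ 2) := by
  funext a
  rcases a with i | s
  · rfl
  · exact zero_pow two_ne_zero

theorem fr_inj : Function.Injective fr := by
  intro u v h
  funext i
  have h1 : frobenius KK 2 (u i) = frobenius KK 2 (v i) := congrFun h i
  exact (frobenius_inj KK 2) h1

theorem aK_injective (g : GK) : Function.Injective (aK g) := fun u v h => by
  rw [← aK_inv' g u, h, aK_inv']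

/-- the action of an element permuting the root subgroups -/
theorem aK_er_of {m : GK} {r s : ℕ} (hr : r < 240) (hs : s < 240) (h : ∀ a, m * xr r a * m⁻¹ = xr s a) :
    aK m (er r) = er s := by
  have key : ∀ v : LK, brK (aK m (er r)) v = brK (er s) v := by
    intro v
    have h1 : ∀ a : KK, aK (xr s a) v = v + a • brK (aK m (er r)) v + a ^ 2 • ((aK m⁻¹ v)
        (Sum.inr ⟨239 - r, by rw [Cfsg.Agent.H413.L16.nr]; omega⟩) • aK m (er r)) := by
      intro a
      rw [← h a, aK_mul, aK_mul, aK_xr hr, aK_add, aK_add, aK_smul, aK_smul, aK_brK, aK_inv, mul_smul]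
    have h2 := (br_of (v := v) hs (a := brK (aK m (er r)) v) (b := (aK m⁻¹ v)
        (Sum.inr ⟨239 - r, by rw [Cfsg.Agent.H413.L16.nr]; omega⟩) • aK m (er r)) (fun a => by rw [xg_eq, h1 a])).1
    rw [← h2, E_eq]
  have h3 : aK m (er r) + er s = 0 := by
    apply ad_inj
    intro v
    rw [brK_add_left, key, lk_add_self]
  have h4 : aK m (er r) = aK m (er r) + (er s + er s) := by rw [lk_add_self, add_zero]
  rw [h4, ← add_assoc, h3, zero_add]

/-! ### the Cartan subalgebra -/

theorem hp_hv (c : Fin chevE8.rank → KK) : hp (hv c) = c := rfl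

theorem co_er {r s : ℕ} (hr : r < 240) : co (er r) s = if s = r then 1 else 0 := by
  unfold co
  split_ifs with h1 h2 h2
  · rw [Cfsg.Agent.H413.L16.er_inr, if_pos h2.symm]
  · rw [Cfsg.Agent.H413.L16.er_inr, if_neg (fun h => h2 h.symm)]
  · exact absurd (by rw [h2, nr]; exact hr) h1
  · rfl

theorem co_hv (c : Fin chevE8.rank → KK) (s : ℕ) : co (hv c) s = 0 := by
  unfold co
  split_ifs <;> rfl

theorem dec' (v : LK) : v = hv (hp v) + ∑ s : Fin chevE8.nroots, co v s.val • er s.val := by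
  conv_lhs => rw [dec v]
  refine congrArg₂ HAdd.hAdd rfl ?_
  refine Finset.sum_congr rfl fun s _ => ?_
  rw [E_eq]
  refine congrArg₂ HSMul.hSMul ?_ rfl
  unfold co
  rw [dif_pos s.2]

/-- equality of vectors by coordinates -/
theorem lk_ext {u v : LK} (h1 : hp u = hp v) (h2 : ∀ r < 240, co u r = co v r) : u = v := by
  funext a
  rcases a with i | s
  · exact congrFun h1 i
  · have hs : s.val < 240 := lt_of_lt_of_eq s.2 nr
    have h3 := h2 s.val hs
    unfold co at h3
    rw [dif_pos s.2, dif_pos s.2] at h3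
    exact h3

/-- the Cartan part of the bracket with `e_{-r}` -/
theorem hp_br_neg (v : LK) {r : ℕ} (hr' : r < 240) : hp (brK v (er (239 - r))) = co v r • hp (hr r) := by
  conv_lhs => rw [dec' v]
  rw [brK_add_left, br_hv _ (by omega), brK_sum_left, hp_add, hp_smul]
  have h0 : ∀ s, hp (er s) = 0 := fun s => by rw [← E_eq]; rfl
  rw [h0, smul_zero, zero_add]
  funext i
  have h1 : hp (∑ s : Fin chevE8.nroots, brK (co v s.val • er s.val) (er (239 - r))) i =
      ∑ s : Fin chevE8.nroots, hp (brK (co v s.val • er s.val) (er (239 - r))) i := by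
    show (∑ s : Fin chevE8.nroots, brK (co v s.val • er s.val) (er (239 - r))) (Sum.inl i) = _
    rw [Finset.sum_apply]
    rfl
  rw [h1, Finset.sum_eq_single (⟨r, by rw [nr]; exact hr'⟩ : Fin chevE8.nroots)]
  · rw [brK_smul_left, br_neg hr', hp_smul]
  · intro b _ hb
    have hb' : b.val < 240 := lt_of_lt_of_eq b.2 nr
    rw [brK_smul_left, br_rr hb' (by omega) (fun h => hb (Fin.ext (by show b.val = r; omega))), hp_smul, h0, smul_zero]
    rfl
  · intro h; exact absurd (Finset.mem_univ _) h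

theorem crt_ne {r : ℕ} (hr' : r < 240) : hp (hr r) ≠ 0 := by
  intro h
  have h1 : hr r = 0 := by
    have : hr r = hv (hp (hr r)) := rfl
    rw [this, h]
    funext a
    rcases a with i | s <;> rfl
  -- apply the root element
  have h2 := Cfsg.Agent.H413.L16.aK_nn_neg hr'
  have h3 := Cfsg.Agent.H413.L16.odd_all
  have h4 : ((List.range 240).all fun s => (List.range 8).any fun i => decide (cor chevE8 s i % 2 ≠ 0)) = true := by
    (delta Cfsg.Agent.ChevalleyStructure.Columns.cor; rewrite [Cfsg.Agent.ChevFast.E8.coroot]; (first | (set_option backward.isDefEq.respectTransparency.types false in set_option synthInstance.maxSize 99999 in (exact _root_.Cfsg.Agent.FastDec.of (by decide +kernel))) | decide +kernel))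
  obtain ⟨i, hi, h5⟩ := List.any_eq_true.1 (List.all_eq_true.1 h4 r (List.mem_range.2 hr'))
  have hi' : i < chevE8.rank := by rw [rk]; exact List.mem_range.1 hi
  have h6 := congrFun h (⟨i, hi'⟩ : Fin chevE8.rank)
  have h7 : hp (hr r) ⟨i, hi'⟩ = ((cor chevE8 r i : ℤ) : KK) := rfl
  rw [h7, Cfsg.Agent.H413.L16.cast_odd (of_decide_eq_true h5)] at h6
  exact one_ne_zero h6

/-- an element of the Lie algebra acting diagonally on all root vectors -/
theorem cart_of {w : LK} (h : ∀ s < 240, ∃ c : KK, brK w (er s) = c • er s) : w = hv (hp w) := by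
  refine lk_ext (u := w) (v := hv (hp w)) rfl fun r hr' => ?_
  rw [co_hv]
  obtain ⟨c, hc⟩ := h (239 - r) (by omega)
  have h1 := hp_br_neg w hr'
  have h0 : ∀ s, hp (er s) = 0 := fun s => by rw [← E_eq]; rfl
  rw [hc, hp_smul, h0, smul_zero] at h1
  by_contra h2
  have h3 := h1.symm
  rcases smul_eq_zero.1 h3 with h4 | h4
  · exact h2 h4
  · exact crt_ne hr' h4

/-! ### the tables -/

theorem wi_spec : ((List.range 240).all fun r => decide (wi r < 240) && (List.finRange 8).all fun j =>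
    decide (wl (vec chevE8 8 r) j = vec chevE8 8 (wi r) j)) = true := by
  rw [wi_eq]
  (first | (set_option backward.isDefEq.respectTransparency.types false in set_option synthInstance.maxSize 99999 in (delta _root_.Cfsg.Agent.Nodes.RGDChev.vec _root_.Cfsg.Agent.ChevalleyStructure.RootVec.rt _root_.Cfsg.Agent.ChevalleyStructure.RootVecTab.code _root_.Cfsg.Agent.ChevalleyStructure.RootVecTab.packTab _root_.Cfsg.Agent.ChevalleyStructure.RootVecTab.dig _root_.Cfsg.Agent.H525.D32.wl _root_.Cfsg.Agent.H525.D32.Wv _root_.Cfsg.Agent.gtL; exact _root_.Cfsg.Agent.FastDec.of (by decide +kernel))) | decide +kernel)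

theorem wi_lt {r : ℕ} (hr : r < 240) : wi r < 240 := by
  have h := List.all_eq_true.1 wi_spec r (List.mem_range.2 hr)
  rw [Bool.and_eq_true, decide_eq_true_iff] at h
  exact h.1

theorem wl_vec {r : ℕ} (hr : r < 240) : wl (vec chevE8 8 r) = vec chevE8 8 (wi r) := by
  have h := List.all_eq_true.1 wi_spec r (List.mem_range.2 hr)
  rw [Bool.and_eq_true] at h
  funext j
  exact of_decide_eq_true (List.all_eq_true.1 h.2 j (List.mem_finRange j))

theorem wi_surj_spec : ((List.range 240).all fun s => (List.range 240).any fun r => decide (wi r = s)) = true := by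
  have h : ∀ s < 240, wi^[7] s < 240 ∧ wi (wi^[7] s) = s := by
    rw [wi_eq]
    decide +kernel
  exact List.all_eq_true.2 fun s hs => List.any_eq_true.2 ⟨_, List.mem_range.2 (h s (List.mem_range.1 hs)).1,
    decide_eq_true (h s (List.mem_range.1 hs)).2⟩

theorem wi_surj {s : ℕ} (hs : s < 240) : ∃ r < 240, wi r = s := by
  obtain ⟨r, h1, h2⟩ := List.any_eq_true.1 (List.all_eq_true.1 wi_surj_spec s (List.mem_range.2 hs))
  exact ⟨r, List.mem_range.1 h1, of_decide_eq_true h2⟩

theorem wt_spec : ((List.range 240).all fun r => decide ((17 : ℤ) ∣ Cfsg.Agent.H413.L64.vl Y32 (vec chevE8 8 r) - (wt r : ℤ))) =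
    true := by
  rw [wt_eq]
  (first | (set_option backward.isDefEq.respectTransparency.types false in set_option synthInstance.maxSize 99999 in (delta _root_.Cfsg.Agent.gtL _root_.Cfsg.Agent.Nodes.RGDChev.vec _root_.Cfsg.Agent.ChevalleyStructure.RootVec.rt _root_.Cfsg.Agent.ChevalleyStructure.RootVecTab.code _root_.Cfsg.Agent.ChevalleyStructure.RootVecTab.packTab _root_.Cfsg.Agent.ChevalleyStructure.RootVecTab.dig _root_.Cfsg.Agent.H525.D32.Y32 _root_.Cfsg.Agent.H413.L64.vl; exact _root_.Cfsg.Agent.FastDec.of (by decide +kernel))) | decide +kernel)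

theorem wt_vl {r : ℕ} (hr : r < 240) : (17 : ℤ) ∣ Cfsg.Agent.H413.L64.vl Y32 (vec chevE8 8 r) - (wt r : ℤ) :=
  of_decide_eq_true (List.all_eq_true.1 wt_spec r (List.mem_range.2 hr))

theorem zpow_wt {ζ : KK} (hζ : IsPrimitiveRoot ζ 17) {r : ℕ} (hr : r < 240) :
    ζ ^ Cfsg.Agent.H413.L64.vl Y32 (vec chevE8 8 r) = ζ ^ wt r := by
  have h0 : ζ ≠ 0 := hζ.ne_zero (by norm_num)
  have h1 := (hζ.zpow_eq_one_iff_dvd _).2 (wt_vl hr)
  rw [zpow_sub₀ h0, zpow_natCast, div_eq_one_iff_eq (pow_ne_zero _ h0)] at h1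
  exact h1

/-- **existence of the frame** -/
theorem exists_Fr32 {x : E2} {ζ : KK} (h : TorZ x 17 Y32 ζ) : ∃ (z t : GK) (Fp : LK → LK) (FG : GK → GK),
    Fr32 x ζ z t Fp FG := by
  have hζ : IsPrimitiveRoot ζ 17 := h.1
  obtain ⟨z, t, m, h1, ht, h2, h3, h4, h5⟩ := frame h
  have h3' : sF z = z * m := h3
  have hcX : ∀ {r : ℕ}, r < 240 → cX e8T t (vec chevE8 8 r) = ζ ^ wt r := fun hr => by rw [h2, zpow_wt hζ hr]
  have hm : ∀ r < 240, ∀ a, m * xr r a * m⁻¹ = xr (wi r) a := by
    intro r hr' a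
    have := h5 r hr' a
    rw [wl_vec hr'] at this
    exact this
  have hme : ∀ r < 240, aK m (er r) = er (wi r) := fun r hr' => aK_er_of hr' (wi_lt hr') (hm r hr')
  refine ⟨z, t, fun v => aK m (fr v), fun g => m * sF g * m⁻¹, ?_⟩
  have hconj : em x = z * t * z⁻¹ := by rw [← h1]; group
  refine ⟨hζ, hconj, ?_, ?_, ?_, ?_, ?_, ?_, ?_, ?_, ?_, ?_, ?_, ?_, ?_, ?_⟩
  · intro r hr' a
    have hr2 : r < chevE8.nroots := by rw [nr]; exact hr'
    have h6 := (act e8T hr2 ht).2 a
    rw [← cX_vec e8T ht hr2, hcX hr'] at h6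
    exact h6
  · intro r hr'
    have hr2 : r < chevE8.nroots := by rw [nr]; exact hr'
    funext i
    rw [aK_tor ht, Pi.smul_apply, smul_eq_mul]
    rcases i with i | s
    · have : er r (Sum.inl i) = 0 := by rw [← E_eq]; rfl
      rw [this, mul_zero, mul_zero]
    · rw [Sum.elim_inr, Cfsg.Agent.H413.L16.er_inr]
      by_cases hs : r = s.val
      · rw [if_pos hs, mul_one, mul_one, ← hs, hcX hr']
      · rw [if_neg hs, mul_zero, mul_zero]
  · intro c
    funext i
    rw [aK_tor ht]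
    rcases i with i | s
    · rw [Sum.elim_inl, one_mul]
    · show _ * (0 : KK) = 0
      rw [mul_zero]
  · intro u v
    show aK m (fr (u + v)) = aK m (fr u) + aK m (fr v)
    rw [fr_add, aK_add]
  · intro c u
    show aK m (fr (c • u)) = c ^ 2 • aK m (fr u)
    rw [fr_smul, aK_smul]
  · intro u v
    show aK m (fr (brK u v)) = brK (aK m (fr u)) (aK m (fr v))
    rw [fr_br, aK_brK]
  · intro u v huv
    exact fr_inj (aK_injective m huv)
  · intro r hr'
    show aK m (fr (er r)) = er (wi r)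
    rw [fr_er hr', hme r hr']
  · intro c
    have h6 : ∀ s < 240, ∃ r < 240, wi r = s ∧ brK (aK m (fr (hv c))) (er s) = rv c r ^ 2 • er s := by
      intro s hs
      obtain ⟨r, hr', rfl⟩ := wi_surj hs
      refine ⟨r, hr', rfl, ?_⟩
      rw [← hme r hr', ← aK_brK, fr_hv, br_hv _ hr', aK_smul]
      refine congrArg₂ HSMul.hSMul ?_ rfl
      unfold rv
      rw [sum_sq]
      exact Finset.sum_congr rfl fun i _ => by rw [mul_pow, int_sq]
    have h7 := cart_of (w := aK m (fr (hv c))) fun s hs => by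
      obtain ⟨r, -, -, h8⟩ := h6 s hs
      exact ⟨_, h8⟩
    refine ⟨_, h7, fun r hr' => ?_⟩
    have hw := wi_lt hr'
    have h8 : brK (aK m (fr (hv c))) (er (wi r)) = rv c r ^ 2 • er (wi r) := by
      rw [← hme r hr', ← aK_brK, fr_hv, br_hv _ hr', aK_smul]
      refine congrArg₂ HSMul.hSMul ?_ rfl
      unfold rv
      rw [sum_sq]
      exact Finset.sum_congr rfl fun i _ => by rw [mul_pow, int_sq]
    rw [h7, br_hv _ hw] at h8
    have h9 := congrArg (fun v => co v (wi r)) h8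
    simp only [co_smul, co_er hw, if_true, mul_one] at h9
    exact h9
  · intro v
    show aK z⁻¹ (fr v) = aK m (fr (aK z⁻¹ v))
    rw [fr_aK, sF_inv, h3', ← aK_mul]
    refine congrArg₂ aK ?_ rfl
    group
  · intro g k
    show m * sF (g * k) * m⁻¹ = m * sF g * m⁻¹ * (m * sF k * m⁻¹)
    rw [sF_mul]
    group
  · intro r hr' a
    show m * sF (xr r a) * m⁻¹ = xr (wi r) (a ^ 2)
    have h6 : sF (xr r a) = xr r (a ^ 2) := by
      have := Cfsg.Agent.H378.TorChar.phi_xc e8T 2 (m := 1) (s := r) (by rw [nr]; exact hr') a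
      rw [pow_one] at this
      exact this
    rw [h6, hm r hr']
  · intro g v
    show aK m (fr (aK g v)) = aK (m * sF g * m⁻¹) (aK m (fr v))
    rw [fr_aK, ← aK_mul, ← aK_mul]
    refine congrArg₂ aK ?_ rfl
    group
  · intro g hg
    have hg' : m * sF g * m⁻¹ = g := hg
    have hcard : Nat.card (ZMod 2) = 2 ^ 1 := by simp
    obtain ⟨e, he⟩ := Cfsg.Agent.H378.TorFin.fix_mem e8T (algebraMap (ZMod 2) KK) 2 hcard
      Cfsg.Agent.BpExc.FamInst.inv_E8 (y := z * g * z⁻¹) (by
      show sF (z * g * z⁻¹) = z * g * z⁻¹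
      rw [sF_mul, sF_mul, sF_inv, h3']
      calc z * m * sF g * (z * m)⁻¹ = z * (m * sF g * m⁻¹) * z⁻¹ := by group
        _ = _ := by rw [hg'])
    exact ⟨e, he⟩

end Cfsg.Agent.H525.D32
end

-- part: H525/D32/Fix
section
/-!
# S5916, dimension 32: the fixed space of the element of order 17 (helper525)
-/

set_option autoImplicit false
set_option linter.unusedSectionVars false
set_option maxRecDepth 100000

namespace Cfsg.Agent.H525.D32

open Matrix Cfsg Cfsg.Lie Cfsg.Agent.H939.L64 Cfsg.Agent.H876.L64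
open Cfsg.Agent.ChevalleyStructure.Columns (car cor)
open Cfsg.Agent.H413.L16 (er hv hr xr nn tg br_hv ad_inj er_of er_ge br_rr br_neg aK_xr br_hh br_comm)

theorem aK_sum (g : GK) {ι : Type*} (s : Finset ι) (f : ι → LK) : aK g (∑ i ∈ s, f i) = ∑ i ∈ s, aK g (f i) :=
  mulVec_sum' _ s f

theorem brK_sum_right {ι : Type*} (s : Finset ι) (f : ι → LK) (w : LK) : brK w (∑ i ∈ s, f i) = ∑ i ∈ s, brK w (f i) := by
  classical
  induction s using Finset.induction_on with
  | empty => rw [Finset.sum_empty, Finset.sum_empty, brK_zero_right]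
  | insert a s ha ih => rw [Finset.sum_insert ha, Finset.sum_insert ha, brK_add_right, ih]

theorem co_zero (r : ℕ) : co 0 r = 0 := by
  unfold co
  split_ifs <;> rfl

theorem co_sum {ι : Type*} (s : Finset ι) (f : ι → LK) (r : ℕ) : co (∑ i ∈ s, f i) r = ∑ i ∈ s, co (f i) r := by
  classical
  induction s using Finset.induction_on with
  | empty => rw [Finset.sum_empty, Finset.sum_empty, co_zero]
  | insert a s ha ih => rw [Finset.sum_insert ha, Finset.sum_insert ha, co_add, ih]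

theorem hp_sum {ι : Type*} (s : Finset ι) (f : ι → LK) : hp (∑ i ∈ s, f i) = ∑ i ∈ s, hp (f i) := by
  classical
  induction s using Finset.induction_on with
  | empty => rfl
  | insert a s ha ih => rw [Finset.sum_insert ha, Finset.sum_insert ha, hp_add, ih]

theorem hp_er (s : ℕ) : hp (er s) = 0 := by rw [← E_eq]; rfl

theorem lt240 (s : Fin chevE8.nroots) : s.val < 240 := lt_of_lt_of_eq s.2 nr

theorem co_mk (c : ℕ → KK) (h : Fin chevE8.rank → KK) {r : ℕ} (hr : r < 240) :
    co (hv h + ∑ s : Fin chevE8.nroots, c s.val • er s.val) r = c r := by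
  rw [co_add, co_hv, zero_add, co_sum, Finset.sum_eq_single (⟨r, by rw [nr]; exact hr⟩ : Fin chevE8.nroots)]
  · rw [co_smul, co_er hr, if_pos rfl, mul_one]
  · intro b _ hb
    rw [co_smul, co_er (lt240 b), if_neg (fun h => hb (Fin.ext h.symm)), mul_zero]
  · intro h; exact absurd (Finset.mem_univ _) h

theorem hp_mk (c : ℕ → KK) (h : Fin chevE8.rank → KK) :
    hp (hv h + ∑ s : Fin chevE8.nroots, c s.val • er s.val) = h := by
  rw [hp_add, hp_hv, hp_sum, Finset.sum_eq_zero (fun b _ => by rw [hp_smul, hp_er, smul_zero]), add_zero]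

section

variable {x : E2} {ζ : KK} {z t : GK} {Fp : LK → LK} {FG : GK → GK}

theorem aK_t (R : Fr32 x ζ z t Fp FG) (v : LK) :
    aK t v = hv (hp v) + ∑ s : Fin chevE8.nroots, (ζ ^ wt s.val * co v s.val) • er s.val := by
  conv_lhs => rw [dec' v]
  rw [aK_add, R.thv, aK_sum]
  refine congrArg₂ HAdd.hAdd rfl ?_
  refine Finset.sum_congr rfl fun s _ => ?_
  rw [aK_smul, R.ter _ (lt240 s), smul_smul, mul_comm]

theorem co_t (R : Fr32 x ζ z t Fp FG) (v : LK) {r : ℕ} (hr : r < 240) : co (aK t v) r = ζ ^ wt r * co v r := by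
  rw [aK_t R]
  exact co_mk (fun s => ζ ^ wt s * co v s) _ hr

theorem hp_t (R : Fr32 x ζ z t Fp FG) (v : LK) : hp (aK t v) = hp v := by
  rw [aK_t R]
  exact hp_mk (fun s => ζ ^ wt s * co v s) _

theorem wt_table : ((List.range 240).all fun r => decide (wt r < 17) && decide (wt r = 0 ↔ r ∈ D4L)) = true := by
  rw [wt_eq]
  (first | (set_option backward.isDefEq.respectTransparency.types false in set_option synthInstance.maxSize 99999 in (delta _root_.Cfsg.Agent.gtL; exact _root_.Cfsg.Agent.FastDec.of (by decide +kernel))) | decide +kernel)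

theorem wt_zero {r : ℕ} (hr : r < 240) : wt r = 0 ↔ r ∈ D4L := by
  have h := List.all_eq_true.1 wt_table r (List.mem_range.2 hr)
  rw [Bool.and_eq_true] at h
  exact of_decide_eq_true h.2

theorem wt_lt {r : ℕ} (hr : r < 240) : wt r < 17 := by
  have h := List.all_eq_true.1 wt_table r (List.mem_range.2 hr)
  rw [Bool.and_eq_true] at h
  exact of_decide_eq_true h.1

theorem fix_InM (R : Fr32 x ζ z t Fp FG) (v : LK) : aK t v = v ↔ InM v := by
  constructor
  · intro h r hr hD
    have h1 := co_t R v hr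
    rw [h] at h1
    have h2 : ζ ^ wt r ≠ 1 := fun h3 => by
      have h4 := (R.prim.pow_eq_one_iff_dvd _).1 h3
      have h5 := wt_lt hr
      have h6 : wt r = 0 := Nat.eq_zero_of_dvd_of_lt h4 h5
      exact hD ((wt_zero hr).1 h6)
    by_contra h3
    exact h2 (mul_right_cancel₀ h3 (by rw [← h1, one_mul]))
  · intro h
    refine lk_ext (hp_t R v) fun r hr => ?_
    rw [co_t R v hr]
    by_cases hD : r ∈ D4L
    · rw [(wt_zero hr).2 hD, pow_zero, one_mul]
    · rw [h r hr hD, mul_zero]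

theorem rE_fix (R : Fr32 x ζ z t Fp FG) (v : LK) : rE x v = v ↔ InM (aK z⁻¹ v) := by
  rw [fix_iff R.conj, fix_InM R]

end

/-! ### roots of `DPL` -/

theorem dp_table : (DPL.all fun r => decide (r < 240) && decide (239 - r ∈ DPL) && !decide (r ∈ D4L) &&
    D4L.all fun s => decide (s < 240) && decide (tg s r = 240) && decide (r ≠ 239 - s) && decide (239 - s ∈ D4L)) = true := by
  rw [tg_eq]
  decide +kernel

theorem dp_spec {r : ℕ} (hr : r ∈ DPL) : r < 240 ∧ 239 - r ∈ DPL ∧ r ∉ D4L ∧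
    ∀ s ∈ D4L, s < 240 ∧ tg s r = 240 ∧ r ≠ 239 - s ∧ 239 - s ∈ D4L := by
  have h := List.all_eq_true.1 dp_table r hr
  rw [Bool.and_eq_true, Bool.and_eq_true, Bool.and_eq_true] at h
  obtain ⟨⟨⟨h1, h2⟩, h3⟩, h4⟩ := h
  refine ⟨of_decide_eq_true h1, of_decide_eq_true h2, by simpa using h3, fun s hs => ?_⟩
  have h5 := List.all_eq_true.1 h4 s hs
  rw [Bool.and_eq_true, Bool.and_eq_true, Bool.and_eq_true] at h5
  exact ⟨of_decide_eq_true h5.1.1.1, of_decide_eq_true h5.1.1.2, of_decide_eq_true h5.1.2, of_decide_eq_true h5.2⟩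

theorem br_dp {v : LK} (h1 : InM v) {r : ℕ} (hr : r ∈ DPL) : brK v (er r) = rv (hp v) r • er r := by
  obtain ⟨h2, -, -, h3⟩ := dp_spec hr
  have hz : ∑ s : Fin chevE8.nroots, brK (co v s.val • er s.val) (er r) = 0 := by
    refine Finset.sum_eq_zero fun s _ => ?_
    by_cases hD : s.val ∈ D4L
    · obtain ⟨h4, h5, h6, -⟩ := h3 s.val hD
      rw [brK_smul_left, br_rr h4 h2 h6, h5, er_ge le_rfl, smul_zero]
    · rw [h1 _ (lt240 s) hD, zero_smul, brK_zero_left]
  conv_lhs => rw [dec' v]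
  rw [brK_add_left, br_hv _ h2, brK_sum_left, hz, add_zero]
  rfl

theorem er_ne {r : ℕ} (hr : r < 240) : er r ≠ 0 := fun h => by
  have h1 := congrArg (fun v => co v r) h
  simp only [co_er hr, if_true, co_zero] at h1
  exact one_ne_zero h1

theorem dp_scal {r : ℕ} (hr : r < 240) {c : KK} (h : c • er r = 0) : c = 0 :=
  (smul_eq_zero.1 h).resolve_right (er_ne hr)

theorem InM_br {x : E2} {ζ : KK} {z t : GK} {Fp : LK → LK} {FG : GK → GK} (R : Fr32 x ζ z t Fp FG) {a b : LK}
    (ha : InM a) (hb : InM b) : InM (brK a b) := by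
  rw [← fix_InM R] at ha hb ⊢
  rw [aK_brK, ha, hb]

theorem Bad_br {x : E2} {ζ : KK} {z t : GK} {Fp : LK → LK} {FG : GK → GK} (R : Fr32 x ζ z t Fp FG) {a b : LK}
    (ha : InM a) (hb : InM b) : Bad (brK a b) := by
  intro r hr
  have h2 := (dp_spec hr).1
  have h1 := br_dp (InM_br R ha hb) hr
  have h3 := jac a b (er r)
  rw [br_dp hb hr, brK_smul_right, br_dp ha hr, brK_smul_right, br_dp hb hr, h1, smul_smul, smul_smul, mul_comm] at h3
  exact dp_scal h2 (add_eq_right.1 h3.symm)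

/-! ### `M₀` is spanned by brackets -/

theorem rv_eight (c : Fin chevE8.rank → KK) (s : ℕ) : rv c s = ∑ i : Fin 8, c (i.cast rk.symm) * ((car chevE8 i s : ℤ) : KK) := by
  unfold rv
  have h : ∀ (n : ℕ) (hn : chevE8.rank = n), ∑ i : Fin chevE8.rank, c i * ((car chevE8 i s : ℤ) : KK) =
      ∑ i : Fin n, c (i.cast hn.symm) * ((car chevE8 i s : ℤ) : KK) := by
    intro n hn
    subst hn
    rfl
  exact h 8 rk

theorem car_table : (∀ i : Fin 8, car chevE8 i 0 % 2 = if i = 7 then 1 else 0) ∧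
    (∀ i : Fin 8, car chevE8 i 1 % 2 = if i = 7 then 1 else if i = 6 then 1 else 0) ∧
    (∀ i : Fin 8, car chevE8 i 2 % 2 = if i = 5 then 1 else if i = 6 then 1 else 0) ∧
    (∀ i : Fin 8, car chevE8 i 78 % 2 = if i = 0 then 1 else if i = 6 then 1 else 0) := by decide +kernel

theorem int_cast_mod (n : ℤ) : ((n : ℤ) : KK) = ((n % 2 : ℤ) : KK) := by
  apply Cfsg.Agent.H413.L16.cast_congr
  omega

theorem bad_aux (c : Fin 8 → KK) (a : Fin 8 → ℤ) (b : Fin 8 → ℤ) (hab : ∀ i, a i % 2 = b i) :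
    ∑ i, c i * ((a i : ℤ) : KK) = ∑ i, c i * ((b i : ℤ) : KK) :=
  Finset.sum_congr rfl fun i _ => by rw [int_cast_mod, hab]

theorem lin_aux (d : Fin 8 → KK)
    (e0 : ∑ i, d i * (((if i = 7 then 1 else 0 : ℤ)) : KK) = 0)
    (e1 : ∑ i, d i * (((if i = 7 then 1 else if i = 6 then 1 else 0 : ℤ)) : KK) = 0)
    (e2 : ∑ i, d i * (((if i = 5 then 1 else if i = 6 then 1 else 0 : ℤ)) : KK) = 0)
    (e3 : ∑ i, d i * (((if i = 0 then 1 else if i = 6 then 1 else 0 : ℤ)) : KK) = 0) :
    d 0 = 0 ∧ d 5 = 0 ∧ d 6 = 0 ∧ d 7 = 0 := by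
  simp [Fin.sum_univ_eight] at e0 e1 e2 e3
  have h6 : d 6 = 0 := by rw [e0, add_zero] at e1; exact e1
  rw [h6, add_zero] at e2 e3
  exact ⟨e3, e2, h6, e0⟩

theorem bad_coord {c : Fin chevE8.rank → KK} (h : ∀ r ∈ DPL, rv c r = 0) (i : Fin 8)
    (hi : i = 0 ∨ i = 5 ∨ i = 6 ∨ i = 7) : c (i.cast rk.symm) = 0 := by
  obtain ⟨t0, t1, t2, t3⟩ := car_table
  have e0 := h 0 (by decide)
  have e1 := h 1 (by decide)
  have e2 := h 2 (by decide)
  have e3 := h 78 (by decide)
  rw [rv_eight, bad_aux _ _ _ t0] at e0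
  rw [rv_eight, bad_aux _ _ _ t1] at e1
  rw [rv_eight, bad_aux _ _ _ t2] at e2
  rw [rv_eight, bad_aux _ _ _ t3] at e3
  obtain ⟨k0, k5, k6, k7⟩ := lin_aux (fun i => c (i.cast rk.symm)) e0 e1 e2 e3
  rcases hi with rfl | rfl | rfl | rfl
  · exact k0
  · exact k5
  · exact k6
  · exact k7

/-- the brackets of vectors of `M` -/
def BrS : Set LK := {w | ∃ a b, InM a ∧ InM b ∧ w = brK a b}

theorem InM_hv (c : Fin chevE8.rank → KK) : InM (hv c) := fun r _ _ => co_hv c r

theorem InM_er {s : ℕ} (hs : s < 240) (h : s ∈ D4L) : InM (er s) := fun r _ hD => by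
  rw [co_er hs, if_neg]
  rintro rfl
  exact hD h

theorem exists_rv_one {s : ℕ} (hs : s < 240) : ∃ c : Fin chevE8.rank → KK, rv c s = 1 := by
  obtain ⟨i, hi, h2⟩ := List.any_eq_true.1 (List.all_eq_true.1 Cfsg.Agent.H413.L16.odd_all s (List.mem_range.2 hs))
  have hi' : i < chevE8.rank := by rw [rk]; exact List.mem_range.1 hi
  refine ⟨Pi.single ⟨i, hi'⟩ 1, ?_⟩
  unfold rv
  rw [Finset.sum_eq_single (⟨i, hi'⟩ : Fin chevE8.rank)]
  · rw [Pi.single_eq_same, one_mul]
    exact Cfsg.Agent.H413.L16.cast_odd (of_decide_eq_true h2)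
  · intro b _ hb
    rw [Pi.single_eq_of_ne hb, zero_mul]
  · intro h; exact absurd (Finset.mem_univ _) h

theorem er_mem {s : ℕ} (hs : s < 240) (h : s ∈ D4L) : er s ∈ Submodule.span KK BrS := by
  obtain ⟨c, hc⟩ := exists_rv_one hs
  refine Submodule.subset_span ⟨hv c, er s, InM_hv c, InM_er hs h, ?_⟩
  rw [br_hv c hs]
  have : (∑ i, c i * ((car chevE8 i s : ℤ) : KK)) = 1 := hc
  rw [this, one_smul]

/-- the simple roots of `D₄` -/
theorem cor_table : ∀ i : Fin 8, (i = 1 ∨ i = 2 ∨ i = 3 ∨ i = 4) → (Cfsg.Agent.H413.L16.six i ∈ D4L) ∧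
    (239 - Cfsg.Agent.H413.L16.six i ∈ D4L) ∧ ∀ j : Fin 8, cor chevE8 (Cfsg.Agent.H413.L16.six i) j = if j = i then 1 else 0 := by
  decide +kernel

theorem hv_single_mem (i : Fin 8) (hi : i = 1 ∨ i = 2 ∨ i = 3 ∨ i = 4) :
    hv (Pi.single (i.cast rk.symm) 1) ∈ Submodule.span KK BrS := by
  obtain ⟨h1, h2, h3⟩ := cor_table i hi
  have hs := Cfsg.Agent.H413.L16.six_lt i
  refine Submodule.subset_span ⟨er (Cfsg.Agent.H413.L16.six i), er (239 - Cfsg.Agent.H413.L16.six i), InM_er hs h1,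
    InM_er (by omega) h2, ?_⟩
  rw [br_neg hs]
  show hv _ = hv _
  congr 1
  funext j
  have h4 := h3 (j.cast rk)
  have e : ((j.cast rk : Fin 8) : ℕ) = j := rfl
  rw [e] at h4
  rw [h4]
  by_cases hj : j = i.cast rk.symm
  · subst hj
    rw [Pi.single_eq_same, if_pos (by rfl), Int.cast_one]
  · rw [Pi.single_eq_of_ne hj, if_neg (fun h => hj (by rw [← h]; rfl)), Int.cast_zero]

theorem hv_mem {c : Fin chevE8.rank → KK} (h : ∀ r ∈ DPL, rv c r = 0) : hv c ∈ Submodule.span KK BrS := by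
  have h1 : hv c = ∑ i : Fin 8, c (i.cast rk.symm) • hv (Pi.single (i.cast rk.symm) 1) := by
    have key : ∀ (n : ℕ) (hn : chevE8.rank = n), hv c = ∑ i : Fin n, c (i.cast hn.symm) • hv (Pi.single (i.cast hn.symm) 1) := by
      intro n hn
      subst hn
      funext a
      rw [Finset.sum_apply]
      rcases a with j | s
      · rw [Finset.sum_eq_single j]
        · show c j = c j * (Pi.single j (1 : KK) : Fin chevE8.rank → KK) j
          rw [Pi.single_eq_same, mul_one]
        · intro b _ hb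
          show c b * (Pi.single b (1 : KK) : Fin chevE8.rank → KK) j = 0
          rw [Pi.single_eq_of_ne (Ne.symm hb), mul_zero]
        · intro h; exact absurd (Finset.mem_univ _) h
      · symm
        refine Finset.sum_eq_zero fun b _ => ?_
        show c b * (0 : KK) = 0
        rw [mul_zero]
    exact key 8 rk
  rw [h1]
  refine Submodule.sum_mem _ fun i _ => ?_
  by_cases hi : i = 1 ∨ i = 2 ∨ i = 3 ∨ i = 4
  · exact Submodule.smul_mem _ _ (hv_single_mem i hi)
  · have h2 : i = 0 ∨ i = 5 ∨ i = 6 ∨ i = 7 := by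
      revert hi
      clear h1
      revert i
      decide
    rw [bad_coord h i h2, zero_smul]
    exact Submodule.zero_mem _

/-- **`M₀` is spanned by brackets** -/
theorem mem_BrS {v : LK} (h1 : InM v) (h2 : Bad v) : v ∈ Submodule.span KK BrS := by
  rw [dec' v]
  refine Submodule.add_mem _ (hv_mem h2) (Submodule.sum_mem _ fun s _ => ?_)
  by_cases hD : s.val ∈ D4L
  · exact Submodule.smul_mem _ _ (er_mem (lt240 s) hD)
  · rw [h1 _ (lt240 s) hD, zero_smul]
    exact Submodule.zero_mem _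

theorem Bad_add {u v : LK} (hu : Bad u) (hv : Bad v) : Bad (u + v) := fun r hr => by
  rw [hp_add, rv_add, hu r hr, hv r hr, add_zero]

theorem Bad_smul {c : KK} {v : LK} (hv : Bad v) : Bad (c • v) := fun r hr => by
  rw [hp_smul, rv_smul, hv r hr, mul_zero]

theorem InM_add {u v : LK} (hu : InM u) (hv : InM v) : InM (u + v) := fun r hr hD => by
  rw [co_add, hu r hr hD, hv r hr hD, add_zero]

theorem InM_smul {c : KK} {v : LK} (hv : InM v) : InM (c • v) := fun r hr hD => by
  rw [co_smul, hv r hr hD, mul_zero]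

theorem InM_zero : InM (0 : LK) := fun r _ _ => co_zero r

theorem Bad_zero : Bad (0 : LK) := fun r _ => by
  have : hp (0 : LK) = 0 := rfl
  rw [this, rv_zero]

end Cfsg.Agent.H525.D32
end

-- part: H943/D32/Gm
section
/-!
# S5916, dimension 32: the matrix of a toral element (helper943 for helper525)
-/

set_option autoImplicit false
set_option linter.unusedSectionVars false
set_option maxRecDepth 100000

namespace Cfsg.Agent.H943.D32

open Matrix Cfsg Cfsg.Lie Cfsg.Agent.H939.L64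
open Cfsg.Agent.H413.L16 (er hv hr xr nn tg er_ge er_inr br_rr br_hv br_hh six iC iC_spec)
open Cfsg.Agent.H525.D32
open Cfsg.Agent.ChevalleyStructure.Columns (car cor)

/-! ### relations modulo two -/

/-- a relation of roots modulo two -/
def relB (L : List ℕ) : Bool := (List.range 8).all fun i => decide ((L.map fun r => car chevE8 i r).sum % 2 = 0)

theorem rv_rel (c : Fin chevE8.rank → KK) {L : List ℕ} (h : relB L = true) : (L.map (rv c)).sum = 0 := by
  have h1 : (L.map (rv c)).sum = ∑ i : Fin chevE8.rank, c i * (((L.map fun r => car chevE8 i r).sum : ℤ) : KK) := by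
    clear h
    induction L with
    | nil => simp
    | cons r L ih =>
      rw [List.map_cons, List.sum_cons, ih]
      unfold rv
      rw [← Finset.sum_add_distrib]
      refine Finset.sum_congr rfl fun i _ => ?_
      rw [List.map_cons, List.sum_cons, Int.cast_add, mul_add]
  rw [h1]
  refine Finset.sum_eq_zero fun i _ => ?_
  have hi : (i : ℕ) < 8 := lt_of_lt_of_eq i.2 rk
  have h2 := of_decide_eq_true (List.all_eq_true.1 h i (List.mem_range.2 hi))
  rw [Cfsg.Agent.H413.L16.cast_even h2, mul_zero]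

theorem rv2 (c : Fin chevE8.rank → KK) {a b : ℕ} (h : relB [a, b] = true) : rv c a = rv c b := by
  have h1 := rv_rel c h
  simp only [List.map_cons, List.map_nil, List.sum_cons, List.sum_nil, add_zero] at h1
  rw [← sub_eq_add_neg_of_two h1]
where
  sub_eq_add_neg_of_two {a b : KK} (h : a + b = 0) : b = a := by
    have h2 := add_self b
    exact add_right_cancel (h2.trans h.symm)

theorem rv3 (c : Fin chevE8.rank → KK) {a b d : ℕ} (h : relB [a, b, d] = true) : rv c a = rv c b + rv c d := by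
  have h1 := rv_rel c h
  simp only [List.map_cons, List.map_nil, List.sum_cons, List.sum_nil, add_zero] at h1
  have h2 := add_self (rv c b + rv c d)
  exact add_right_cancel (h1.trans h2.symm)

/-! ### the action of the elements of `M` -/

theorem list_apply (h : LK) : ∀ (L : List ℕ), L.Nodup → (∀ r ∈ L, r < 240) → ∀ s : Fin chevE8.nroots,
    ((L.map fun r => co h r • er r).sum) (Sum.inr s) = if (s : ℕ) ∈ L then h (Sum.inr s) else 0 := by
  intro L
  induction L with
  | nil =>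
    intro _ _ s
    simp
  | cons a L ih =>
    intro hn hl s
    rw [List.map_cons, List.sum_cons, Pi.add_apply, ih (List.nodup_cons.1 hn).2 (fun r hr => hl r (List.mem_cons_of_mem _ hr)) s,
      Pi.smul_apply, er_inr, smul_eq_mul]
    by_cases ha : a = (s : ℕ)
    · have h1 : (s : ℕ) ∉ L := by rw [← ha]; exact (List.nodup_cons.1 hn).1
      rw [if_pos ha, if_neg h1, if_pos (by rw [← ha]; exact List.mem_cons_self), mul_one, add_zero]
      unfold co
      rw [dif_pos (by rw [ha]; exact s.2)]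
      congr 2
      exact Fin.ext ha
    · rw [if_neg ha, mul_zero, zero_add]
      by_cases h1 : (s : ℕ) ∈ L
      · rw [if_pos h1, if_pos (List.mem_cons_of_mem _ h1)]
      · rw [if_neg h1, if_neg (fun h2 => (List.mem_cons.1 h2).elim (fun h3 => ha h3.symm) h1)]

theorem list_inl (h : LK) (L : List ℕ) (i : Fin chevE8.rank) :
    ((L.map fun r => co h r • er r).sum) (Sum.inl i) = 0 := by
  induction L with
  | nil => rfl
  | cons a L ih =>
    rw [List.map_cons, List.sum_cons, Pi.add_apply, ih, Pi.smul_apply, ← E_eq, E_inl, smul_zero, add_zero]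

theorem D4L_nodup : D4L.Nodup := by decide +kernel

theorem D4L_lt : ∀ r ∈ D4L, r < 240 := by decide +kernel

theorem DPL_lt : ∀ r ∈ DPL, r < 240 := by decide +kernel

theorem dec_M {h : LK} (h1 : InM h) : h = hv (hp h) + (D4L.map fun r => co h r • er r).sum := by
  funext a
  rw [Pi.add_apply]
  rcases a with i | s
  · rw [list_inl, add_zero]
    rfl
  · rw [list_apply h D4L D4L_nodup D4L_lt]
    have h2 : hv (hp h) (Sum.inr s) = 0 := rfl
    rw [h2, zero_add]
    by_cases h3 : (s : ℕ) ∈ D4L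
    · rw [if_pos h3]
    · rw [if_neg h3]
      have h4 := h1 s (lt_of_lt_of_eq s.2 nr) h3
      unfold co at h4
      rw [dif_pos s.2] at h4
      exact h4

theorem brK_list_left (L : List LK) (w : LK) : brK L.sum w = (L.map fun v => brK v w).sum := by
  induction L with
  | nil => exact brK_zero_left w
  | cons a L ih => rw [List.sum_cons, brK_add_left, ih, List.map_cons, List.sum_cons]

theorem br_M {h : LK} (h1 : InM h) {p : ℕ} (hp240 : p < 240) (hp' : ∀ r ∈ D4L, p ≠ 239 - r) :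
    brK h (er p) = rv (hp h) p • er p + (D4L.map fun r => co h r • er (tg r p)).sum := by
  conv_lhs => rw [dec_M h1]
  rw [brK_add_left, brK_list_left, List.map_map]
  refine congrArg₂ HAdd.hAdd ?_ ?_
  · exact br_hv _ hp240
  · refine congrArg List.sum (List.map_congr_left fun r hr => ?_)
    simp only [Function.comp_apply]
    rw [brK_smul_left, br_rr (D4L_lt r hr) hp240 (hp' r hr)]

theorem tabDP : ∀ r ∈ DPL, (∀ s ∈ D4L, r ≠ 239 - s) ∧ ∀ s ∈ D4L, tg s r = 240 := fun _ hr =>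
  ⟨fun s hs => ((dp_spec hr).2.2.2 s hs).2.2.1, fun s hs => ((dp_spec hr).2.2.2 s hs).2.1⟩

/-- (b) -/
theorem br_dp {h : LK} (h1 : InM h) {r : ℕ} (hr : r ∈ DPL) : brK h (er r) = rv (hp h) r • er r := by
  obtain ⟨h2, h3⟩ := tabDP r hr
  rw [br_M h1 (DPL_lt r hr) h2]
  have h4 : (D4L.map fun s => co h s • er (tg s r)).sum = 0 := by
    refine List.sum_eq_zero fun x hx => ?_
    obtain ⟨s, hs, rfl⟩ := List.mem_map.1 hx
    rw [h3 s hs, er_ge le_rfl, smul_zero]
  rw [h4, add_zero]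

/-- the matrix of an element of `M` on the eight-dimensional space -/
noncomputable def XM (h : LK) : Matrix (Fin 8) (Fin 8) KK :=
  fun k l => if k = l then rv (hp h) (PI k) else co h (Tb k l)

theorem PI_lt : ∀ k : Fin 8, PI k < 240 := by decide +kernel

theorem PI_ne : ∀ k : Fin 8, ∀ r ∈ D4L, PI k ≠ 239 - r := by decide +kernel

theorem PI_inj : ∀ k l : Fin 8, PI k = PI l → k = l := by decide +kernel

theorem Tb_diag : ∀ k : Fin 8, Tb k k = 240 := by decide +kernel

theorem permT : ∀ l : Fin 8, ((D4L.map fun r => (r, tg r (PI l))).filter fun q => decide (q.1 ≠ 240) && decide (q.2 ≠ 240)).Perm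
    (((List.finRange 8).map fun k => (Tb k l, PI k)).filter fun q => decide (q.1 ≠ 240) && decide (q.2 ≠ 240)) := by
  rw [tg_eq]
  decide +kernel

theorem sum_filter {M : Type*} [AddCommMonoid M] (F : ℕ × ℕ → M) (P : ℕ × ℕ → Bool) (hF : ∀ q, P q = false → F q = 0)
    (L : List (ℕ × ℕ)) : (L.map F).sum = ((L.filter P).map F).sum := by
  induction L with
  | nil => rfl
  | cons a L ih =>
    rw [List.map_cons, List.sum_cons, ih]
    cases h : P a
    · rw [List.filter_cons_of_neg (by rw [h]; simp), hF a h, zero_add]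
    · rw [List.filter_cons_of_pos h, List.map_cons, List.sum_cons]

theorem co_240 (h : LK) : co h 240 = 0 := by
  unfold co
  rw [dif_neg (by rw [nr]; omega)]

theorem br_PI {h : LK} (h1 : InM h) (l : Fin 8) : brK h (er (PI l)) = ∑ k, XM h k l • er (PI k) := by
  rw [br_M h1 (PI_lt l) (PI_ne l)]
  let F : ℕ × ℕ → LK := fun q => co h q.1 • er q.2
  have hF : ∀ q : ℕ × ℕ, (decide (q.1 ≠ 240) && decide (q.2 ≠ 240)) = false → F q = 0 := by
    rintro ⟨a, b⟩ hq
    rw [Bool.and_eq_false_iff, decide_eq_false_iff_not, decide_eq_false_iff_not, not_not, not_not] at hq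
    rcases hq with hq | hq
    · show co h a • er b = 0
      have : a = 240 := hq
      rw [this, co_240, zero_smul]
    · show co h a • er b = 0
      have : b = 240 := hq
      rw [this, er_ge le_rfl, smul_zero]
  have e1 : (D4L.map fun r => co h r • er (tg r (PI l))).sum = ∑ k, co h (Tb k l) • er (PI k) := by
    have e2 : (D4L.map fun r => co h r • er (tg r (PI l))) = (D4L.map fun r => (r, tg r (PI l))).map F := by
      rw [List.map_map]
      rfl
    have e3 : ∑ k, co h (Tb k l) • er (PI k) = (((List.finRange 8).map fun k => (Tb k l, PI k)).map F).sum := by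
      rw [List.map_map, ← List.sum_ofFn, List.ofFn_eq_map]
      rfl
    rw [e2, e3, sum_filter F _ hF, sum_filter F _ hF (List.map _ (List.finRange 8))]
    exact ((permT l).map F).sum_eq
  rw [e1, ← Finset.add_sum_erase _ _ (Finset.mem_univ l), Tb_diag, co_240, zero_smul, zero_add,
    ← Finset.add_sum_erase Finset.univ (fun k => XM h k l • er (PI k)) (Finset.mem_univ l)]
  congr 1
  · unfold XM
    rw [if_pos rfl]
  · refine Finset.sum_congr rfl fun k hk => ?_
    unfold XM
    rw [if_neg (Finset.ne_of_mem_erase hk)]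

theorem brK_sum_right {ι : Type*} (s : Finset ι) (f : ι → LK) (w : LK) : brK w (∑ i ∈ s, f i) = ∑ i ∈ s, brK w (f i) := by
  classical
  induction s using Finset.induction_on with
  | empty => rw [Finset.sum_empty, Finset.sum_empty, brK_zero_right]
  | insert a s ha ih => rw [Finset.sum_insert ha, Finset.sum_insert ha, brK_add_right, ih]

/-- (a) -/
theorem brK_io {h : LK} (h1 : InM h) (v : Fin 8 → KK) : brK h (io v) = io (XM h *ᵥ v) := by
  unfold io
  rw [brK_sum_right]
  simp only [brK_smul_right, br_PI h1, Finset.smul_sum, smul_smul]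
  rw [Finset.sum_comm]
  refine Finset.sum_congr rfl fun k _ => ?_
  rw [← Finset.sum_smul]
  congr 1
  rw [mulVec, dotProduct]
  exact Finset.sum_congr rfl fun l _ => mul_comm _ _

theorem io_apply (v : Fin 8 → KK) (l : Fin 8) : io v (Sum.inr ⟨PI l, by rw [nr]; exact PI_lt l⟩) = v l := by
  unfold io
  rw [Finset.sum_apply, Finset.sum_eq_single l]
  · rw [Pi.smul_apply, er_inr, if_pos rfl, smul_eq_mul, mul_one]
  · intro k _ hk
    rw [Pi.smul_apply, er_inr, if_neg (fun h => hk (PI_inj k l h)), smul_zero]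
  · intro h; exact absurd (Finset.mem_univ _) h

theorem io_inj {v w : Fin 8 → KK} (h : io v = io w) : v = w := by
  funext l
  rw [← io_apply v l, h, io_apply]

/-! ### the fixed elements -/

section Fix

variable {x : E2} {ζ : KK} {z t : GK} {Fp : LK → LK} {FG : GK → GK}

theorem Fp_zero (R : Fr32 x ζ z t Fp FG) : Fp 0 = 0 := by
  have h := R.smul 0 0
  rw [zero_smul, zero_pow two_ne_zero, zero_smul] at h
  exact h

theorem Fp_list (R : Fr32 x ζ z t Fp FG) (L : List LK) : Fp L.sum = (L.map Fp).sum := by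
  induction L with
  | nil => exact Fp_zero R
  | cons a L ih => rw [List.sum_cons, R.add, ih, List.map_cons, List.sum_cons]

theorem list_off (a : ℕ → KK) (f : ℕ → ℕ) (s : Fin chevE8.nroots) : ∀ L : List ℕ, (s : ℕ) ∉ L.map f →
    ((L.map fun r => a r • er (f r)).sum) (Sum.inr s) = 0 := by
  intro L
  induction L with
  | nil => intro _; rfl
  | cons b L ih =>
    intro h
    rw [List.map_cons, List.mem_cons, not_or] at h
    rw [List.map_cons, List.sum_cons, Pi.add_apply, ih h.2, Pi.smul_apply, er_inr, if_neg (fun h' => h.1 h'.symm),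
      smul_zero, add_zero]

theorem list_on (a : ℕ → KK) (f : ℕ → ℕ) (s : Fin chevE8.nroots) : ∀ L : List ℕ, (L.map f).Nodup → ∀ r ∈ L, f r = s →
    ((L.map fun r => a r • er (f r)).sum) (Sum.inr s) = a r := by
  intro L
  induction L with
  | nil => intro _ r hr; exact absurd hr (List.not_mem_nil)
  | cons b L ih =>
    intro hn r hr hs
    rw [List.map_cons, List.nodup_cons] at hn
    rw [List.map_cons, List.sum_cons, Pi.add_apply, Pi.smul_apply, er_inr]
    rcases List.mem_cons.1 hr with rfl | hr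
    · rw [if_pos hs, smul_eq_mul, mul_one, list_off a f s L (by rw [← hs]; exact hn.1), add_zero]
    · rw [if_neg, smul_zero, zero_add]
      · exact ih hn.2 r hr hs
      · intro h
        exact hn.1 (by rw [h, ← hs]; exact List.mem_map_of_mem hr)

theorem list_inl' (a : ℕ → KK) (f : ℕ → ℕ) (L : List ℕ) (i : Fin chevE8.rank) :
    ((L.map fun r => a r • er (f r)).sum) (Sum.inl i) = 0 := by
  induction L with
  | nil => rfl
  | cons b L ih =>
    rw [List.map_cons, List.sum_cons, Pi.add_apply, ih, Pi.smul_apply, ← E_eq, E_inl, smul_zero, add_zero]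

theorem D4L_wi_nodup : (D4L.map wi).Nodup := by (first | (set_option backward.isDefEq.respectTransparency.types false in set_option synthInstance.maxSize 99999 in (delta _root_.Cfsg.Agent.H525.D32.wi; exact _root_.Cfsg.Agent.FastDec.of (by decide +kernel))) | decide +kernel)

theorem D4L_wi_lt : ∀ r ∈ D4L, wi r < 240 := by (first | (set_option backward.isDefEq.respectTransparency.types false in set_option synthInstance.maxSize 99999 in (delta _root_.Cfsg.Agent.H525.D32.wi; exact _root_.Cfsg.Agent.FastDec.of (by decide +kernel))) | decide +kernel)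

theorem fix (R : Fr32 x ζ z t Fp FG) {h : LK} (h1 : InM h) (h2 : Fp h = h) :
    (∀ r ∈ D4L, co h (wi r) = co h r ^ 2) ∧ ∀ r < 240, rv (hp h) (wi r) = rv (hp h) r ^ 2 := by
  obtain ⟨c', h3, h4⟩ := R.fhv (hp h)
  have h5 : h = hv c' + (D4L.map fun r => co h r ^ 2 • er (wi r)).sum := by
    conv_lhs => rw [← h2, dec_M h1, R.add, h3, Fp_list R, List.map_map]
    congr 2
    refine List.map_congr_left fun r hr => ?_
    rw [Function.comp_apply, R.smul, R.fer r (D4L_lt r hr)]
  constructor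
  · intro r hr
    have h6 := D4L_wi_lt r hr
    have h7 := congrFun h5 (Sum.inr ⟨wi r, by rw [nr]; exact h6⟩)
    rw [Pi.add_apply, list_on (fun r => co h r ^ 2) wi ⟨wi r, by rw [nr]; exact h6⟩ D4L D4L_wi_nodup r hr rfl] at h7
    have h8 : hv c' (Sum.inr ⟨wi r, by rw [nr]; exact h6⟩) = 0 := rfl
    rw [h8, zero_add] at h7
    rw [← h7]
    unfold co
    rw [dif_pos (by rw [nr]; exact h6)]
  · have h9 : hp h = c' := by
      funext i
      have h7 := congrFun h5 (Sum.inl i)
      rw [Pi.add_apply, list_inl' (fun r => co h r ^ 2) wi D4L i, add_zero] at h7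
      exact h7
    rw [← h9] at h4
    exact h4

theorem tor_rv {h : LK} (h1 : InM h) (h3 : Tor h) {r : ℕ} (hr : r ∈ DPL) : rv (hp h) r ^ 2 = rv (hp h) r := by
  have h4 := h3 (er r)
  rw [br_dp h1 hr, brK_smul_right, br_dp h1 hr, smul_smul] at h4
  have h5 := congrFun h4 (Sum.inr ⟨r, by rw [nr]; exact DPL_lt r hr⟩)
  rw [Pi.smul_apply, Pi.smul_apply, er_inr, if_pos rfl, smul_eq_mul, smul_eq_mul, mul_one, mul_one, ← pow_two] at h5
  exact h5

/-- an orbit of `w` -/
def isOrb (L : List ℕ) : Bool := L.all fun r => (List.range 8).any fun n => decide ((wi^[n] (L.headD 0)) = r)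

theorem orb_const {P : ℕ → Prop} (hP : ∀ r ∈ DPL, P r → P (wi r)) (L : List ℕ) (h0 : L.headD 0 ∈ DPL) (hL : isOrb L = true)
    (h1 : P (L.headD 0)) : ∀ r ∈ L, P r := by
  have hD : ∀ r ∈ DPL, wi r ∈ DPL := by (first | (set_option backward.isDefEq.respectTransparency.types false in set_option synthInstance.maxSize 99999 in (delta _root_.Cfsg.Agent.H525.D32.wi; exact _root_.Cfsg.Agent.FastDec.of (by decide +kernel))) | decide +kernel)
  have h2 : ∀ n, wi^[n] (L.headD 0) ∈ DPL ∧ P (wi^[n] (L.headD 0)) := by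
    intro n
    induction n with
    | zero => exact ⟨h0, h1⟩
    | succ n ih =>
      rw [Function.iterate_succ_apply']
      exact ⟨hD _ ih.1, hP _ ih.1 ih.2⟩
  intro r hr
  obtain ⟨n, _, hn⟩ := List.any_eq_true.1 (List.all_eq_true.1 hL r hr)
  rw [← of_decide_eq_true hn]
  exact (h2 n).2

theorem kap (R : Fr32 x ζ z t Fp FG) {h : LK} (h1 : InM h) (h2 : Fp h = h) (h3 : Tor h) :
    ∃ κ : KK, κ ^ 2 = κ ∧ (∀ r ∈ OG, rv (hp h) r = 0) ∧ (∀ r ∈ OA, rv (hp h) r = κ) ∧ (∀ r ∈ OB, rv (hp h) r = κ) := by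
  have h4 := (fix R h1 h2).2
  have hA : ∀ r ∈ OA, rv (hp h) r = rv (hp h) 120 := by
    refine orb_const (P := fun r => rv (hp h) r = rv (hp h) 120) (fun r hr h5 => ?_) OA (by decide) (by decide +kernel) rfl
    have h6 : rv (hp h) r = rv (hp h) 120 := h5
    show rv (hp h) (wi r) = rv (hp h) 120
    rw [h4 r (DPL_lt r hr), tor_rv h1 h3 hr, h6]
  have hG : ∀ r ∈ OG, rv (hp h) r = rv (hp h) 122 := by
    refine orb_const (P := fun r => rv (hp h) r = rv (hp h) 122) (fun r hr h5 => ?_) OG (by decide) (by decide +kernel) rfl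
    have h6 : rv (hp h) r = rv (hp h) 122 := h5
    show rv (hp h) (wi r) = rv (hp h) 122
    rw [h4 r (DPL_lt r hr), tor_rv h1 h3 hr, h6]
  have hB : ∀ r ∈ OB, rv (hp h) r = rv (hp h) 2 := by
    refine orb_const (P := fun r => rv (hp h) r = rv (hp h) 2) (fun r hr h5 => ?_) OB (by decide) (by decide +kernel) rfl
    have h6 : rv (hp h) r = rv (hp h) 2 := h5
    show rv (hp h) (wi r) = rv (hp h) 2
    rw [h4 r (DPL_lt r hr), tor_rv h1 h3 hr, h6]
  have e1 : rv (hp h) 122 = 0 := by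
    rw [rv3 (hp h) (a := 122) (b := 120) (d := 121) (by (delta Cfsg.Agent.ChevalleyStructure.Columns.car Cfsg.Agent.H943.D32.relB; (try set_option simprocs false in simp -zeta only [Cfsg.Agent.ChevFast.E8.cartanR]); decide +kernel)), hA 121 (by decide)]
    exact add_self _
  have e2 : rv (hp h) 2 = rv (hp h) 120 := by
    rw [rv3 (hp h) (a := 2) (b := 122) (d := 0) (by (first | (set_option backward.isDefEq.respectTransparency.types false in set_option synthInstance.maxSize 99999 in (delta _root_.Cfsg.Agent.H943.D32.relB _root_.Cfsg.Agent.ChevalleyStructure.Columns.car; exact _root_.Cfsg.Agent.FastDec.of (by decide +kernel))) | decide +kernel)), e1, zero_add, hA 0 (by decide)]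
  refine ⟨rv (hp h) 120, tor_rv h1 h3 (by decide), fun r hr => by rw [hG r hr, e1], hA, fun r hr => by rw [hB r hr, e2]⟩

theorem kap1 (R : Fr32 x ζ z t Fp FG) {h : LK} (h1 : InM h) (h2 : Fp h = h) (h3 : Tor h) (h4 : ¬ Bad h) :
    (∀ r ∈ OG, rv (hp h) r = 0) ∧ (∀ r ∈ OA, rv (hp h) r = 1) ∧ (∀ r ∈ OB, rv (hp h) r = 1) := by
  obtain ⟨κ, h5, hG, hA, hB⟩ := kap R h1 h2 h3
  have h6 : κ = 0 ∨ κ = 1 := by
    have : κ * (κ - 1) = 0 := by linear_combination h5
    exact (mul_eq_zero.1 this).imp id sub_eq_zero.1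
  rcases h6 with h6 | h6
  · refine absurd (fun r hr => ?_) h4
    have : r ∈ OG ∨ r ∈ OA ∨ r ∈ OB := by revert r; decide
    rcases this with h | h | h
    · exact hG r h
    · rw [hA r h, h6]
    · rw [hB r h, h6]
  · rw [h6] at hA hB
    exact ⟨hG, hA, hB⟩

/-- (d) -/
theorem hU (R : Fr32 x ζ z t Fp FG) : ∀ v, InM v → Fp v = v → Tor v → ¬ Bad v →
    ∀ v', InM v' → Fp v' = v' → Tor v' → ¬ Bad v' → Bad (v + v') := by
  intro v h1 h2 h3 h4 v' h1' h2' h3' h4' r hr
  obtain ⟨hG, hA, hB⟩ := kap1 R h1 h2 h3 h4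
  obtain ⟨hG', hA', hB'⟩ := kap1 R h1' h2' h3' h4'
  rw [hp_add, rv_add]
  have : r ∈ OG ∨ r ∈ OA ∨ r ∈ OB := by revert r; decide
  rcases this with h | h | h
  · rw [hG r h, hG' r h, add_zero]
  · rw [hA r h, hA' r h, add_self]
  · rw [hB r h, hB' r h, add_self]

theorem tSym : ∀ k l : Fin 8, k ≠ l → Tb k l = Tb (st l) (st k) := by decide +kernel

theorem tSt : ∀ l : Fin 8, Tb (st l) l = 240 ∧ st l ≠ l := by decide +kernel

theorem tInj : ∀ k l : Fin 8, k ≠ l → st l ≠ st k ∧ ph k ≠ ph l := by decide +kernel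

theorem tDia : ∀ k : Fin 8, relB [PI k, PI (st k), 1, 12] = true ∧ relB [wi (PI k), PI (ph k), 121] = true := by
  (delta Cfsg.Agent.ChevalleyStructure.Columns.car Cfsg.Agent.H943.D32.relB; (try set_option simprocs false in simp -zeta only [Cfsg.Agent.ChevFast.E8.cartanR]); decide +kernel)

theorem tRat : ∀ k l : Fin 8, k ≠ l → (Tb k l = 240 ∧ Tb (ph k) (ph l) = 240) ∨
    (Tb k l ∈ D4L ∧ wi (Tb k l) = Tb (ph k) (ph l)) := by decide +kernel

/-- (c) -/
theorem gm_of (R : Fr32 x ζ z t Fp FG) {h : LK} (h1 : InM h) (h2 : Fp h = h) (h3 : Tor h) (h4 : ¬ Bad h) :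
    GM (XM h) := by
  obtain ⟨hG, hA, hB⟩ := kap1 R h1 h2 h3 h4
  obtain ⟨f1, f2⟩ := fix R h1 h2
  refine ⟨fun k l => ?_, fun l => ?_, ?_, fun k l hkl => ?_, fun k => ?_⟩
  · unfold XM
    by_cases hkl : k = l
    · subst hkl
      rw [if_pos rfl, if_pos rfl]
      have h5 := rv_rel (hp h) (tDia k).1
      simp only [List.map_cons, List.map_nil, List.sum_cons, List.sum_nil, add_zero] at h5
      rw [hG 1 (by decide), hG 12 (by decide), add_zero, add_zero] at h5
      exact add_right_cancel (h5.trans (add_self _).symm)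
    · rw [if_neg hkl, if_neg (tInj k l hkl).1, tSym k l hkl]
  · unfold XM
    rw [if_neg (tSt l).2, (tSt l).1, co_240]
  · have h5 : ∀ v : Fin 8 → KK, (XM h * XM h) *ᵥ v = XM h *ᵥ v := by
      intro v
      apply io_inj
      rw [← Matrix.mulVec_mulVec, ← brK_io h1, ← brK_io h1, h3, brK_io h1]
    ext k l
    have h6 := congrFun (h5 (Pi.single l 1)) k
    rw [Matrix.mulVec_single_one, Matrix.mulVec_single_one] at h6
    exact h6
  · unfold XM
    rw [if_neg hkl, if_neg (tInj k l hkl).2]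
    rcases tRat k l hkl with ⟨h5, h6⟩ | ⟨h5, h6⟩
    · rw [h5, h6, co_240, zero_pow two_ne_zero]
    · rw [← h6, f1 _ h5]
  · unfold XM
    rw [if_pos rfl, if_pos rfl, ← f2 (PI k) (PI_lt k), rv3 (hp h) (tDia k).2, hA 121 (by decide)]

/-! ### (e) -/

open Cfsg.Agent.H413.L16 (rk8 cast_even cast_odd)

theorem six_zero {c : Fin chevE8.rank → KK} (h : ∀ s : Fin 8, rv c (six s) = 0) : c = 0 := by
  funext a
  have h6 : c a = ∑ s : Fin 8, ((iC (a.cast rk8) s : ℤ) : KK) * rv c (six s) := by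
    unfold rv
    simp_rw [Finset.mul_sum]
    rw [Finset.sum_comm]
    rw [Finset.sum_eq_single a]
    · have h7 := cast_odd (a := ∑ s : Fin 8, iC (a.cast rk8) s * car chevE8 a (six s)) (by
        have := iC_spec (a.cast rk8) (a.cast rk8)
        rw [if_pos rfl] at this
        have e : ((a.cast rk8 : Fin 8) : ℕ) = a := rfl
        rw [e] at this
        omega)
      push_cast at h7
      calc c a = c a * 1 := (mul_one _).symm
        _ = c a * ∑ s : Fin 8, ((iC (a.cast rk8) s : ℤ) : KK) * ((car chevE8 a (six s) : ℤ) : KK) := by rw [h7]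
        _ = _ := by
          rw [Finset.mul_sum]
          exact Finset.sum_congr rfl fun s _ => by ring
    · intro b _ hb
      have h7 := cast_even (a := ∑ s : Fin 8, iC (a.cast rk8) s * car chevE8 b (six s)) (by
        have := iC_spec (a.cast rk8) (b.cast rk8)
        rw [if_neg (show ¬ (b.cast rk8 = a.cast rk8) from fun h => hb (Fin.ext (congrArg Fin.val h)))] at this
        have e : ((b.cast rk8 : Fin 8) : ℕ) = b := rfl
        rw [e] at this
        omega)
      push_cast at h7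
      calc _ = c b * ∑ s : Fin 8, ((iC (a.cast rk8) s : ℤ) : KK) * ((car chevE8 b (six s) : ℤ) : KK) := by
            rw [Finset.mul_sum]
            exact Finset.sum_congr rfl fun s _ => by ring
        _ = 0 := by rw [h7, mul_zero]
    · intro h; exact absurd (Finset.mem_univ _) h
  rw [h6]
  exact Finset.sum_eq_zero fun s _ => by rw [h s, mul_zero]

theorem tCov : ∀ r ∈ D4L, ∃ k l : Fin 8, k ≠ l ∧ Tb k l = r := by decide +kernel

theorem kill_data (R : Fr32 x ζ z t Fp FG) {d : LK} (h1 : InM d) (h2 : Fp d = d) (h3 : ∀ v, brK d (io v) = 0) :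
    d = hv (hp d) ∧ (∀ s : Fin 8, s ≠ 0 → rv (hp d) (six s) = 0) ∧ (rv (hp d) 162 = 0 ∨ rv (hp d) 162 = 1) := by
  obtain ⟨f1, f2⟩ := fix R h1 h2
  have hX : ∀ k l, XM d k l = 0 := by
    intro k l
    have h5 : XM d *ᵥ (Pi.single l 1) = 0 := by
      apply io_inj
      rw [← brK_io h1, h3]
      unfold io
      exact (Finset.sum_eq_zero fun k _ => by rw [Pi.zero_apply, zero_smul]).symm
    have h6 := congrFun h5 k
    rw [Matrix.mulVec_single_one] at h6
    exact h6
  have hD : ∀ r ∈ D4L, co d r = 0 := by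
    intro r hr
    obtain ⟨k, l, hkl, h4⟩ := tCov r hr
    have h5 := hX k l
    unfold XM at h5
    rw [if_neg hkl, h4] at h5
    exact h5
  have hPI : ∀ k, rv (hp d) (PI k) = 0 := by
    intro k
    have h5 := hX k k
    unfold XM at h5
    rw [if_pos rfl] at h5
    exact h5
  have h121 : rv (hp d) 121 = 0 := by
    have h5 := rv3 (hp d) (tDia 0).2
    rw [f2 _ (PI_lt 0), hPI, hPI, zero_pow two_ne_zero, zero_add] at h5
    exact h5.symm
  have hA : ∀ r ∈ OA, rv (hp d) r = 0 := by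
    refine orb_const (P := fun r => rv (hp d) r = 0) (fun r hr h5 => ?_) OA (by decide) (by decide +kernel) ?_
    · have h6 : rv (hp d) r = 0 := h5
      show rv (hp d) (wi r) = 0
      rw [f2 r (DPL_lt r hr), h6, zero_pow two_ne_zero]
    · show rv (hp d) 120 = 0
      have h7 : ∀ n, wi^[n] 121 ∈ DPL ∧ rv (hp d) (wi^[n] 121) = 0 := by
        have hD : ∀ r ∈ DPL, wi r ∈ DPL := by decide +kernel
        intro n
        induction n with
        | zero => exact ⟨by decide, h121⟩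
        | succ n ih =>
          rw [Function.iterate_succ_apply']
          exact ⟨hD _ ih.1, by rw [f2 _ (DPL_lt _ ih.1), ih.2, zero_pow two_ne_zero]⟩
      have h8 : wi^[1] 121 = 120 := by decide +kernel
      rw [← h8]
      exact (h7 1).2
  refine ⟨?_, ?_, ?_⟩
  · conv_lhs => rw [dec_M h1]
    have : (D4L.map fun r => co d r • er r).sum = 0 := by
      refine List.sum_eq_zero fun y hy => ?_
      obtain ⟨r, hr, rfl⟩ := List.mem_map.1 hy
      rw [hD r hr, zero_smul]
    rw [this, add_zero]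
  · have g1 : rv (hp d) 141 = 0 := by
      rw [rv3 (hp d) (a := 141) (b := 149) (d := 138) (by (delta Cfsg.Agent.ChevalleyStructure.Columns.car Cfsg.Agent.H943.D32.relB; (try set_option simprocs false in simp -zeta only [Cfsg.Agent.ChevFast.E8.cartanR]); decide +kernel))]
      have a1 := hPI 2
      have a2 := hPI 3
      change rv (hp d) 149 = 0 at a1
      change rv (hp d) 138 = 0 at a2
      rw [a1, a2, add_zero]
    have g2 : rv (hp d) 135 = 0 := by
      rw [rv3 (hp d) (a := 135) (b := 149) (d := 144) (by (delta Cfsg.Agent.ChevalleyStructure.Columns.car Cfsg.Agent.H943.D32.relB; (try set_option simprocs false in simp -zeta only [Cfsg.Agent.ChevFast.E8.cartanR]); decide +kernel))]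
      have a1 := hPI 2
      have a2 := hPI 7
      change rv (hp d) 149 = 0 at a1
      change rv (hp d) 144 = 0 at a2
      rw [a1, a2, add_zero]
    have g3 : rv (hp d) 130 = 0 := by
      rw [rv3 (hp d) (a := 130) (b := 153) (d := 149) (by (delta Cfsg.Agent.ChevalleyStructure.Columns.car Cfsg.Agent.H943.D32.relB; (try set_option simprocs false in simp -zeta only [Cfsg.Agent.ChevFast.E8.cartanR]); decide +kernel))]
      have a1 := hPI 1
      have a2 := hPI 2
      change rv (hp d) 153 = 0 at a1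
      change rv (hp d) 149 = 0 at a2
      rw [a1, a2, add_zero]
    have g4 : rv (hp d) 126 = 0 := by
      rw [rv3 (hp d) (a := 126) (b := 156) (d := 153) (by (delta Cfsg.Agent.ChevalleyStructure.Columns.car Cfsg.Agent.H943.D32.relB; (try set_option simprocs false in simp -zeta only [Cfsg.Agent.ChevFast.E8.cartanR]); decide +kernel))]
      have a1 := hPI 0
      have a2 := hPI 1
      change rv (hp d) 156 = 0 at a1
      change rv (hp d) 153 = 0 at a2
      rw [a1, a2, add_zero]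
    have g5 : rv (hp d) 123 = 0 := hPI 4
    have g6 : rv (hp d) 121 = 0 := h121
    have g7 : rv (hp d) 120 = 0 := hA 120 (by decide)
    intro s hs
    fin_cases s
    · exact absurd rfl hs
    · exact g1
    · exact g2
    · exact g3
    · exact g4
    · exact g5
    · exact g6
    · exact g7
  · have a2 := hPI 3
    change rv (hp d) 138 = 0 at a2
    have h5 := rv3 (hp d) (a := 166) (b := 162) (d := 138) (by (delta Cfsg.Agent.ChevalleyStructure.Columns.car Cfsg.Agent.H943.D32.relB; (try set_option simprocs false in simp -zeta only [Cfsg.Agent.ChevFast.E8.cartanR]); decide +kernel))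
    rw [a2, add_zero] at h5
    have h6 := f2 162 (by omega)
    have h7 : wi 162 = 166 := by decide +kernel
    rw [h7, h5] at h6
    have h8 : rv (hp d) 162 * (rv (hp d) 162 - 1) = 0 := by linear_combination -h6
    exact (mul_eq_zero.1 h8).imp id sub_eq_zero.1

/-- (e) -/
theorem kill_io (R : Fr32 x ζ z t Fp FG) {d d' : LK} (h1 : InM d) (h2 : Fp d = d) (h3 : ∀ v, brK d (io v) = 0)
    (h4 : d ≠ 0) (h1' : InM d') (h2' : Fp d' = d') (h3' : ∀ v, brK d' (io v) = 0) (h4' : d' ≠ 0) : d = d' := by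
  obtain ⟨a1, a2, a3⟩ := kill_data R h1 h2 h3
  obtain ⟨b1, b2, b3⟩ := kill_data R h1' h2' h3'
  have key : ∀ {e : LK}, e = hv (hp e) → (∀ s : Fin 8, s ≠ 0 → rv (hp e) (six s) = 0) →
      (rv (hp e) 162 = 0 ∨ rv (hp e) 162 = 1) → e ≠ 0 → rv (hp e) 162 = 1 := by
    intro e e1 e2 e3 e4
    refine e3.resolve_left fun e5 => e4 ?_
    have e6 : hp e = 0 := by
      apply six_zero
      intro s
      by_cases hs : s = 0
      · subst hs; exact e5
      · exact e2 s hs
    rw [e1, e6]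
    funext i
    rcases i with i | i <;> rfl
  have c1 := key a1 a2 a3 h4
  have c2 := key b1 b2 b3 h4'
  have c3 : hp d + hp d' = 0 := by
    apply six_zero
    intro s
    rw [rv_add]
    by_cases hs : s = 0
    · subst hs
      show rv (hp d) 162 + rv (hp d') 162 = 0
      rw [c1, c2, add_self]
    · rw [a2 s hs, b2 s hs, add_zero]
  have c4 : hp d = hp d' := by
    funext i
    have := congrFun c3 i
    exact add_right_cancel (this.trans (add_self _).symm)
  rw [a1, b1, c4]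

end Fix

end Cfsg.Agent.H943.D32
end

private theorem dce_5106ff4d3a30 : _root_.True := by
  try have : _root_.True := by simp only [_root_.Cfsg.Agent.H977.D32.fz.congr_simp]
  try have : _root_.True := by simp only [_root_.Cfsg.Agent.H525.D32.b8.eq_1]
  try have : _root_.True := by simp only [_root_.Cfsg.Agent.H977.D32.pz.eq_1]
  try have : _root_.True := by simp only [_root_.Cfsg.Agent.H977.D32.cl.eq_1]
  try have : _root_.True := by simp only [_root_.Cfsg.Agent.H525.D32.q8.eq_1]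
  try have : _root_.True := by simp only [_root_.Cfsg.Agent.H977.D32.qv.eq_1]
  try have : _root_.True := by simp only [_root_.Cfsg.Agent.H525.D32.pp.eq_1]
  exact _root_.True.intro
end

-- part: H977/L16/Rat
section
prune_inst 0x203444414000020018058011003c048800000200688000c0600904000869402007492108201112802aa0102000004000880020400000000a0004000001002088801204b008a108460087000080000000000000000000000000000000000004000000000
set_option linter.all false
open scoped Cfsg.Agent.FastGrp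

/-!
# S5916, piece END-E: a rational vector fixed by `H` (helper977)

If the socle `S` has a non-zero fixed vector on `LK`, then `H` has a non-zero fixed vector `v` with `fr v = v`.
-/

set_option autoImplicit false
set_option maxRecDepth 100000
set_option linter.unusedSectionVars false

namespace Cfsg.Agent.H977.L16

open Matrix Cfsg Cfsg.Lie
open Cfsg.Agent.H939.L64 (KK E2 LK L2 em aK fr rE rE_apply rE_mul rE_one rE_inv_self rE_self_inv fixS
  em_injective em_entry rE_inj frE frE_apply frE_smul frE_rE)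
open Cfsg.Agent.H950.L16

/-! ### rational vectors -/

/-- a functional applied to the coordinates -/
noncomputable def Ph (φ : KK →ₗ[ZMod 2] ZMod 2) (w : LK) : LK := fun i => algebraMap (ZMod 2) KK (φ (w i))

theorem Ph_fr (φ : KK →ₗ[ZMod 2] ZMod 2) (w : LK) : fr (Ph φ w) = Ph φ w := by
  funext i
  show (algebraMap (ZMod 2) KK (φ (w i))) ^ 2 = algebraMap (ZMod 2) KK (φ (w i))
  rw [← map_pow]
  congr 1
  exact ZMod.pow_card _

theorem rE_Ph (φ : KK →ₗ[ZMod 2] ZMod 2) (g : E2) (w : LK) : rE g (Ph φ w) = Ph φ (rE g w) := by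
  funext i
  show aK (em g) (Ph φ w) i = algebraMap (ZMod 2) KK (φ (aK (em g) w i))
  have h1 : aK (em g) w i = ∑ j, (((g : GL chevE8.Idx (ZMod 2)) : Matrix chevE8.Idx chevE8.Idx (ZMod 2)) i j) • w j := by
    rw [aK, Matrix.mulVec, dotProduct]
    refine Finset.sum_congr rfl fun j _ => ?_
    rw [em_entry, Algebra.smul_def]
  rw [h1, map_sum, map_sum, aK, Matrix.mulVec, dotProduct]
  refine Finset.sum_congr rfl fun j _ => ?_
  rw [em_entry, map_smul, smul_eq_mul, map_mul]
  rfl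

theorem exists_ph {w : LK} (hw : w ≠ 0) : ∃ φ : KK →ₗ[ZMod 2] ZMod 2, Ph φ w ≠ 0 := by
  obtain ⟨i, hi⟩ := Function.ne_iff.1 hw
  by_contra hcon
  push Not at hcon
  apply hi
  have h1 : ∀ φ : Module.Dual (ZMod 2) KK, φ (w i) = 0 := by
    intro φ
    have h2 := congrFun (hcon φ) i
    have h3 : algebraMap (ZMod 2) KK (φ (w i)) = 0 := h2
    exact (map_eq_zero _).1 h3
  exact (Module.forall_dual_apply_eq_zero_iff (ZMod 2) (w i)).1 h1

variable {F : Type} [Field F] [Fintype F] {H : Subgroup E2}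
  {f : SpecialLinearGroup (Fin 2) F →* E2} {y : SpecialLinearGroup (Fin 2) F}

/-- the rational vectors fixed by the socle -/
def W2 (f : SpecialLinearGroup (Fin 2) F →* E2) : Type := {v : LK // fr v = v ∧ v ∈ fixS (rE.comp f)}

instance : Finite (W2 f) := by
  have h1 : ∀ v : W2 f, ∀ i, v.1 i = 0 ∨ v.1 i = 1 := by
    intro v i
    have h2 : v.1 i ^ 2 = v.1 i := congrFun v.2.1 i
    have h3 : v.1 i * (v.1 i - 1) = 0 := by linear_combination h2
    rcases mul_eq_zero.1 h3 with h | h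
    · exact Or.inl h
    · exact Or.inr (sub_eq_zero.1 h)
  classical
  refine Finite.of_injective (fun (v : W2 f) (i : chevE8.Idx) => decide (v.1 i = 0)) fun v w h => ?_
  apply Subtype.ext
  funext i
  have h2 := congrFun h i
  simp only [decide_eq_decide] at h2
  rcases h1 v i with h3 | h3
  · rw [h3, h2.1 h3]
  · rcases h1 w i with h4 | h4
    · rw [h2.2 h4, h4]
    · rw [h3, h4]

theorem rE_fr (g : E2) {v : LK} (h : fr v = v) : fr (rE g v) = rE g v := by
  have h1 : frE (rE g v) = rE g (frE v) := frE_rE g v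
  have h2 : frE v = v := h
  rw [h2] at h1
  exact h1

/-- the action of `H` -/
@[reducible] noncomputable def actW (S : Sit H f y) : MulAction ↥H (W2 f) where
  smul h v := ⟨rE (h : E2) v.1, rE_fr _ v.2.1, fix_stable S h.2 v.2.2⟩
  one_smul v := Subtype.ext (rE_one v.1)
  mul_smul a b v := Subtype.ext (rE_mul (a : E2) (b : E2) v.1)

/-- group theory: an element that conjugates `a` (of order 17) to a power of itself -/
theorem pow16_comm {G : Type*} [Group G] (n a : G) (ha : a ^ 17 = 1) (ha1 : a ≠ 1) (i : ℤ) (h1 : n * a * n⁻¹ = a ^ i) :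
    Commute (n ^ 16) a := by
  have key : ∀ k : ℕ, n ^ k * a * (n ^ k)⁻¹ = a ^ (i ^ k) := by
    intro k
    induction k with
    | zero => simp
    | succ k ih =>
      have e : n ^ (k + 1) * a * (n ^ (k + 1))⁻¹ = n * (n ^ k * a * (n ^ k)⁻¹) * n⁻¹ := by
        rw [_root_.pow_succ']; group
      rw [e, ih, ← conj_zpow, h1, ← _root_.zpow_mul]
      congr 1
      ring
  have hz17 : ∀ c : ℤ, a ^ (17 * c) = 1 := by
    intro c
    rw [_root_.zpow_mul, show ((17 : ℤ)) = ((17 : ℕ) : ℤ) from rfl, zpow_natCast, ha, _root_.one_zpow]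
  have hi17 : ¬ (17 : ℤ) ∣ i := by
    rintro ⟨c, rfl⟩
    rw [hz17] at h1
    apply ha1
    have h2 : n * a = n := by rw [← mul_inv_eq_one]; exact h1
    exact mul_eq_left.1 h2
  have hF : (17 : ℤ) ∣ i ^ 16 - 1 := by
    haveI : Fact (Nat.Prime 17) := ⟨by norm_num⟩
    have h2 : (i : ZMod 17) ≠ 0 := by
      intro h
      exact hi17 ((ZMod.intCast_zmod_eq_zero_iff_dvd i 17).1 h)
    have h3 := ZMod.pow_card_sub_one_eq_one h2
    rw [show 17 - 1 = 16 from rfl] at h3
    have h4 : ((i ^ 16 - 1 : ℤ) : ZMod 17) = 0 := by push_cast; rw [h3, sub_self]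
    exact (ZMod.intCast_zmod_eq_zero_iff_dvd _ 17).1 h4
  obtain ⟨c, hc⟩ := hF
  have h2 : a ^ (i ^ 16) = a := by
    have e : i ^ 16 = 17 * c + 1 := by linarith
    rw [e, _root_.zpow_add, hz17, one_mul, zpow_one]
  have h3 := key 16
  rw [h2] at h3
  exact mul_inv_eq_iff_eq_mul.1 h3

theorem exists_n (S : Sit H f y) (h : ↥H) : ∃ (s : SpecialLinearGroup (Fin 2) F) (n : ↥H),
    (h : E2) = f s * n ∧ (n : E2) ^ 16 ∈ Subgroup.zpowers (f y) := by
  obtain ⟨s, i, hi⟩ := S.con h h.2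
  have hnH : (f s)⁻¹ * (h : E2) ∈ H := H.mul_mem (H.inv_mem (S.le s)) h.2
  refine ⟨s, ⟨(f s)⁻¹ * h, hnH⟩, (mul_inv_cancel_left (f s) (h : E2)).symm, ?_⟩
  apply S.cen _ (H.pow_mem hnH 16)
  have h17 : f y ^ 17 = 1 := by rw [← map_pow, ← S.ord, pow_orderOf_eq_one, map_one]
  have hy1 : f y ≠ 1 := by
    intro h1
    have h2 : y = 1 := S.inj (by rw [h1, map_one])
    have h3 := S.ord
    rw [h2, orderOf_one] at h3
    omega
  refine pow16_comm _ (f y) h17 hy1 i ?_
  have h2 : ((f s)⁻¹ * (h : E2)) * f y * ((f s)⁻¹ * (h : E2))⁻¹ =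
      (f s)⁻¹ * ((h : E2) * f y * (h : E2)⁻¹) * f s := by
    generalize (h : E2) = a
    generalize f s = b
    generalize f y = c
    group
  rw [h2, hi]
  generalize f s = b
  generalize f y ^ i = c
  group

/-- **a rational vector fixed by `H`** -/
theorem exists_fixed (S : Sit H f y) (h0 : fixS (rE.comp f) ≠ ⊥) :
    ∃ v : LK, v ≠ 0 ∧ fr v = v ∧ (∀ h ∈ H, rE h v = v) := by
  classical
  letI := actW S
  have hsm : ∀ (h : ↥H) (v : W2 f), (h • v).1 = rE (h : E2) v.1 := fun _ _ => rfl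
  obtain ⟨w, hw, hw0⟩ := (Submodule.ne_bot_iff _).1 h0
  obtain ⟨φ, hφ⟩ := exists_ph hw0
  have hφS : Ph φ w ∈ fixS (rE.comp f) := by
    intro s
    show rE (f s) (Ph φ w) = Ph φ w
    rw [rE_Ph]
    congr 1
    exact hw s
  let z0 : W2 f := ⟨0, by funext i; exact zero_pow two_ne_zero, Submodule.zero_mem _⟩
  let ρ : ↥H →* Equiv.Perm (W2 f) := MulAction.toPermHom ↥H (W2 f)
  have hρ : ∀ (h : ↥H) (v : W2 f), ρ h v = h • v := fun _ _ => rfl
  have hP : IsPGroup 2 ρ.range := by
    rintro ⟨_, h, rfl⟩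
    refine ⟨4, Subtype.ext ?_⟩
    show (ρ h) ^ (2 ^ 4) = 1
    obtain ⟨s, n, hsn, hn16⟩ := exists_n S h
    have h1 : h = ⟨f s, S.le s⟩ * n := Subtype.ext hsn
    have h2 : ρ ⟨f s, S.le s⟩ = 1 := by
      ext v
      apply Subtype.ext
      exact v.2.2 s
    rw [h1, map_mul, h2, one_mul, ← map_pow]
    ext v
    apply Subtype.ext
    show rE ((n ^ (2 ^ 4) : ↥H) : E2) v.1 = v.1
    obtain ⟨j, hj⟩ := Subgroup.mem_zpowers_iff.1 hn16
    have h3 : ((n ^ (2 ^ 4) : ↥H) : E2) = f (y ^ j) := by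
      rw [Subgroup.coe_pow, map_zpow, hj]
      rfl
    rw [h3]
    exact v.2.2 (y ^ j)
  -- the number of rational fixed vectors is even
  have hdvd : 2 ∣ Nat.card (W2 f) := by
    let u0 : W2 f := ⟨Ph φ w, Ph_fr φ w, hφS⟩
    let e : Equiv.Perm (W2 f) :=
      { toFun := fun v => ⟨v.1 + u0.1, by
          funext i
          show (v.1 i + u0.1 i) ^ 2 = v.1 i + u0.1 i
          have a1 : v.1 i ^ 2 = v.1 i := congrFun v.2.1 i
          have a2 : u0.1 i ^ 2 = u0.1 i := congrFun u0.2.1 i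
          rw [CharTwo.add_sq, a1, a2], Submodule.add_mem _ v.2.2 u0.2.2⟩
        invFun := fun v => ⟨v.1 + u0.1, by
          funext i
          show (v.1 i + u0.1 i) ^ 2 = v.1 i + u0.1 i
          have a1 : v.1 i ^ 2 = v.1 i := congrFun v.2.1 i
          have a2 : u0.1 i ^ 2 = u0.1 i := congrFun u0.2.1 i
          rw [CharTwo.add_sq, a1, a2], Submodule.add_mem _ v.2.2 u0.2.2⟩
        left_inv := fun v => Subtype.ext (by
          funext i
          show v.1 i + u0.1 i + u0.1 i = v.1 i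
          rw [add_assoc, CharTwo.add_self_eq_zero, add_zero])
        right_inv := fun v => Subtype.ext (by
          funext i
          show v.1 i + u0.1 i + u0.1 i = v.1 i
          rw [add_assoc, CharTwo.add_self_eq_zero, add_zero]) }
    haveI : Fact (Nat.Prime 2) := ⟨Nat.prime_two⟩
    haveI := Fintype.ofFinite (W2 f)
    let e' : Function.End (W2 f) := fun v => e v
    have he2 : e' ^ 2 ^ 1 = 1 := by
      funext v
      exact e.left_inv v
    have h1 := Equiv.Perm.card_fixedPoints_modEq (p := 2) (n := 1) (f := e') he2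
    have h2 : Fintype.card (Function.fixedPoints e') = 0 := by
      rw [Fintype.card_eq_zero_iff]
      refine ⟨fun v => ?_⟩
      have h3 : v.1.1 + u0.1 = v.1.1 := congrArg Subtype.val v.2
      exact hφ (add_eq_left.1 h3)
    rw [h2] at h1
    rw [Nat.card_eq_fintype_card]
    exact (Nat.modEq_zero_iff_dvd).1 h1
  haveI : Fact (Nat.Prime 2) := ⟨Nat.prime_two⟩
  have hz : z0 ∈ MulAction.fixedPoints ρ.range (W2 f) := by
    rintro ⟨_, h, rfl⟩
    apply Subtype.ext
    show rE (h : E2) (0 : LK) = 0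
    exact map_zero _
  obtain ⟨b, hb, hne⟩ := hP.exists_fixed_point_of_prime_dvd_card_of_fixed_point (W2 f) hdvd hz
  refine ⟨b.1, fun h => hne (Subtype.ext h.symm), b.2.1, fun h hh => ?_⟩
  have h1 := hb ⟨ρ ⟨h, hh⟩, ⟨⟨h, hh⟩, rfl⟩⟩
  exact congrArg Subtype.val h1

end Cfsg.Agent.H977.L16
end

-- part: H179/L16/Pr32
section
prune_inst 0x10200100750000020000059201001840220000000003000000a00d020889282009426e002e000002102090800831004811880030020000000000040000010000088012043110ac00160080000000000000000000000000000000000000000000000000000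
set_option linter.all false
open scoped Cfsg.Agent.FastGrp

-- part: H179/SLD/HOne
section
/-!
# `H¹(SL₂(16), V_b)` (helper179, for S5916)

`rel_zero` : the relations of a cocycle which vanishes on the torus, for `|F| = 16` (certificates).
-/

set_option autoImplicit false
set_option linter.unusedSectionVars false

namespace Cfsg.Agent.H179.SLD

open Matrix Cfsg.Agent.H943.SL2Rel Cfsg.Agent.H943.RepAdd Cfsg.Agent.H943.SL2Mod
open Cfsg.Agent.H179.SLC (oc oc_spec ex bool_aux)

/-- the coefficient of `γ x` in the relation `(m', j)` -/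
def cf (b m' j x : ℕ) : Bool :=
  (decide (x = m') && oc 4 (ex 15 b m') j) ^^ (decide (ex 15 b x = j) && oc 4 (b - x) (b - m'))

/-- the check of a certificate; `ex0` : the exponent which is not eliminated -/
def chk (b ex0 : ℕ) : List (ℕ × ℕ × ℕ) → List ℕ → Bool
  | [], Z => (List.range (b + 1)).all fun x => x == ex0 || !oc 4 b x || Z.contains x
  | (m', j, x) :: l, Z => Nat.ble m' b && Nat.ble 1 j && Nat.ble j 14 && Nat.ble x b && cf b m' j x &&
      ((List.range (b + 1)).all fun y => y == x || !cf b m' j y || !oc 4 b y || Z.contains y) && chk b ex0 l (x :: Z)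

section Sound

variable {k : Type*} [Field k] [CharP k 2]

/-- the relations -/
def Rel (b : ℕ) (γ : ℕ → k) : Prop := (∀ m, (b.choose m : k) = 0 → γ m = 0) ∧
  ∀ m' ≤ b, ∀ j, j < 15 → γ m' * ((ex 15 b m').choose j : k) = (if j = 0 then γ m' else 0) +
    ∑ m ∈ Finset.range (b + 1), if ex 15 b m = j then γ m * ((b - m).choose (b - m') : k) else 0

theorem Rel.sum_cf {b : ℕ} (hb : b < 15) {γ : ℕ → k} (h : Rel b γ) {m' j : ℕ} (hm' : m' ≤ b) (hj1 : 1 ≤ j) (hj : j < 15) :
    ∑ x ∈ Finset.range (b + 1), (if cf b m' j x then γ x else 0) = 0 := by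
  have h1 := h.2 m' hm' j hj
  rw [if_neg (by omega), zero_add] at h1
  have h2 : γ m' * ((ex 15 b m').choose j : k) =
      ∑ x ∈ Finset.range (b + 1), if x = m' then γ x * ((ex 15 b m').choose j : k) else 0 := by
    rw [Finset.sum_ite_eq' , if_pos (Finset.mem_range.2 (by omega))]
  rw [h2] at h1
  have hex : ex 15 b m' < 16 := by
    have : ex 15 b m' < 15 := Nat.mod_lt _ (by norm_num)
    omega
  have h3 : ∀ x ∈ Finset.range (b + 1), (if cf b m' j x then γ x else 0) =
      (if x = m' then γ x * ((ex 15 b m').choose j : k) else 0) -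
      (if ex 15 b x = j then γ x * ((b - x).choose (b - m') : k) else 0) := by
    intro x hx
    have hx' := Finset.mem_range.1 hx
    have e1 := oc_spec (k := k) 4 (ex 15 b m') j (by norm_num; omega) (by norm_num; omega)
    have e2 := oc_spec (k := k) 4 (b - x) (b - m') (by norm_num; omega) (by norm_num; omega)
    rw [e1, e2]
    unfold cf
    exact bool_aux _ _ _ _ _
  rw [Finset.sum_congr rfl h3, Finset.sum_sub_distrib, h1, sub_self]

theorem chk_sound {b ex0 : ℕ} (hb : b < 15) {γ : ℕ → k} (h : Rel b γ) (l : List (ℕ × ℕ × ℕ)) :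
    ∀ Z : List ℕ, (∀ x ∈ Z, γ x = 0) → chk b ex0 l Z = true → ∀ x ≤ b, x ≠ ex0 → γ x = 0 := by
  have hoc : ∀ y ≤ b, oc 4 b y = false → γ y = 0 := by
    intro y hy h0
    apply h.1
    rw [oc_spec 4 b y (by norm_num; omega) (by norm_num; omega), h0]
    simp
  induction l with
  | nil =>
    intro Z hZ hc x hx hne
    unfold chk at hc
    rw [List.all_eq_true] at hc
    have h1 := hc x (List.mem_range.2 (by omega))
    simp only [Bool.or_eq_true, beq_iff_eq, Bool.not_eq_true', List.contains_iff_mem] at h1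
    rcases h1 with (h1 | h1) | h1
    · exact absurd h1 hne
    · exact hoc x hx h1
    · exact hZ x h1
  | cons s l ih =>
    obtain ⟨m', j, x⟩ := s
    intro Z hZ hc
    unfold chk at hc
    simp only [Bool.and_eq_true, Nat.ble_eq] at hc
    obtain ⟨⟨⟨⟨⟨⟨hm', hj1⟩, hj⟩, hx⟩, hcf⟩, hall⟩, hrest⟩ := hc
    refine ih (x :: Z) ?_ hrest
    intro y hy
    rcases List.mem_cons.1 hy with rfl | hy
    · have h1 := h.sum_cf hb hm' hj1 (by omega)
      rw [Finset.sum_eq_single y] at h1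
      · rwa [if_pos hcf] at h1
      · intro z hz hzy
        by_cases hcz : cf b m' j z = true
        · rw [if_pos hcz]
          have hz' := Finset.mem_range.1 hz
          have h2 := List.all_eq_true.1 hall z (List.mem_range.2 hz')
          simp only [Bool.or_eq_true, beq_iff_eq, Bool.not_eq_true', List.contains_iff_mem] at h2
          rcases h2 with ((h2 | h2) | h2) | h2
          · exact absurd h2 hzy
          · rw [hcz] at h2
            exact absurd h2 (by decide)
          · exact hoc z (by omega) h2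
          · exact hZ z h2
        · rw [if_neg hcz]
      · intro h0
        exact absurd (Finset.mem_range.2 (by omega)) h0
    · exact hZ y hy

end Sound

def certs : List (ℕ × List (ℕ × ℕ × ℕ)) := [
  (1, [(0, 1, 0)]),
  (2, [(0, 2, 0)]),
  (3, [(0, 2, 0), (1, 1, 1), (3, 1, 3), (3, 8, 2)]),
  (4, [(0, 1, 0)]),
  (5, [(0, 1, 0), (1, 2, 1), (4, 1, 4), (5, 2, 5)]),
  (6, [(0, 4, 0), (2, 2, 2), (6, 2, 6), (6, 1, 4)]),
  (7, [(1, 1, 1), (1, 4, 0), (2, 2, 2), (3, 1, 3), (5, 1, 5), (5, 8, 4), (6, 2, 6), (7, 1, 7)]),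
  (8, [(0, 1, 0)]),
  (9, [(0, 1, 0), (8, 1, 8), (9, 8, 9), (9, 4, 1)]),
  (10, [(0, 2, 0), (2, 4, 2), (8, 1, 8), (10, 1, 10)]),
  (11, [(1, 1, 1), (1, 2, 0), (3, 1, 3), (3, 4, 2), (8, 2, 8), (9, 1, 9), (10, 4, 10), (11, 1, 11)]),
  (12, [(0, 1, 0), (4, 1, 4), (12, 4, 12), (12, 2, 8)]),
  (13, [(1, 1, 0), (4, 1, 4), (5, 4, 5), (8, 1, 8), (9, 8, 9), (12, 1, 12), (13, 4, 13), (5, 2, 1)]),
  (14, [(2, 2, 2), (2, 8, 0), (4, 4, 4), (6, 2, 6), (10, 2, 10), (12, 4, 12), (14, 2, 14), (10, 1, 8)])]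

/-- powers of 2 -/
def isP (b : ℕ) : Bool := [1, 2, 4, 8].contains b

theorem certs_ok : certs.all (fun e => chk e.1 (if isP e.1 then e.1 else 16) e.2 []) = true := by decide +kernel

theorem certs_all : (List.range 15).all (fun b => b == 0 || certs.any fun e => e.1 == b) = true := by decide +kernel

theorem rel_zero {k : Type*} [Field k] [CharP k 2] {b : ℕ} (hb0 : 0 < b) (hb : b < 15) {γ : ℕ → k} (h : Rel b γ) :
    ∀ x ≤ b, x ≠ (if isP b then b else 16) → γ x = 0 := by
  have h1 := List.all_eq_true.1 certs_all b (List.mem_range.2 hb)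
  simp only [Bool.or_eq_true, beq_iff_eq, List.any_eq_true] at h1
  rcases h1 with h1 | ⟨e, he, h1⟩
  · omega
  · have h2 := List.all_eq_true.1 certs_ok e he
    rw [h1] at h2
    exact chk_sound hb h e.2 [] (by simp) h2

end Cfsg.Agent.H179.SLD
end

-- part: H179/SLD/HBound
section
/-!
# The dimensions of `Z¹(SL₂(16), V_b)` (helper179, for S5916)

`zb b` : `0` for `b = 0`; `dim V_b + 1` for `b` a power of 2; `dim V_b` otherwise. `finrank_Z1_rb : dim Z¹ ≤ zb b`.
-/

set_option autoImplicit false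
set_option linter.unusedSectionVars false

namespace Cfsg.Agent.H179.SLD

open Matrix Cfsg.Agent.H943.SL2Rel Cfsg.Agent.H943.RepAdd Cfsg.Agent.H943.SL2Mod
open Cfsg.Agent.H179.SLC

variable {k : Type*} [Field k] [CharP k 2] [DecidableEq k] {F : Type*} [Field F] [Fintype F] [DecidableEq F] [CharP F 2]
  (ι : F →+* k)

section Sixteen

variable (hq : Fintype.card F = 16)

include hq in
theorem finrank_ZT_le (hι : Function.Injective ι) (hs1 : (-1 : k) ^ (Fintype.card F - 1) = 1) {b : ℕ} (hb0 : 0 < b)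
    (hb : b < Fintype.card F - 1) : Module.finrank k (ZT (_root_.Cfsg.Agent.H179.SLC.rb ι 2 hs1 hb.le)) ≤ if isP b then 1 else 0 := by
  have hb' : b < 15 := by omega
  -- the values at `u 1`
  have hval : ∀ c ∈ ZT (_root_.Cfsg.Agent.H179.SLC.rb ι 2 hs1 hb.le), ∃ γ : k, (isP b = false → γ = 0) ∧ (c.1 (u 1) : F × F → k) = γ • mon ι b b := by
    intro c hc
    obtain ⟨γ, h1, h2, h3⟩ := relK ι hι hs1 hb0 hb hc
    rw [hq] at h3
    have hrel : Rel b γ := ⟨h2, h3⟩
    have h4 := rel_zero hb0 hb' hrel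
    refine ⟨γ b, fun h0 => h4 b le_rfl (by rw [h0]; simp; omega), ?_⟩
    rw [h1, Finset.sum_eq_single b]
    · intro m hm hmb
      have hm' := Finset.mem_range.1 hm
      rw [h4 m (by omega) (by
        by_cases h5 : isP b = true
        · rw [if_pos h5]; exact hmb
        · rw [if_neg h5]; omega), zero_smul]
    · intro h0
      exact absurd (Finset.mem_range.2 (by omega)) h0
  have hzero : ∀ c ∈ ZT (_root_.Cfsg.Agent.H179.SLC.rb ι 2 hs1 hb.le), (c.1 (u 1) : F × F → k) = 0 → c = 0 := by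
    intro c hc h0
    exact ZT_eq_zero _ (fixT ι hι hs1 hb0 hb) hc (Subtype.ext h0)
  by_cases hP : isP b = true
  · rw [if_pos hP]
    let f : ZT (_root_.Cfsg.Agent.H179.SLC.rb ι 2 hs1 hb.le) →ₗ[k] (F × F → k) :=
      { toFun := fun c => (((c : Z1 (_root_.Cfsg.Agent.H179.SLC.rb ι 2 hs1 hb.le)).1 (u 1) : Vb ι b) : F × F → k)
        map_add' := fun x y => rfl
        map_smul' := fun a x => rfl }
    have hf : Function.Injective f := by
      intro x y hxy
      have h1 : ((x : Z1 (_root_.Cfsg.Agent.H179.SLC.rb ι 2 hs1 hb.le)) - (y : Z1 (_root_.Cfsg.Agent.H179.SLC.rb ι 2 hs1 hb.le))) ∈ ZT (_root_.Cfsg.Agent.H179.SLC.rb ι 2 hs1 hb.le) := by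
        intro a
        show (x : Z1 (_root_.Cfsg.Agent.H179.SLC.rb ι 2 hs1 hb.le)).1 (h a) - (y : Z1 (_root_.Cfsg.Agent.H179.SLC.rb ι 2 hs1 hb.le)).1 (h a) = 0
        rw [x.2 a, y.2 a, sub_self]
      have h2 := hzero _ h1 (by
        show (((x : Z1 (_root_.Cfsg.Agent.H179.SLC.rb ι 2 hs1 hb.le)).1 (u 1) : Vb ι b) : F × F → k) -
          (((y : Z1 (_root_.Cfsg.Agent.H179.SLC.rb ι 2 hs1 hb.le)).1 (u 1) : Vb ι b) : F × F → k) = 0
        exact sub_eq_zero.2 hxy)
      exact Subtype.ext (sub_eq_zero.1 (by exact h2))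
    have h1 : LinearMap.range f ≤ Submodule.span k {mon ι b b} := by
      rintro _ ⟨c, rfl⟩
      obtain ⟨γ, -, h2⟩ := hval _ c.2
      show (((c : Z1 (_root_.Cfsg.Agent.H179.SLC.rb ι 2 hs1 hb.le)).1 (u 1) : Vb ι b) : F × F → k) ∈ _
      rw [h2]
      exact Submodule.smul_mem _ _ (Submodule.mem_span_singleton_self _)
    rw [← LinearMap.finrank_range_of_inj hf]
    refine (Submodule.finrank_mono h1).trans ?_
    exact (finrank_span_le_card (R := k) ({mon ι b b} : Set (F × F → k))).trans (by simp)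
  · rw [if_neg hP]
    have h1 : ZT (_root_.Cfsg.Agent.H179.SLC.rb ι 2 hs1 hb.le) = ⊥ := by
      rw [eq_bot_iff]
      intro c hc
      obtain ⟨γ, h2, h3⟩ := hval c hc
      rw [h2 (by simpa using hP), zero_smul] at h3
      exact (Submodule.mem_bot k).2 (hzero c hc h3)
    rw [h1, finrank_bot]

end Sixteen

/-- the exponents occurring in `V_b`, `b < 16` -/
def Bn (b : ℕ) : Finset ℕ := (Finset.range (b + 1)).filter fun m => oc 4 b m = true

theorem Bf_eq {b : ℕ} (hb : b < 16) : Bf k b = Bn b := by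
  unfold Bf Bn
  refine Finset.filter_congr fun m hm => ?_
  have hm' := Finset.mem_range.1 hm
  rw [oc_spec 4 b m (by norm_num; omega) (by norm_num; omega)]
  by_cases h : oc 4 b m = true <;> simp [h]

/-- the bounds -/
def zb (b : ℕ) : ℕ := if b = 0 then 0 else (Bn b).card + (if isP b then 1 else 0)

/-- **`dim Z¹(SL₂(16), V_b) ≤ zb b`** -/
theorem finrank_Z1_rb (hq : Fintype.card F = 16) (hι : Function.Injective ι)
    (hs1 : (-1 : k) ^ (Fintype.card F - 1) = 1) {b : ℕ} (hb : b ≤ Fintype.card F - 1) :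
    Module.finrank k (Z1 (_root_.Cfsg.Agent.H179.SLC.rb ι 2 hs1 hb)) ≤ zb b := by
  unfold zb
  rcases Nat.eq_zero_or_pos b with rfl | hb0
  · rw [if_pos rfl]
    have h1 : ∀ c : Z1 (_root_.Cfsg.Agent.H179.SLC.rb ι 2 hs1 hb), c = 0 := Z1_triv _ (by omega) (rb_zero_triv ι hs1)
    have : Subsingleton (Z1 (_root_.Cfsg.Agent.H179.SLC.rb ι 2 hs1 hb)) := ⟨fun x y => by rw [h1 x, h1 y]⟩
    rw [Module.finrank_zero_of_subsingleton]
  · rw [if_neg hb0.ne']
    rcases Nat.lt_or_ge b (Fintype.card F - 1) with hb' | hb'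
    · have h1 := finrank_Z1_ZT (_root_.Cfsg.Agent.H179.SLC.rb ι 2 hs1 hb) cast_N
      have h2 := finrank_ZT_le ι hq hι hs1 hb0 hb'
      rw [_root_.Cfsg.Agent.H179.SLC.finrank_Vb ι 2 hι hs1 hb, Bf_eq (by omega)] at h1
      omega
    · have hbe : b = Fintype.card F - 1 := by omega
      subst hbe
      have h1 : LinearMap.range (cob (_root_.Cfsg.Agent.H179.SLC.rb ι 2 hs1 hb)) = ⊤ := by
        rw [eq_top_iff]
        intro c _
        obtain ⟨v, hv⟩ := cob_St ι hι hs1 c
        exact ⟨v, hv.symm⟩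
      have h2 := LinearMap.finrank_range_le (cob (_root_.Cfsg.Agent.H179.SLC.rb ι 2 hs1 hb))
      rw [h1, finrank_top, _root_.Cfsg.Agent.H179.SLC.finrank_Vb ι 2 hι hs1 hb, Bf_eq (by omega)] at h2
      omega

end Cfsg.Agent.H179.SLD
end

-- part: H179/SLD/Mult
section
/-!
# Composition multiplicities for `SL₂(16)`, characteristic 2 (helper179, for S5916)

`exists_isMult` : every finite-dimensional module over an algebraically closed field has a multiplicity function `n`:
dimension, multiplicities of the eigenvalues of all semisimple elements, `Z¹`; `IsMult.pressure` :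
`n 0 ≤ dim V ^ S + ∑_{i < 4} n (2 ^ i)`.
-/

set_option autoImplicit false
set_option linter.unusedSectionVars false

namespace Cfsg.Agent.H179.SLD

open Matrix Cfsg.Agent.H943.SL2Rel Cfsg.Agent.H943.RepAdd Cfsg.Agent.H943.SL2Mod
open Cfsg.Agent.H179.SLC

variable {k : Type*} [Field k] [CharP k 2] [DecidableEq k] {F : Type*} [Field F] [Fintype F] [DecidableEq F] [CharP F 2]
  (ι : F →+* k)

/-- the multiplicity of the eigenvalue `ν` of a semisimple element with the eigenvalue `ζ` on `V_b` -/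
def mf (b : ℕ) (ζ ν : k) : ℕ := ((Bn b).filter fun m => ζ ^ m * ζ⁻¹ ^ (b - m) = ν).card

/-- `n` is a multiplicity function of the module -/
structure IsMult {V : Type*} [AddCommGroup V] [Module k V] (ρ : Representation k (_root_.Matrix.SpecialLinearGroup (Fin 2) F) V)
    (n : ℕ → ℕ) : Prop where
  dim : Module.finrank k V = ∑ b ∈ Finset.range 16, n b * (Bn b).card
  eigen : ∀ (g : _root_.Matrix.SpecialLinearGroup (Fin 2) F) (ζ : k) (N : ℕ), IsSS ι g ζ → ζ ^ N = 1 → (N : k) ≠ 0 → ∀ ν : k, ν ^ N = 1 →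
    Module.finrank k (eig ρ g ν) = ∑ b ∈ Finset.range 16, n b * mf b ζ ν
  z1 : Module.finrank k (Z1 ρ) ≤ ∑ b ∈ Finset.range 16, n b * zb b

theorem IsMult.of_iso {V V₂ : Type*} [AddCommGroup V] [Module k V] [AddCommGroup V₂] [Module k V₂]
    {ρ : Representation k (_root_.Matrix.SpecialLinearGroup (Fin 2) F) V} {ρ₂ : Representation k (_root_.Matrix.SpecialLinearGroup (Fin 2) F) V₂}
    {n : ℕ → ℕ} (h : IsMult ι ρ n) (φ : V ≃ₗ[k] V₂) (hφ : ∀ g x, φ (ρ g x) = ρ₂ g (φ x)) : IsMult ι ρ₂ n where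
  dim := by rw [← φ.finrank_eq, h.dim]
  eigen := fun g ζ N hg h1 h2 ν hν => by rw [← finrank_eig_iso ρ ρ₂ φ hφ, h.eigen g ζ N hg h1 h2 ν hν]
  z1 := by rw [← finrank_Z1_iso ρ ρ₂ φ hφ]; exact h.z1

/-- additivity -/
theorem IsMult.add (hι : Function.Injective ι) {V : Type*} [AddCommGroup V] [Module k V] [FiniteDimensional k V]
    {ρ : Representation k (_root_.Matrix.SpecialLinearGroup (Fin 2) F) V} {W : Submodule k V} {hW : ∀ g, ∀ x ∈ W, ρ g x ∈ W}
    {n₁ n₂ : ℕ → ℕ} (h1 : IsMult ι (subRep ρ W hW) n₁) (h2 : IsMult ι (quotRep ρ W hW) n₂) : IsMult ι ρ (n₁ + n₂) where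
  dim := by
    rw [← Submodule.finrank_quotient_add_finrank W, h1.dim, h2.dim, ← Finset.sum_add_distrib]
    refine Finset.sum_congr rfl fun b _ => ?_
    rw [Pi.add_apply]
    ring
  eigen := fun g ζ N hg hζ hN ν hν => by
    have hν0 : ν ≠ 0 := by
      rintro rfl
      by_cases hN0 : N = 0
      · exact hN (by rw [hN0, Nat.cast_zero])
      · rw [zero_pow hN0] at hν
        exact zero_ne_one hν
    rw [finrank_eig ρ W hW (g := g) (n := N) (by rw [← map_pow, pow_eq_one_of_isSS ι hι hg hζ, map_one]) hN hν hν0,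
      h1.eigen g ζ N hg hζ hN ν hν, h2.eigen g ζ N hg hζ hN ν hν, ← Finset.sum_add_distrib]
    refine Finset.sum_congr rfl fun b _ => ?_
    rw [Pi.add_apply]
    ring
  z1 := by
    refine (finrank_Z1_le ρ W hW).trans ((add_le_add h1.z1 h2.z1).trans_eq ?_)
    rw [← Finset.sum_add_distrib]
    refine Finset.sum_congr rfl fun b _ => ?_
    rw [Pi.add_apply]
    ring

theorem sum_single {b : ℕ} (hb : b < 16) (f : ℕ → ℕ) : ∑ c ∈ Finset.range 16, (Pi.single b 1 : ℕ → ℕ) c * f c = f b := by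
  rw [Finset.sum_eq_single b]
  · rw [Pi.single_eq_same, one_mul]
  · intro c _ hc
    rw [Pi.single_eq_of_ne hc, zero_mul]
  · intro h
    exact absurd (Finset.mem_range.2 hb) h

theorem isMult_rb (hq : Fintype.card F = 16) (hι : Function.Injective ι)
    (hs1 : (-1 : k) ^ (Fintype.card F - 1) = 1) {b : ℕ} (hb : b ≤ Fintype.card F - 1) :
    IsMult ι (_root_.Cfsg.Agent.H179.SLC.rb ι 2 hs1 hb) (Pi.single b 1) where
  dim := by rw [sum_single (by omega), _root_.Cfsg.Agent.H179.SLC.finrank_Vb ι 2 hι hs1 hb, Bf_eq (by omega)]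
  eigen := fun g ζ N hg hζ hN ν hν => by
    rw [sum_single (by omega), finrank_eig_ss ι hι hs1 hb hg, Bf_eq (by omega)]
    rfl
  z1 := by
    rw [sum_single (by omega)]
    exact finrank_Z1_rb ι hq hι hs1 hb

theorem isMult_zero {V : Type*} [AddCommGroup V] [Module k V] [Subsingleton V]
    (ρ : Representation k (_root_.Matrix.SpecialLinearGroup (Fin 2) F) V) : IsMult ι ρ 0 where
  dim := by rw [Module.finrank_zero_of_subsingleton]; simp
  eigen := fun g ζ N hg hζ hN ν hν => by rw [Module.finrank_zero_of_subsingleton]; simp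
  z1 := by
    have : Subsingleton (Z1 ρ) := ⟨fun x y => Subtype.ext (funext fun g => Subsingleton.elim _ _)⟩
    rw [Module.finrank_zero_of_subsingleton]
    exact Nat.zero_le _

/-- `-1 = 1` -/
theorem hs_one : (-1 : k) ^ (Fintype.card F - 1) = 1 := by rw [CharTwo.neg_eq, one_pow]

/-- **the pressure inequality** -/
theorem IsMult.pressure {V : Type*} [AddCommGroup V] [Module k V] [FiniteDimensional k V]
    {ρ : Representation k (_root_.Matrix.SpecialLinearGroup (Fin 2) F) V} {n : ℕ → ℕ} (h : IsMult ι ρ n) :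
    n 0 ≤ Module.finrank k (fx ρ) + (n 1 + n 2 + n 4 + n 8) := by
  have h1 := finrank_le ρ
  have h2 := h.z1
  rw [h.dim] at h1
  have h3 : ∑ b ∈ Finset.range 16, n b * zb b + n 0 = ∑ b ∈ Finset.range 16, n b * (Bn b).card +
      (n 1 + n 2 + n 4 + n 8) := by
    have h4 : ∀ b ∈ Finset.range 16, n b * zb b + (if b = 0 then n 0 else 0) =
        n b * (Bn b).card + (if isP b = true then n b else 0) := by
      intro b _
      unfold zb
      by_cases hb : b = 0
      · subst hb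
        rw [if_pos rfl, if_pos rfl]
        have h5 : (Bn 0).card = 1 := by decide
        have h6 : isP 0 = false := by decide
        rw [h5, h6]
        simp
      · rw [if_neg hb, if_neg hb]
        by_cases hp : isP b = true
        · rw [if_pos hp, if_pos hp]; ring
        · rw [if_neg hp, if_neg hp]; ring
    have h5 := Finset.sum_congr rfl h4
    rw [Finset.sum_add_distrib, Finset.sum_add_distrib, Finset.sum_ite_eq', if_pos (Finset.mem_range.2 (by norm_num))] at h5
    have h6 : (Finset.range 16).filter (fun b => isP b = true) = {1, 2, 4, 8} := by decide +kernel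
    have h7 : ∑ b ∈ Finset.range 16, (if isP b = true then n b else 0) = n 1 + n 2 + n 4 + n 8 := by
      rw [← Finset.sum_filter, h6, Finset.sum_insert (by decide), Finset.sum_insert (by decide),
        Finset.sum_insert (by decide), Finset.sum_singleton]
      ring
    rw [h5, h7]
  omega

variable [IsAlgClosed k]

universe v

/-- **every module has a multiplicity function** -/
theorem exists_isMult (hq : Fintype.card F = 16) (hι : Function.Injective ι) {V : Type v} [AddCommGroup V] [Module k V]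
    [FiniteDimensional k V] (ρ : Representation k (_root_.Matrix.SpecialLinearGroup (Fin 2) F) V) : ∃ n : ℕ → ℕ, IsMult ι ρ n := by
  have key : ∀ (d : ℕ) (V : Type v) [AddCommGroup V] [Module k V] [FiniteDimensional k V]
      (ρ : Representation k (_root_.Matrix.SpecialLinearGroup (Fin 2) F) V) (_ : Module.finrank k V = d), ∃ n : ℕ → ℕ, IsMult ι ρ n := by
    intro d
    induction d using Nat.strong_induction_on with
    | _ d ih =>
      intro V _ _ _ ρ hd
      rcases subsingleton_or_nontrivial V with hV | hV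
      · exact ⟨0, isMult_zero ι ρ⟩
      · obtain ⟨W, hW, hW0, hmin⟩ := exists_irr_sub ρ
        have hIW : Irr (subRep ρ W hW) := by
          refine ⟨Submodule.nontrivial_iff_ne_bot.2 hW0, fun W' hW' => ?_⟩
          rcases hmin (W'.map W.subtype) (Submodule.map_subtype_le _ _) (by
            rintro g _ ⟨x, hx, rfl⟩
            exact ⟨_, hW' g x hx, rfl⟩) with h1 | h1
          · left
            rw [eq_bot_iff]
            intro x hx
            have h2 : (x : V) ∈ W'.map W.subtype := ⟨x, hx, rfl⟩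
            rw [h1] at h2
            exact (Submodule.mem_bot k).2 (Subtype.ext ((Submodule.mem_bot k).1 h2))
          · right
            rw [eq_top_iff]
            intro x _
            have h2 : (x : V) ∈ W'.map W.subtype := by rw [h1]; exact x.2
            obtain ⟨y, hy, e⟩ := h2
            rwa [← Subtype.ext (p := fun z => z ∈ W) e]
        have hpos : 0 < Module.finrank k W := by
          have := hIW.1
          exact Module.finrank_pos
        have hadd := Submodule.finrank_quotient_add_finrank W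
        obtain ⟨n₂, h2⟩ := ih (Module.finrank k (V ⧸ W)) (by omega) (V ⧸ W) (quotRep ρ W hW) rfl
        obtain ⟨b, hb, φ, hφ⟩ := _root_.Cfsg.Agent.H179.SLC.irr_iso ι 2 (subRep ρ W hW) hι hs_one hIW
        exact ⟨_, ((isMult_rb ι hq hι hs_one hb).of_iso ι φ hφ).add ι hι h2⟩
  exact key _ V ρ rfl

/-- the submodule version -/
theorem exists_isMult_sub (hq : Fintype.card F = 16) (hι : Function.Injective ι) {V : Type v} [AddCommGroup V] [Module k V]
    [FiniteDimensional k V] (ρ : Representation k (_root_.Matrix.SpecialLinearGroup (Fin 2) F) V) (W : Submodule k V)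
    (hW : ∀ g, ∀ x ∈ W, ρ g x ∈ W) : ∃ n₁ n₂ : ℕ → ℕ, IsMult ι (subRep ρ W hW) n₁ ∧ IsMult ι (quotRep ρ W hW) n₂ ∧
      IsMult ι ρ (n₁ + n₂) := by
  obtain ⟨n₁, h1⟩ := exists_isMult ι hq hι (subRep ρ W hW)
  obtain ⟨n₂, h2⟩ := exists_isMult ι hq hι (quotRep ρ W hW)
  exact ⟨n₁, n₂, h1, h2, h1.add ι hι h2⟩

end Cfsg.Agent.H179.SLD
end

-- part: H179/L16/Tab
section
/-!
# S5916: the multiplicities of the eigenvalues of the elements of order 17 and 15 determine the composition factors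
(helper179)
-/

set_option autoImplicit false
set_option maxRecDepth 100000

namespace Cfsg.Agent.H179.L16

open Cfsg.Agent.H939.L64 (subm)

/-- multiplicities of the eigenvalues of `y` (order 17) on `V_b` : the weights are `2 m - b`, `m` a submask of `b` -/
def w17 (b j : ℕ) : ℕ := ((subm b).filter fun m => (2 * m + 16 * b) % 17 == j).length

/-- multiplicities of the eigenvalues of `h lam` (order 15) on `V_b` -/
def w15 (b j : ℕ) : ℕ := ((subm b).filter fun m => (2 * m + 14 * b) % 15 == j).length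

/-- the table of `w17` -/
def T17 : List (List ℕ) := [
  [1, 0, 0, 0, 0, 0, 0, 0, 0, 0, 0, 0, 0, 0, 0, 0, 0],
  [0, 1, 0, 0, 0, 0, 0, 0, 0, 0, 0, 0, 0, 0, 0, 0, 1],
  [0, 0, 1, 0, 0, 0, 0, 0, 0, 0, 0, 0, 0, 0, 0, 1, 0],
  [0, 1, 0, 1, 0, 0, 0, 0, 0, 0, 0, 0, 0, 0, 1, 0, 1],
  [0, 0, 0, 0, 1, 0, 0, 0, 0, 0, 0, 0, 0, 1, 0, 0, 0],
  [0, 0, 0, 1, 0, 1, 0, 0, 0, 0, 0, 0, 1, 0, 1, 0, 0],
  [0, 0, 1, 0, 0, 0, 1, 0, 0, 0, 0, 1, 0, 0, 0, 1, 0],
  [0, 1, 0, 1, 0, 1, 0, 1, 0, 0, 1, 0, 1, 0, 1, 0, 1],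
  [0, 0, 0, 0, 0, 0, 0, 0, 1, 1, 0, 0, 0, 0, 0, 0, 0],
  [0, 0, 0, 0, 0, 0, 0, 1, 1, 1, 1, 0, 0, 0, 0, 0, 0],
  [0, 0, 0, 0, 0, 0, 1, 1, 0, 0, 1, 1, 0, 0, 0, 0, 0],
  [0, 0, 0, 0, 0, 1, 1, 1, 1, 1, 1, 1, 1, 0, 0, 0, 0],
  [0, 0, 0, 0, 1, 1, 0, 0, 0, 0, 0, 0, 1, 1, 0, 0, 0],
  [0, 0, 0, 1, 1, 1, 1, 0, 0, 0, 0, 1, 1, 1, 1, 0, 0],
  [0, 0, 1, 1, 0, 0, 1, 1, 0, 0, 1, 1, 0, 0, 1, 1, 0],
  [0, 1, 1, 1, 1, 1, 1, 1, 1, 1, 1, 1, 1, 1, 1, 1, 1]]

/-- the table of `w15` -/
def T15 : List (List ℕ) := [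
  [1, 0, 0, 0, 0, 0, 0, 0, 0, 0, 0, 0, 0, 0, 0],
  [0, 1, 0, 0, 0, 0, 0, 0, 0, 0, 0, 0, 0, 0, 1],
  [0, 0, 1, 0, 0, 0, 0, 0, 0, 0, 0, 0, 0, 1, 0],
  [0, 1, 0, 1, 0, 0, 0, 0, 0, 0, 0, 0, 1, 0, 1],
  [0, 0, 0, 0, 1, 0, 0, 0, 0, 0, 0, 1, 0, 0, 0],
  [0, 0, 0, 1, 0, 1, 0, 0, 0, 0, 1, 0, 1, 0, 0],
  [0, 0, 1, 0, 0, 0, 1, 0, 0, 1, 0, 0, 0, 1, 0],
  [0, 1, 0, 1, 0, 1, 0, 1, 1, 0, 1, 0, 1, 0, 1],
  [0, 0, 0, 0, 0, 0, 0, 1, 1, 0, 0, 0, 0, 0, 0],
  [0, 0, 0, 0, 0, 0, 1, 1, 1, 1, 0, 0, 0, 0, 0],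
  [0, 0, 0, 0, 0, 1, 1, 0, 0, 1, 1, 0, 0, 0, 0],
  [0, 0, 0, 0, 1, 1, 1, 1, 1, 1, 1, 1, 0, 0, 0],
  [0, 0, 0, 1, 1, 0, 0, 0, 0, 0, 0, 1, 1, 0, 0],
  [0, 0, 1, 1, 1, 1, 0, 0, 0, 0, 1, 1, 1, 1, 0],
  [0, 1, 1, 0, 0, 1, 1, 0, 0, 1, 1, 0, 0, 1, 1],
  [2, 1, 1, 1, 1, 1, 1, 1, 1, 1, 1, 1, 1, 1, 1]]

theorem w17_eq : ∀ b < 16, ∀ j < 17, w17 b j = (T17.getD b []).getD j 0 := by decide +kernel

theorem w15_eq : ∀ b < 16, ∀ j < 15, w15 b j = (T15.getD b []).getD j 0 := by decide +kernel

theorem w17_neg : ∀ b < 16, ∀ j < 17, w17 b ((17 - j) % 17) = w17 b j := by decide +kernel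

theorem w15_neg : ∀ b < 16, ∀ j < 15, w15 b ((15 - j) % 15) = w15 b j := by decide +kernel

theorem w17_zero : ∀ b < 16, w17 b 0 = if b = 0 then 1 else 0 := by decide +kernel

set_option maxHeartbeats 2000000 in
/-- **the two tables determine the multiplicities** -/
theorem uniq (m n : ℕ → ℕ)
    (h17 : ∀ j < 17, ∑ b ∈ Finset.range 16, m b * w17 b j = ∑ b ∈ Finset.range 16, n b * w17 b j)
    (h15 : ∀ j < 15, ∑ b ∈ Finset.range 16, m b * w15 b j = ∑ b ∈ Finset.range 16, n b * w15 b j) :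
    ∀ b < 16, m b = n b := by
  have a0 := h17 0 (by norm_num)
  have a1 := h17 1 (by norm_num)
  have a2 := h17 2 (by norm_num)
  have a3 := h17 3 (by norm_num)
  have a4 := h17 4 (by norm_num)
  have a5 := h17 5 (by norm_num)
  have a6 := h17 6 (by norm_num)
  have a7 := h17 7 (by norm_num)
  have a8 := h17 8 (by norm_num)
  have b0 := h15 0 (by norm_num)
  have b1 := h15 1 (by norm_num)
  have b2 := h15 2 (by norm_num)
  have b3 := h15 3 (by norm_num)
  have b4 := h15 4 (by norm_num)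
  have b5 := h15 5 (by norm_num)
  have b6 := h15 6 (by norm_num)
  have b7 := h15 7 (by norm_num)
  simp only [Finset.sum_range_succ, w17_eq, w15_eq, T17, T15, _root_.Finset.range_one, _root_.Finset.sum_singleton, _root_.Nat.ofNat_pos, _root_.List.getD_eq_getElem?_getD, _root_.List.length_cons, _root_.List.length_nil, _root_.zero_add, _root_.Nat.reduceAdd, _root_.getElem?_pos, _root_.List.getElem_cons_zero, _root_.Option.getD_some, _root_.mul_one, _root_.Nat.one_lt_ofNat, _root_.List.getElem_cons_succ, _root_.MulZeroClass.mul_zero, _root_.add_zero, _root_.Nat.reduceLT, _root_.Nat.lt_add_one] at a0 a1 a2 a3 a4 a5 a6 a7 a8 b0 b1 b2 b3 b4 b5 b6 b7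
  have key : ∀ (D : ℤ) (x y : ℕ), D ≠ 0 → D * (x : ℤ) = D * (y : ℤ) → x = y := fun D x y hD h =>
    Int.natCast_inj.1 (mul_left_cancel₀ hD h)
  have cz : ∀ {x y : ℕ}, x = y → (x : ℤ) = (y : ℤ) := fun h => congrArg _ h
  replace a0 := cz a0
  replace a1 := cz a1
  replace a2 := cz a2
  replace a3 := cz a3
  replace a4 := cz a4
  replace a5 := cz a5
  replace a6 := cz a6
  replace a7 := cz a7
  replace a8 := cz a8
  replace b0 := cz b0
  replace b1 := cz b1
  replace b2 := cz b2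
  replace b3 := cz b3
  replace b4 := cz b4
  replace b5 := cz b5
  replace b6 := cz b6
  simp only [Nat.cast_add, Nat.cast_mul, Nat.cast_ofNat] at a0 a1 a2 a3 a4 a5 a6 a7 a8 b0 b1 b2 b3 b4 b5 b6
  intro b hb
  interval_cases b
  · exact key 1 _ _ (by decide) (by linear_combination (1 : ℤ) * a0)
  · exact key 1 _ _ (by decide) (by linear_combination (-1 : ℤ) * a2 + (-1 : ℤ) * a3 + (-1 : ℤ) * a6 + (-1 : ℤ) * a7 + (1 : ℤ) * b1 + (1 : ℤ) * b2 + (1 : ℤ) * b5 + (1 : ℤ) * b6)
  · exact key 1 _ _ (by decide) (by linear_combination (-1 : ℤ) * a3 + (-1 : ℤ) * a4 + (-1 : ℤ) * a5 + (-1 : ℤ) * a6 + (1 : ℤ) * b2 + (1 : ℤ) * b3 + (1 : ℤ) * b4 + (1 : ℤ) * b5)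
  · exact key 1 _ _ (by decide) (by linear_combination (-1 : ℤ) * a4 + (-1 : ℤ) * a5 + (1 : ℤ) * b3 + (1 : ℤ) * b4)
  · exact key 2 _ _ (by decide) (by linear_combination (1 : ℤ) * a0 + (2 : ℤ) * a1 + (2 : ℤ) * a2 + (2 : ℤ) * a3 + (2 : ℤ) * a4 + (-1 : ℤ) * b0 + (-2 : ℤ) * b1 + (-2 : ℤ) * b2 + (-2 : ℤ) * b3)
  · exact key 1 _ _ (by decide) (by linear_combination (-1 : ℤ) * a6 + (-1 : ℤ) * a7 + (1 : ℤ) * b5 + (1 : ℤ) * b6)
  · exact key 2 _ _ (by decide) (by linear_combination (1 : ℤ) * a0 + (2 : ℤ) * a1 + (2 : ℤ) * a2 + (2 : ℤ) * a3 + (2 : ℤ) * a4 + (2 : ℤ) * a5 + (2 : ℤ) * a6 + (-1 : ℤ) * b0 + (-2 : ℤ) * b1 + (-2 : ℤ) * b2 + (-2 : ℤ) * b3 + (-2 : ℤ) * b4 + (-2 : ℤ) * b5)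
  · exact key 2 _ _ (by decide) (by linear_combination (1 : ℤ) * a0 + (2 : ℤ) * a1 + (2 : ℤ) * a2 + (2 : ℤ) * a3 + (2 : ℤ) * a4 + (2 : ℤ) * a5 + (2 : ℤ) * a6 + (2 : ℤ) * a7 + (-1 : ℤ) * b0 + (-2 : ℤ) * b1 + (-2 : ℤ) * b2 + (-2 : ℤ) * b3 + (-2 : ℤ) * b4 + (-2 : ℤ) * b5 + (-2 : ℤ) * b6)
  · exact key 2 _ _ (by decide) (by linear_combination (1 : ℤ) * a0 + (2 : ℤ) * a2 + (2 : ℤ) * a4 + (2 : ℤ) * a6 + (2 : ℤ) * a8 + (-1 : ℤ) * b0 + (-2 : ℤ) * b2 + (-2 : ℤ) * b4 + (-2 : ℤ) * b6)
  · exact key 1 _ _ (by decide) (by linear_combination (-1 : ℤ) * a2 + (-1 : ℤ) * a6 + (1 : ℤ) * b2 + (1 : ℤ) * b6)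
  · exact key 1 _ _ (by decide) (by linear_combination (-1 : ℤ) * a3 + (-1 : ℤ) * a5 + (1 : ℤ) * b3 + (1 : ℤ) * b5)
  · exact key 1 _ _ (by decide) (by linear_combination (-1 : ℤ) * a4 + (1 : ℤ) * b4)
  · exact key 1 _ _ (by decide) (by linear_combination (-1 : ℤ) * a1 + (-1 : ℤ) * a3 + (1 : ℤ) * b1 + (1 : ℤ) * b3)
  · exact key 1 _ _ (by decide) (by linear_combination (-1 : ℤ) * a2 + (1 : ℤ) * b2)
  · exact key 1 _ _ (by decide) (by linear_combination (-1 : ℤ) * a1 + (1 : ℤ) * b1)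
  · exact key 2 _ _ (by decide) (by linear_combination (-1 : ℤ) * a0 + (1 : ℤ) * b0)

end Cfsg.Agent.H179.L16
end

-- part: H179/L16/Spec
section
/-!
# S5916: the multiplicities of the composition factors of a module of `SL₂(16)` in characteristic 2 (helper179)

* `Dat16`, `e17`, `e15`, `SpecM16` : the language (as in S5915);
* `isMult_spec` : a multiplicity function in the sense of `SLD.IsMult` satisfies `SpecM16`;
* `SpecM16.uniq` : the multiplicities are determined.
-/

set_option autoImplicit false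
set_option linter.unusedSectionVars false

namespace Cfsg.Agent.H179.L16

open Matrix Cfsg.Agent.H943.SL2Rel Cfsg.Agent.H943.RepAdd Cfsg.Agent.H943.SL2Mod
open Cfsg.Agent.H939.L64 (subm fixS)
open Cfsg.Agent.H179.SLC (oc isSS_h isSS_of_trace card_filter_range hs_one)
open Cfsg.Agent.H179.SLD (Bn mf IsMult exists_isMult)

/-- the data: a generator `lam` of the split torus, `y` of order 17 with the eigenvalues `ζ, ζ⁻¹` -/
structure Dat16 {k F : Type*} [Field k] [Field F] [Fintype F] (ι : F →+* k) (lam : Fˣ)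
    (y : _root_.Matrix.SpecialLinearGroup (Fin 2) F) (ζ : k) : Prop where
  card : Fintype.card F = 16
  gen : ∀ x, x ∈ Subgroup.zpowers lam
  prim : IsPrimitiveRoot ζ 17
  tr : ι (y.1 0 0 + y.1 1 1) = ζ + ζ⁻¹

/-- the multiplicities of the eigenvalues of `y` of order 17 -/
noncomputable def e17 {k F V : Type*} [Field k] [Field F] [AddCommGroup V] [Module k V]
    (ρ : Representation k (_root_.Matrix.SpecialLinearGroup (Fin 2) F) V) (y : _root_.Matrix.SpecialLinearGroup (Fin 2) F) (ζ : k) (j : ℕ) : ℕ :=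
  Module.finrank k (eig ρ y (ζ ^ j))

/-- the multiplicities of the eigenvalues of `h lam` -/
noncomputable def e15 {k F V : Type*} [Field k] [Field F] [AddCommGroup V] [Module k V] (ι : F →+* k)
    (ρ : Representation k (_root_.Matrix.SpecialLinearGroup (Fin 2) F) V) (lam : Fˣ) (j : ℕ) : ℕ :=
  Module.finrank k (eig ρ (h lam) (ι lam ^ j))

/-- `m b` : the multiplicity of `V_b` as a composition factor (in the Grothendieck group) -/
def SpecM16 {k F V : Type*} [Field k] [Field F] [AddCommGroup V] [Module k V] (ι : F →+* k)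
    (ρ : Representation k (_root_.Matrix.SpecialLinearGroup (Fin 2) F) V) (lam : Fˣ) (y : _root_.Matrix.SpecialLinearGroup (Fin 2) F) (ζ : k)
    (m : ℕ → ℕ) : Prop :=
  (∀ j < 17, e17 ρ y ζ j = ∑ b ∈ Finset.range 16, m b * w17 b j) ∧
    ∀ j < 15, e15 ι ρ lam j = ∑ b ∈ Finset.range 16, m b * w15 b j

theorem oc_land : ∀ b < 16, ∀ m < 16, oc 4 b m = ((m &&& b) == m) := by decide +kernel

theorem length_subm {b : ℕ} (hb : b < 16) (p : ℕ → Bool) :
    ((subm b).filter p).length = ((Bn b).filter fun m => p m = true).card := by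
  unfold subm Bn
  rw [List.filter_filter, Finset.filter_filter, ← card_filter_range]
  congr 1
  refine Finset.filter_congr fun m hm => ?_
  have hm' := Finset.mem_range.1 hm
  rw [oc_land b hb m (by omega)]
  simp [and_comm]

section Weights

variable {k : Type*} [Field k] [DecidableEq k]

theorem mf_eq {ζ : k} {N : ℕ} (hN : 2 ≤ N) (hζ : IsPrimitiveRoot ζ N) {b j : ℕ} (hb : b < 16) (hj : j < N) :
    mf b ζ (ζ ^ j) = ((subm b).filter fun m => (2 * m + (N - 1) * b) % N == j).length := by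
  rw [length_subm hb]
  unfold mf
  congr 1
  refine Finset.filter_congr fun m hm => ?_
  have hmb : m ≤ b := by
    have := Finset.mem_range.1 (Finset.mem_filter.1 hm).1
    omega
  have h1 : ζ ^ m * ζ⁻¹ ^ (b - m) = ζ ^ ((2 * m + (N - 1) * b) % N) := by
    have h2 : ζ⁻¹ = ζ ^ (N - 1) := by
      symm
      apply eq_inv_of_mul_eq_one_left
      rw [← pow_succ, Nat.sub_add_cancel (by omega), hζ.pow_eq_one]
    have hmod : ∀ x : ℕ, ζ ^ x = ζ ^ (x % N) := by
      intro x
      conv_lhs => rw [← Nat.div_add_mod x N, pow_add, pow_mul, hζ.pow_eq_one, one_pow, one_mul]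
    rw [h2, ← pow_mul, ← pow_add, hmod]
    congr 1
    obtain ⟨i, rfl⟩ := Nat.exists_eq_add_of_le hmb
    obtain ⟨M, rfl⟩ := Nat.exists_eq_add_of_le hN
    rw [Nat.add_sub_cancel_left]
    have h3 : 2 * m + (2 + M - 1) * (m + i) = (m + (2 + M - 1) * i) + (2 + M) * m := by
      have h4 : 2 + M - 1 = M + 1 := by omega
      rw [h4]
      ring
    rw [h3, Nat.add_mul_mod_self_left]
  rw [h1]
  simp only [beq_iff_eq]
  constructor
  · intro h
    exact hζ.pow_inj (Nat.mod_lt _ (by omega)) hj h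
  · intro h
    rw [h]

end Weights

section Main

variable {k : Type*} [Field k] [CharP k 2] {F : Type*} [Field F] [Fintype F] [DecidableEq F] {ι : F →+* k}
  {lam : Fˣ} {y : _root_.Matrix.SpecialLinearGroup (Fin 2) F} {ζ : k}

theorem isSS_y (D : Dat16 ι lam y ζ) : SLC.IsSS ι y ζ := by
  refine isSS_of_trace ι (D.prim.ne_zero (by norm_num)) D.tr fun h => ?_
  have h0 := D.prim.ne_zero (by norm_num)
  have h1 : ζ ^ 2 = 1 := by
    rw [sq]
    nth_rw 2 [h]
    exact mul_inv_cancel₀ h0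
  have h2 := D.prim.dvd_of_pow_eq_one 2 h1
  omega

theorem prim_lam (D : Dat16 ι lam y ζ) : IsPrimitiveRoot (ι lam) 15 := by
  classical
  have h := primitive ι ι.injective D.gen
  rwa [D.card] at h

theorem isMult_spec [CharP F 2] (D : Dat16 ι lam y ζ) [DecidableEq k] {V : Type*} [AddCommGroup V] [Module k V]
    {ρ : Representation k (_root_.Matrix.SpecialLinearGroup (Fin 2) F) V} {n : ℕ → ℕ} (h : IsMult ι ρ n) : SpecM16 ι ρ lam y ζ n := by
  constructor
  · intro j hj
    unfold e17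
    rw [h.eigen y ζ 17 (isSS_y D) D.prim.pow_eq_one (by
      rw [Ne, CharP.cast_eq_zero_iff k 2]; norm_num) (ζ ^ j) (by
      rw [← pow_mul, mul_comm, pow_mul, D.prim.pow_eq_one, one_pow])]
    refine Finset.sum_congr rfl fun b hb => ?_
    rw [mf_eq (by norm_num) D.prim (Finset.mem_range.1 hb) hj]
    rfl
  · intro j hj
    have hl := prim_lam D
    unfold e15
    rw [h.eigen (Cfsg.Agent.H943.SL2Rel.h lam) (ι lam) 15 (isSS_h ι lam) hl.pow_eq_one (by
      rw [Ne, CharP.cast_eq_zero_iff k 2]; norm_num) (ι lam ^ j) (by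
      rw [← pow_mul, mul_comm, pow_mul, hl.pow_eq_one, one_pow])]
    refine Finset.sum_congr rfl fun b hb => ?_
    rw [mf_eq (by norm_num) hl (Finset.mem_range.1 hb) hj]
    rfl

/-- the multiplicities are determined -/
theorem SpecM16.uniq {V : Type*} [AddCommGroup V] [Module k V]
    {ρ : Representation k (_root_.Matrix.SpecialLinearGroup (Fin 2) F) V} {m n : ℕ → ℕ} (hm : SpecM16 ι ρ lam y ζ m)
    (hn : SpecM16 ι ρ lam y ζ n) : ∀ b < 16, m b = n b :=
  L16.uniq m n (fun j hj => (hm.1 j hj).symm.trans (hn.1 j hj)) fun j hj => (hm.2 j hj).symm.trans (hn.2 j hj)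

/-- `m 0 = dim V ^ y` -/
theorem SpecM16.zero {V : Type*} [AddCommGroup V] [Module k V]
    {ρ : Representation k (_root_.Matrix.SpecialLinearGroup (Fin 2) F) V} {m : ℕ → ℕ} (hm : SpecM16 ι ρ lam y ζ m) :
    m 0 = Module.finrank k (eig ρ y 1) := by
  have h1 := hm.1 0 (by norm_num)
  unfold e17 at h1
  rw [pow_zero] at h1
  rw [h1, Finset.sum_eq_single 0]
  · rw [w17_zero 0 (by norm_num), if_pos rfl, mul_one]
  · intro b hb hb0
    rw [w17_zero b (Finset.mem_range.1 hb), if_neg hb0, mul_zero]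
  · intro h0
    exact absurd (Finset.mem_range.2 (by norm_num)) h0

end Main

end Cfsg.Agent.H179.L16
end

-- part: H179/L16/Pr32
section
/-!
# S5916: the strict pressure inequality (helper179)

`fix_of_pressure` : a module with an invariant nondegenerate form, with composition factors the trivial module
(multiplicity `m 0 > 0`) and the `V_{2^i}` with `∑ m (2 ^ i) ≤ m 0`, has a nonzero fixed vector.
-/

set_option autoImplicit false
set_option linter.unusedSectionVars false

namespace Cfsg.Agent.H179.L16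

open Matrix Module Cfsg.Agent.H943.SL2Rel Cfsg.Agent.H943.RepAdd Cfsg.Agent.H943.SL2Mod
open Cfsg.Agent.H179.SLC (charF hs_one fx mem_fx)
open Cfsg.Agent.H179.SLD (Bn IsMult exists_isMult exists_isMult_sub)

section Dual

variable {k G V : Type*} [Field k] [Group G] [AddCommGroup V] [Module k V] [FiniteDimensional k V]
  (ρ : Representation k G V)

theorem finrank_eig_dual (g : G) {μ : k} (hμ : μ ≠ 0) :
    finrank k (eig ρ.dual g μ) = finrank k (eig ρ g μ⁻¹) := by
  have h1 : eig ρ.dual g μ = LinearMap.ker (LinearMap.dualMap (ρ g⁻¹ - μ • (1 : Module.End k V))) := by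
    ext f
    rw [mem_eig, LinearMap.mem_ker]
    constructor
    · intro h
      ext v
      have h2 := LinearMap.congr_fun h v
      have h3 : f (ρ g⁻¹ v) = μ • f v := h2
      show f ((ρ g⁻¹ - μ • (1 : Module.End k V)) v) = 0
      rw [LinearMap.sub_apply, map_sub, h3, LinearMap.smul_apply, Module.End.one_apply, map_smul, sub_self]
    · intro h
      ext v
      have h2 := LinearMap.congr_fun h v
      have h3 : f ((ρ g⁻¹ - μ • (1 : Module.End k V)) v) = 0 := h2
      rw [LinearMap.sub_apply, map_sub, LinearMap.smul_apply, Module.End.one_apply, map_smul, sub_eq_zero] at h3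
      exact h3
  have h2 : eig ρ g μ⁻¹ = LinearMap.ker (ρ g⁻¹ - μ • (1 : Module.End k V)) := by
    ext v
    rw [mem_eig, LinearMap.mem_ker, LinearMap.sub_apply, LinearMap.smul_apply, Module.End.one_apply, sub_eq_zero]
    constructor
    · intro h
      have h3 : ρ g⁻¹ (ρ g v) = v := by
        rw [← Module.End.mul_apply, ← map_mul, inv_mul_cancel, map_one]; rfl
      rw [h, map_smul] at h3
      have h4 := congrArg (fun x => μ • x) h3
      simp only [smul_smul, mul_inv_cancel₀ hμ, one_smul] at h4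
      exact h4
    · intro h
      have h3 : ρ g (ρ g⁻¹ v) = v := by
        rw [← Module.End.mul_apply, ← map_mul, mul_inv_cancel, map_one]; rfl
      rw [h, map_smul] at h3
      have h4 := congrArg (fun x => μ⁻¹ • x) h3
      simp only [smul_smul, inv_mul_cancel₀ hμ, one_smul] at h4
      exact h4
  rw [h1, h2]
  have e1 := LinearMap.finrank_range_add_finrank_ker (LinearMap.dualMap (ρ g⁻¹ - μ • (1 : Module.End k V)))
  have e2 := LinearMap.finrank_range_add_finrank_ker (ρ g⁻¹ - μ • (1 : Module.End k V))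
  rw [LinearMap.finrank_range_dualMap_eq_finrank_range, Subspace.dual_finrank_eq] at e1
  omega

variable (B : V →ₗ[k] V →ₗ[k] k)

/-- the map of `V` onto the dual of a subspace -/
noncomputable def Phi (U : Submodule k V) : V →ₗ[k] Module.Dual k U := U.dualRestrict.comp B

theorem Phi_apply (U : Submodule k V) (v : V) (u : U) : Phi B U v u = B v u := rfl

theorem Phi_surjective (hB : ∀ x, (∀ z, B x z = 0) → x = 0) (U : Submodule k V) : Function.Surjective (Phi B U) := by
  have h1 : Function.Injective B := by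
    refine (injective_iff_map_eq_zero B).2 fun x hx => hB x fun z => ?_
    rw [hx]
    rfl
  have h2 : Function.Surjective B :=
    (LinearMap.injective_iff_surjective_of_finrank_eq_finrank (Subspace.dual_finrank_eq (K := k) (V := V)).symm).1 h1
  have h3 : Function.Surjective U.dualRestrict := Subspace.dualRestrict_surjective
  intro f
  obtain ⟨g, rfl⟩ := h3 f
  obtain ⟨v, rfl⟩ := h2 g
  exact ⟨v, rfl⟩

end Dual

section Main

variable {k : Type*} [Field k] [IsAlgClosed k] [CharP k 2] {F : Type*} [Field F] [Fintype F] [DecidableEq F] {ι : F →+* k}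
  {lam : Fˣ} {y : _root_.Matrix.SpecialLinearGroup (Fin 2) F} {ζ : k}

universe v

/-- a fixed vector modulo a submodule without fixed vectors of `y` -/
theorem exists_fix_mod (D : Dat16 ι lam y ζ) {V : Type v} [AddCommGroup V] [Module k V] [FiniteDimensional k V]
    (ρ : Representation k (_root_.Matrix.SpecialLinearGroup (Fin 2) F) V) (h0 : eig ρ y 1 ≠ ⊥) :
    ∃ (U : Submodule k V) (_ : ∀ g, ∀ x ∈ U, ρ g x ∈ U) (t : V), (∀ u ∈ U, ρ y u = u → u = 0) ∧ t ∉ U ∧
      ρ y t = t ∧ ∀ g, ρ g t - t ∈ U := by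
  classical
  have := charF ι
  obtain ⟨U, ⟨hU, hUy⟩, hmax⟩ := (wellFounded_gt (α := Submodule k V)).has_min
    {U : Submodule k V | (∀ g, ∀ x ∈ U, ρ g x ∈ U) ∧ ∀ u ∈ U, ρ y u = u → u = 0} ⟨⊥, fun g x hx => by
      rw [(Submodule.mem_bot k).1 hx, map_zero]
      exact Submodule.zero_mem _, fun u hu _ => (Submodule.mem_bot k).1 hu⟩
  have hne : U ≠ ⊤ := by
    intro h
    apply h0
    rw [eq_bot_iff]
    intro x hx
    rw [mem_eig, one_smul] at hx
    exact (Submodule.mem_bot k).2 (hUy x (by rw [h]; exact Submodule.mem_top) hx)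
  have hnt : Nontrivial (V ⧸ U) := Submodule.Quotient.nontrivial_iff.2 hne
  obtain ⟨W, hW, hW0, hmin⟩ := exists_irr_sub (quotRep ρ U hU)
  -- the preimage
  have hTi : ∀ g, ∀ x ∈ W.comap U.mkQ, ρ g x ∈ W.comap U.mkQ := by
    intro g x hx
    show U.mkQ (ρ g x) ∈ W
    rw [← quotRep_mk]
    exact hW g _ hx
  have hlt : U < W.comap U.mkQ := by
    refine lt_of_le_of_ne (fun u hu => ?_) fun h => hW0 ?_
    · show U.mkQ u ∈ W
      rw [Submodule.mkQ_apply, (Submodule.Quotient.mk_eq_zero U).2 hu]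
      exact W.zero_mem
    · rw [eq_bot_iff]
      intro w hw
      obtain ⟨x, rfl⟩ := U.mkQ_surjective w
      have hx : x ∈ W.comap U.mkQ := hw
      rw [← h] at hx
      rw [Submodule.mkQ_apply, (Submodule.Quotient.mk_eq_zero U).2 hx]
      exact Submodule.zero_mem _
  have h1 : ¬ ∀ u ∈ W.comap U.mkQ, ρ y u = u → u = 0 := fun h => hmax _ ⟨hTi, h⟩ hlt
  push Not at h1
  obtain ⟨t, ht, hyt, ht0⟩ := h1
  have htU : t ∉ U := fun h => ht0 (hUy t h hyt)
  refine ⟨U, hU, t, hUy, htU, hyt, ?_⟩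
  -- the irreducible module is trivial
  have hIW : Irr (subRep (quotRep ρ U hU) W hW) := by
    refine ⟨Submodule.nontrivial_iff_ne_bot.2 hW0, fun W' hW' => ?_⟩
    rcases hmin (W'.map W.subtype) (Submodule.map_subtype_le _ _) (by
      rintro g _ ⟨x, hx, rfl⟩
      exact ⟨_, hW' g x hx, rfl⟩) with h1 | h1
    · left
      rw [eq_bot_iff]
      intro x hx
      have h2 : (x : V ⧸ U) ∈ W'.map W.subtype := ⟨x, hx, rfl⟩
      rw [h1] at h2
      exact (Submodule.mem_bot k).2 (Subtype.ext ((Submodule.mem_bot k).1 h2))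
    · right
      rw [eq_top_iff]
      intro x _
      have h2 : (x : V ⧸ U) ∈ W'.map W.subtype := by rw [h1]; exact x.2
      obtain ⟨z, hz, e⟩ := h2
      rwa [← Subtype.ext (p := fun z => z ∈ W) e]
  obtain ⟨b, hb, φ, hφ⟩ := SLC.irr_iso ι 2 (subRep (quotRep ρ U hU) W hW) ι.injective hs_one hIW
  have hM := (SLD.isMult_rb ι D.card ι.injective hs_one hb).of_iso ι φ hφ
  have hS := isMult_spec D hM
  have hz := hS.zero
  let t' : W := ⟨U.mkQ t, ht⟩
  have ht'0 : t' ≠ 0 := by
    intro h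
    have h2 : U.mkQ t = 0 := congrArg Subtype.val h
    rw [Submodule.mkQ_apply, Submodule.Quotient.mk_eq_zero] at h2
    exact htU h2
  have ht'm : t' ∈ eig (subRep (quotRep ρ U hU) W hW) y 1 := by
    rw [mem_eig, one_smul]
    apply Subtype.ext
    show quotRep ρ U hU y (U.mkQ t) = U.mkQ t
    rw [quotRep_mk, hyt]
  have hpos : 0 < finrank k (eig (subRep (quotRep ρ U hU) W hW) y 1) := by
    have : Nontrivial (eig (subRep (quotRep ρ U hU) W hW) y 1) :=
      ⟨⟨t', ht'm⟩, 0, fun h => ht'0 (congrArg Subtype.val h)⟩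
    exact finrank_pos (R := k) (M := eig (subRep (quotRep ρ U hU) W hW) y 1)
  have hb0 : b = 0 := by
    by_contra hb0
    rw [Pi.single_eq_of_ne (Ne.symm hb0)] at hz
    omega
  subst hb0
  intro g
  have h3 : subRep (quotRep ρ U hU) W hW g t' = t' := by
    have h4 := hφ g (φ.symm t')
    rw [LinearEquiv.apply_symm_apply, SLC.rb_zero_triv ι hs_one g, Module.End.one_apply,
      LinearEquiv.apply_symm_apply] at h4
    exact h4.symm
  have h5 : U.mkQ (ρ g t) = U.mkQ t := congrArg Subtype.val h3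
  rw [← sub_eq_zero, ← map_sub, Submodule.mkQ_apply, Submodule.Quotient.mk_eq_zero] at h5
  exact h5

/-- the number of the factors `V_{2^i}` of a submodule `U` with a fixed vector modulo `U` -/
theorem one_le_of_fix_mod (D : Dat16 ι lam y ζ) [DecidableEq k] [CharP F 2] {V : Type v} [AddCommGroup V] [Module k V]
    [FiniteDimensional k V] (ρ : Representation k (_root_.Matrix.SpecialLinearGroup (Fin 2) F) V)
    (hfix : ∀ v, (∀ g, ρ g v = v) → v = 0) (U : Submodule k V) (hU : ∀ g, ∀ x ∈ U, ρ g x ∈ U) {t : V} (htU : t ∉ U)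
    (hyt : ρ y t = t) (hg : ∀ g, ρ g t - t ∈ U) {n : ℕ → ℕ} (hn : IsMult ι (subRep ρ U hU) n) :
    1 ≤ n 1 + n 2 + n 4 + n 8 := by
  set! T := U ⊔ Submodule.span k {t} with hTdef
  have htT : t ∈ T := Submodule.mem_sup_right (Submodule.mem_span_singleton_self t)
  have hUT : U ≤ T := le_sup_left
  have hT : ∀ g, ∀ x ∈ T, ρ g x ∈ T := by
    intro g x hx
    obtain ⟨u, hu, z, hz, rfl⟩ := Submodule.mem_sup.1 hx
    obtain ⟨c, rfl⟩ := Submodule.mem_span_singleton.1 hz
    rw [map_add, map_smul]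
    refine T.add_mem (hUT (hU g u hu)) (T.smul_mem c ?_)
    have h1 := T.add_mem (hUT (hg g)) htT
    rwa [sub_add_cancel] at h1
  let U' : Submodule k T := U.comap T.subtype
  have hU' : ∀ g, ∀ x ∈ U', subRep ρ T hT g x ∈ U' := fun g x hx => hU g _ hx
  obtain ⟨n₁, n₂, h1, h2, h3⟩ := exists_isMult_sub ι D.card ι.injective (subRep ρ T hT) U' hU'
  -- the quotient has dimension at most one
  have hdim : finrank k (T ⧸ U') ≤ 1 := by
    refine finrank_le_one (U'.mkQ ⟨t, htT⟩) fun x => ?_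
    obtain ⟨⟨x, hx⟩, rfl⟩ := U'.mkQ_surjective x
    obtain ⟨u, hu, z, hz, rfl⟩ := Submodule.mem_sup.1 hx
    obtain ⟨c, rfl⟩ := Submodule.mem_span_singleton.1 hz
    refine ⟨c, ?_⟩
    rw [← map_smul, ← sub_eq_zero, ← map_sub, Submodule.mkQ_apply, Submodule.Quotient.mk_eq_zero]
    show c • t - (u + c • t) ∈ U
    have e : c • t - (u + c • t) = -u := by abel
    rw [e]
    exact U.neg_mem hu
  have hn2 : n₂ 1 = 0 ∧ n₂ 2 = 0 ∧ n₂ 4 = 0 ∧ n₂ 8 = 0 := by
    rw [h2.dim] at hdim
    have hz : ∀ b < 16, 2 ≤ (Bn b).card → n₂ b = 0 := by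
      intro b hb hc
      have h4 := Finset.single_le_sum (f := fun b => n₂ b * (Bn b).card) (fun _ _ => Nat.zero_le _)
        (Finset.mem_range.2 hb)
      have h5 : n₂ b * 2 ≤ n₂ b * (Bn b).card := Nat.mul_le_mul_left _ hc
      have h6 := h4.trans hdim
      omega
    exact ⟨hz 1 (by norm_num) (by decide), hz 2 (by norm_num) (by decide), hz 4 (by norm_num) (by decide),
      hz 8 (by norm_num) (by decide)⟩
  -- `U'` is `U`
  let φ : U' ≃ₗ[k] U := Submodule.comapSubtypeEquivOfLe hUT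
  have h1' : IsMult ι (subRep ρ U hU) n₁ := h1.of_iso ι φ fun g x => rfl
  have huq := (isMult_spec D h1').uniq (isMult_spec D hn)
  -- the pressure of `T`
  have h4 := h3.pressure
  have h5 : fx (subRep ρ T hT) = ⊥ := by
    rw [eq_bot_iff]
    intro x hx
    refine (Submodule.mem_bot k).2 (Subtype.ext (hfix x fun g => ?_))
    exact congrArg Subtype.val (hx g)
  rw [h5, finrank_bot] at h4
  have h6 := (isMult_spec D h3).zero
  have hpos : 0 < finrank k (eig (subRep ρ T hT) y 1) := by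
    have : Nontrivial (eig (subRep ρ T hT) y 1) := ⟨⟨⟨t, htT⟩, by
      rw [mem_eig, one_smul]
      exact Subtype.ext hyt⟩, 0, fun h => htU (by
        have h7 : t = 0 := congrArg Subtype.val (congrArg Subtype.val h)
        rw [h7]
        exact U.zero_mem)⟩
    exact finrank_pos (R := k) (M := eig (subRep ρ T hT) y 1)
  simp only [Pi.add_apply] at h4 h6
  have u1 := huq 1 (by norm_num)
  have u2 := huq 2 (by norm_num)
  have u4 := huq 4 (by norm_num)
  have u8 := huq 8 (by norm_num)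
  omega

/-- **The strict pressure inequality.** -/
theorem fix_of_pressure (D : Dat16 ι lam y ζ) {V : Type v} [AddCommGroup V] [Module k V] [FiniteDimensional k V]
    (ρ : Representation k (_root_.Matrix.SpecialLinearGroup (Fin 2) F) V) (B : V →ₗ[k] V →ₗ[k] k)
    (hB : ∀ x, (∀ z, B x z = 0) → x = 0) (hinv : ∀ g x z, B (ρ g x) (ρ g z) = B x z) {m : ℕ → ℕ}
    (hm : SpecM16 ι ρ lam y ζ m) (h0 : 0 < m 0) (hp : m 1 + m 2 + m 4 + m 8 ≤ m 0) :
    ∃ v, v ≠ 0 ∧ ∀ g, ρ g v = v := by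
  classical
  have := charF ι
  by_contra hcon
  push Not at hcon
  have hfix : ∀ v, (∀ g, ρ g v = v) → v = 0 := by
    intro v hv
    by_contra h1
    obtain ⟨g, hg⟩ := hcon v h1
    exact hg (hv g)
  have hm0 := hm.zero
  have h0' : eig ρ y 1 ≠ ⊥ := by
    intro h
    rw [h, finrank_bot] at hm0
    omega
  obtain ⟨U, hU, t, hUy, htU, hyt, hg⟩ := exists_fix_mod D ρ h0'
  obtain ⟨n, hn⟩ := exists_isMult ι D.card ι.injective (subRep ρ U hU)
  have hn1 := one_le_of_fix_mod D ρ hfix U hU htU hyt hg hn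
  have hnS := isMult_spec D hn
  have hn0 : n 0 = 0 := by
    rw [hnS.zero]
    have h1 : eig (subRep ρ U hU) y 1 = ⊥ := by
      rw [eq_bot_iff]
      intro x hx
      rw [mem_eig, one_smul] at hx
      exact (Submodule.mem_bot k).2 (Subtype.ext (hUy x x.2 (congrArg Subtype.val hx)))
    rw [h1, finrank_bot]
  -- the orthogonal complement
  have hinv' : ∀ g x z, B (ρ g x) z = B x (ρ g⁻¹ z) := by
    intro g x z
    have h1 : ρ g (ρ g⁻¹ z) = z := by
      rw [← Module.End.mul_apply, ← map_mul, mul_inv_cancel, map_one]; rfl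
    conv_lhs => rw [← h1]
    rw [hinv]
  have hK : ∀ g, ∀ x ∈ LinearMap.ker (Phi B U), ρ g x ∈ LinearMap.ker (Phi B U) := by
    intro g x hx
    rw [LinearMap.mem_ker] at hx ⊢
    ext u
    rw [Phi_apply, hinv']
    exact LinearMap.congr_fun hx ⟨ρ g⁻¹ u, hU _ _ u.2⟩
  obtain ⟨nK, nQ, hK1, hQ1, hV1⟩ := exists_isMult_sub ι D.card ι.injective ρ _ hK
  let ψ : (V ⧸ LinearMap.ker (Phi B U)) ≃ₗ[k] Module.Dual k U :=
    (Phi B U).quotKerEquivOfSurjective (Phi_surjective B hB U)
  have hψ : ∀ g x, ψ (quotRep ρ _ hK g x) = (subRep ρ U hU).dual g (ψ x) := by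
    intro g x
    obtain ⟨x, rfl⟩ := (LinearMap.ker (Phi B U)).mkQ_surjective x
    rw [quotRep_mk]
    ext u
    show B (ρ g x) u = B x (ρ g⁻¹ u)
    rw [hinv']
  have hdual : ∀ g μ, μ ≠ 0 → finrank k (eig (quotRep ρ _ hK) g μ) = finrank k (eig (subRep ρ U hU) g μ⁻¹) := by
    intro g μ hμ
    rw [finrank_eig_iso _ _ ψ hψ, finrank_eig_dual _ g hμ]
  have hQS := isMult_spec D hQ1
  have hmod : ∀ {ξ : k} {N : ℕ} (_ : IsPrimitiveRoot ξ N) (_ : 0 < N) (j : ℕ), j < N →
      (ξ ^ j)⁻¹ = ξ ^ ((N - j) % N) := by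
    intro ξ N hξ hN j hj
    symm
    apply eq_inv_of_mul_eq_one_left
    rcases Nat.eq_zero_or_pos j with rfl | hj0
    · rw [Nat.sub_zero, Nat.mod_self, pow_zero, mul_one]
    · rw [Nat.mod_eq_of_lt (by omega), ← pow_add, Nat.sub_add_cancel hj.le, hξ.pow_eq_one]
  have hnQ : ∀ b < 16, nQ b = n b := by
    refine L16.uniq nQ n (fun j hj => ?_) fun j hj => ?_
    · rw [← hQS.1 j hj]
      unfold e17
      rw [hdual _ _ (pow_ne_zero _ (D.prim.ne_zero (by norm_num))), hmod D.prim (by norm_num) j hj]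
      have h1 := hnS.1 ((17 - j) % 17) (Nat.mod_lt _ (by norm_num))
      unfold e17 at h1
      rw [h1]
      refine Finset.sum_congr rfl fun b hb => ?_
      rw [w17_neg b (Finset.mem_range.1 hb) j hj]
    · rw [← hQS.2 j hj]
      unfold e15
      rw [hdual _ _ (pow_ne_zero _ ((prim_lam D).ne_zero (by norm_num))), hmod (prim_lam D) (by norm_num) j hj]
      have h1 := hnS.2 ((15 - j) % 15) (Nat.mod_lt _ (by norm_num))
      unfold e15 at h1
      rw [h1]
      refine Finset.sum_congr rfl fun b hb => ?_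
      rw [w15_neg b (Finset.mem_range.1 hb) j hj]
  -- the pressure of the complement
  have h4 := hK1.pressure
  have h5 : fx (subRep ρ _ hK) = ⊥ := by
    rw [eq_bot_iff]
    intro x hx
    refine (Submodule.mem_bot k).2 (Subtype.ext (hfix x fun g => ?_))
    exact congrArg Subtype.val (hx g)
  rw [h5, finrank_bot] at h4
  have hu := hm.uniq (isMult_spec D hV1)
  have u0 := hu 0 (by norm_num)
  have u1 := hu 1 (by norm_num)
  have u2 := hu 2 (by norm_num)
  have u4 := hu 4 (by norm_num)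
  have u8 := hu 8 (by norm_num)
  simp only [Pi.add_apply] at u0 u1 u2 u4 u8
  have q0 := hnQ 0 (by norm_num)
  have q1 := hnQ 1 (by norm_num)
  have q2 := hnQ 2 (by norm_num)
  have q4 := hnQ 4 (by norm_num)
  have q8 := hnQ 8 (by norm_num)
  omega

end Main

end Cfsg.Agent.H179.L16
end

private theorem dce_930cca797069 : _root_.True := by
  try have : _root_.True := by simp only [_root_.Cfsg.Agent.H179.SLD.chk.eq_def]
  try have : _root_.True := by simp only [_root_.Cfsg.Agent.H179.SLD.mf.congr_simp]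
  try have : _root_.True := by simp only [_root_.Cfsg.Agent.H179.L16.T15.eq_1]
  try have : _root_.True := by simp only [_root_.Cfsg.Agent.H179.L16.T17.eq_1]
  exact _root_.True.intro
end

-- part: H943/L16/Kac17_mg
section
prune_inst 0x10203504644000020000058011001c00a200000000088000c88000060c89280089004860ba30010200a810841031004811880030420000000a003400011b00a088801004a0080008460081000080000000000000000000000000000000000004000000000
set_option linter.all false
open scoped Cfsg.Agent.FastGrp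

section
open Cfsg.Agent.H944.Tab (dotN sumH invB hh)

private noncomputable def fS (x : ℕ) (f : ℕ → ℕ) : ℕ := Nat.rec (f 0) (fun n _ => f (Nat.succ n)) x

private noncomputable def zpS (B : ℕ) (r : List ℕ) : List ℕ → List ℕ :=
  List.rec (fun c => c.map (Nat.mul B)) (fun a _ ih c => Nat.add a (Nat.mul B (c.headD 0)) :: ih c.tail) r

private noncomputable def colS (B : ℕ) (R : List (List ℕ)) : List ℕ := List.rec [] (fun r _ ih => zpS B r ih) R

private noncomputable def pkS (B : ℕ) (y : List ℕ) (R : List (List ℕ)) : ℕ :=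
  List.rec 0 (fun r _ ih => dotN r y + B * ih) R

private noncomputable def dgS (h : ℕ → ℕ) (R : List (List ℕ)) : ℕ → ℕ :=
  List.rec (fun _ => 0) (fun _ _ ih D => Nat.add (fS (Nat.mod D 1048576) h) (ih (Nat.div D 1048576))) R

private noncomputable def sumS (h : ℕ → ℕ) (R : List (List ℕ)) (y : List ℕ) : ℕ :=
  cond (Nat.blt (dotN (colS 1 R) y) 1048576) (dgS h R (dotN (colS 1048576 R) y)) (sumH h R y)

private def gS (N q t : ℕ) : ℕ := Nat.add (hh N t) (Nat.mul 2305843009213693950 (hh N (q * t)))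

private noncomputable def invS (N q : ℕ) (R : List (List ℕ)) (y : List ℕ) : Bool :=
  cond (Nat.beq (Nat.mod (sumS (gS N q) R y) 2305843009213693951) 0)
    (Nat.beq (sumS (hh N) R y) (sumS (fun t => hh N (q * t)) R y)) false

private theorem sumS_eq : sumH = sumS := by
  have d0 : ∀ y, dotN [] y = 0 := fun y => by cases y <;> rfl
  have d1 : ∀ y, dotN y [] = 0 := fun y => by cases y <;> rfl
  have h0 : ∀ (B : ℕ) (c y : List ℕ), dotN (c.map (Nat.mul B)) y = B * dotN c y := fun B c => by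
    induction c with
    | nil => exact fun y => (d0 y).trans (by rw [d0]; rfl)
    | cons b c ih =>
      intro y
      cases y with
      | nil => exact (d1 _).trans (by rw [d1]; rfl)
      | cons x y =>
        show B * b * x + dotN (c.map (Nat.mul B)) y = B * (b * x + dotN c y)
        rw [ih, Nat.mul_add, Nat.mul_assoc]
  have h1 : ∀ (B : ℕ) (r c y : List ℕ), dotN (zpS B r c) y = dotN r y + B * dotN c y := fun B r => by
    induction r with
    | nil => exact fun c y => (h0 B c y).trans (by rw [d0, Nat.zero_add])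
    | cons a r ih =>
      intro c y
      cases y with
      | nil => rw [d1, d1, d1]; rfl
      | cons x y =>
        show (a + B * c.headD 0) * x + dotN (zpS B r c.tail) y = a * x + dotN r y + B * dotN c (x :: y)
        rw [ih]
        cases c with
        | nil =>
          show (a + B * 0) * x + (dotN r y + B * dotN [] y) = a * x + dotN r y + B * 0
          rw [d0, Nat.mul_zero, Nat.add_zero, Nat.add_zero, Nat.add_zero]
        | cons b c =>
          show (a + B * b) * x + (dotN r y + B * dotN c y) = a * x + dotN r y + B * (b * x + dotN c y)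
          rw [Nat.add_mul, Nat.mul_add, Nat.mul_assoc, Nat.add_add_add_comm]
  have h2 : ∀ (B : ℕ) (y : List ℕ) (R : List (List ℕ)), dotN (colS B R) y = pkS B y R := fun B y R => by
    induction R with
    | nil => exact d0 y
    | cons r R ih => exact (h1 B r (colS B R) y).trans (congrArg (fun z => dotN r y + B * z) ih)
  have h3 : ∀ (h : ℕ → ℕ) (y : List ℕ) (R : List (List ℕ)), pkS 1 y R < 1048576 →
      sumH h R y = dgS h R (pkS 1048576 y R) := fun h y R => by
    induction R with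
    | nil => exact fun _ => rfl
    | cons r R ih =>
      intro hl
      have e0 : dotN r y + 1 * pkS 1 y R < 1048576 := hl
      have e1 : (dotN r y + 1048576 * pkS 1048576 y R) % 1048576 = dotN r y := by omega
      have e2 : (dotN r y + 1048576 * pkS 1048576 y R) / 1048576 = pkS 1048576 y R := by omega
      show h (dotN r y) + sumH h R y = fS ((dotN r y + 1048576 * pkS 1048576 y R) % 1048576) h +
        dgS h R ((dotN r y + 1048576 * pkS 1048576 y R) / 1048576)
      rw [e1, e2, ih (by omega)]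
      cases dotN r y <;> rfl
  funext h R y
  delta sumS
  rw [h2, h2]
  cases e : Nat.blt (pkS 1 y R) 1048576 with
  | false => rfl
  | true => exact h3 h y R (Nat.blt_eq.mp e)

private theorem invS_eq : invB = invS := by
  have h0 : ∀ (N q : ℕ) (y : List ℕ) (R : List (List ℕ)), sumH (gS N q) R y =
      sumH (hh N) R y + 2305843009213693950 * sumH (fun t => hh N (q * t)) R y := fun N q y R => by
    induction R with
    | nil => rfl
    | cons r R ih =>
      show hh N (dotN r y) + 2305843009213693950 * hh N (q * dotN r y) + sumH (gS N q) R y =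
        hh N (dotN r y) + sumH (hh N) R y + 2305843009213693950 * (hh N (q * dotN r y) + sumH (fun t => hh N (q * t)) R y)
      rw [ih, Nat.mul_add, Nat.add_add_add_comm]
  funext N q R y
  delta invS invB
  rw [← sumS_eq, h0]
  cases e : Nat.beq (sumH (hh N) R y) (sumH (fun t => hh N (q * t)) R y) with
  | false => exact (Bool.cond_self _ _).symm
  | true =>
    rw [Nat.eq_of_beq_eq_true e]
    generalize sumH (fun t => hh N (q * t)) R y = s
    rw [show Nat.mod (s + 2305843009213693950 * s) 2305843009213693951 = 0 from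
      (show (s + 2305843009213693950 * s) % 2305843009213693951 = 0 by omega)]
    rfl

end


-- part: H943/L16/Kac17
section
/-!
# S5916, KAC17: the elements of order 17 of `E₈(2)`
-/

set_option autoImplicit false
set_option maxRecDepth 100000

namespace Cfsg.Agent.H943.L16

open Cfsg Cfsg.Lie
open Cfsg.Agent.ChevalleyStructure Cfsg.Agent.ChevalleyStructure.CoxeterGeomTypes
open Cfsg.Agent.H942.E8Tab Cfsg.Agent.H942.E8Alc Cfsg.Agent.H942.E8Val
open Cfsg.Agent.H944.RootVals Cfsg.Agent.H944.Tab Cfsg.Agent.H944.Kac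
open Cfsg.Agent.H939.L64 (KK E2 LK em aK fr TorZ)
open Cfsg.Agent.H939.L16 (V16)
open Cfsg.Agent.H413.L64 Cfsg.Agent.H259.L64

/-- the vector of the class of elements of order 17 with a centralizer of dimension 32 -/
def V32 : Fin 8 → ZMod 17 := ![1, 0, 0, 0, 0, 1, 1, 2]

/-- the alcove vectors with `F`-rational multiplicities -/
def LL : List (List ℕ) := [[0, 0, 0, 0, 0, 0, 0, 0], [0, 1, 1, 0, 1, 0, 1, 1], [1, 0, 0, 0, 0, 1, 1, 2],
  [1, 0, 0, 1, 0, 1, 0, 2], [2, 0, 0, 0, 0, 1, 2, 1]]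

private noncomputable def _root_.Cfsg.Agent.LsF.f0214d0_0 : {f // @Cfsg.Agent.H944.Tab.allAlc = f} := ⟨_, by first | (delta Cfsg.Agent.H944.Tab.allAlc List.brecOn Cfsg.Agent.H944.Tab.allAlc._f List.brecOn.go; rewrite [Cfsg.Agent.LsF.nadd_pat, Cfsg.Agent.LsF.nmul_pat, Cfsg.Agent.LsF.nsub_pat, Cfsg.Agent.LsF.ndiv_pat, Cfsg.Agent.LsF.all_eq, Cfsg.Agent.LsF.range_eq]; (try delta Cfsg.Agent.H944.Tab.allAlc.match_1); (try delta List.casesOn); first | dsimp -zeta only | exact rfl) | exact rfl⟩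
theorem chk17 : allAlc th8 17 (fun Y => bif invB 17 2 R8 Y then decide (Y ∈ LL) else true) = true := by
  rw [invS_eq]
  ((try (rewrite [Cfsg.Agent.LsF.dMemL_pat, Cfsg.Agent.LsF.f0214d0_0.2, Cfsg.Agent.LsF.cond_eq, Cfsg.Agent.LsF.instDecEq_eq, Cfsg.Agent.LsF.decide_eq])); decide +kernel)

theorem srefl_srefl (j : Fin 8) (v : Fin 8 → ZMod 17) : srefl chevE8 8 j (srefl chevE8 8 j v) = v := by
  funext i
  unfold srefl
  rw [e8T.isCartan.diag]
  push_cast
  ring

/-- every vector with an `F`-rational multiset is in the orbit of one of five -/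
theorem five (P : (Fin 8 → ZMod 17) → Prop) (hPs : ∀ w j, P w → P (srefl chevE8 8 j w)) {v : Fin 8 → ZMod 17}
    (hv : P v) (h2 : (ms chevE8 8 v).map (fun a => 2 * a) = ms chevE8 8 v) :
    ∃ Y ∈ LL, P (vecL 17 Y) ∧ ms chevE8 8 (vecL 17 Y) = ms chevE8 8 v := by
  obtain ⟨Y, hY, hd, hP, hm⟩ := exists_alcP (N := 17) (by norm_num) (fun w => P w ∧ ms chevE8 8 w = ms chevE8 8 v)
    (fun w j hw => ⟨hPs w j hw.1, by rw [ms_srefl e8T]; exact hw.2⟩) ⟨hv, rfl⟩
  refine ⟨Y, ?_, hP, hm⟩
  have h4 := allAlc_spec th8 17 _ (by decide) chk17 Y hY hd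
  have h5 : invB 17 2 R8 Y = true := by
    refine invB_of (by norm_num) tab8 len8 ?_
    have h6 : ms chevE8 8 (vecL 17 Y) = (ms chevE8 8 (vecL 17 Y)).map (fun a => ((2 : ℕ) : ZMod 17) * a) := by
      rw [hm]
      exact h2.symm
    exact h6
  rw [h5, cond_true, decide_eq_true_iff] at h4
  exact h4

/-- the orbit of `v` is the orbit of `Y` -/
theorem move {v : Fin 8 → ZMod 17} {Y : List ℕ} (h2 : (ms chevE8 8 v).map (fun a => 2 * a) = ms chevE8 8 v)
    (hY : ∀ Z ∈ LL, (ms chevE8 8 (vecL 17 Z)).count 0 = (ms chevE8 8 v).count 0 →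
      (ms chevE8 8 (vecL 17 Z)).count 1 = (ms chevE8 8 v).count 1 → Z = Y) {x : E2} {ζ : KK}
    (h : TorZ x 17 (vecL 17 Y) ζ) : TorZ x 17 v ζ := by
  obtain ⟨Z, hZ, hP, hm⟩ := five (fun w => TorZ x 17 w ζ → TorZ x 17 v ζ) (fun w j hw h1 => hw (by
    have h3 := T0a h1 j
    rwa [srefl_srefl] at h3)) (v := v) (fun h1 => h1) h2
  have h1 := hY Z hZ (by rw [hm]) (by rw [hm])
  rw [h1] at hP
  exact hP h

theorem vec16 : vecL 17 [1, 0, 0, 1, 0, 1, 0, 2] = V16 := by decide

theorem vec32 : vecL 17 [1, 0, 0, 0, 0, 1, 1, 2] = V32 := by decide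

theorem cnt_mul {Y : List ℕ} (u : (ZMod 17)ˣ) (c : ZMod 17) :
    (ms chevE8 8 (fun i => (u : ZMod 17) * vecL 17 Y i)).count c = cn 17 ((((u⁻¹ : (ZMod 17)ˣ) : ZMod 17) * c).val) Y := by
  rw [count_smul]
  conv_lhs => rw [← ZMod.natCast_zmod_val (((u⁻¹ : (ZMod 17)ˣ) : ZMod 17) * c)]
  rw [count_vecL Y (ZMod.val_lt _)]

theorem cnt_zero {Y : List ℕ} : (ms chevE8 8 (vecL 17 Y)).count 0 = cn 17 0 Y := by
  have h := count_vecL Y (N := 17) (c := 0) (by norm_num)
  rwa [Nat.cast_zero] at h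

theorem cnt_one {Y : List ℕ} : (ms chevE8 8 (vecL 17 Y)).count 1 = cn 17 1 Y := by
  have h := count_vecL Y (N := 17) (c := 1) (by norm_num)
  rwa [Nat.cast_one] at h

theorem two_inv {Y : List ℕ} (h : ∀ c < 17, cn 17 (2 * c % 17) Y = cn 17 c Y) (u : (ZMod 17)ˣ) :
    (ms chevE8 8 (fun i => (u : ZMod 17) * vecL 17 Y i)).map (fun a => 2 * a) =
      ms chevE8 8 (fun i => (u : ZMod 17) * vecL 17 Y i) := by
  have h1 : (ms chevE8 8 (vecL 17 Y)).map (fun a => 2 * a) = ms chevE8 8 (vecL 17 Y) := by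
    refine Multiset.ext.2 fun a => ?_
    have ha : a = 2 * (9 * a) := by
      rw [← mul_assoc]
      have : (2 * 9 : ZMod 17) = 1 := by decide
      rw [this, one_mul]
    have hinj : Function.Injective (fun a : ZMod 17 => 2 * a) := by
      intro a b hab
      have h2 : (9 : ZMod 17) * (2 * a) = 9 * (2 * b) := congrArg (fun t => 9 * t) hab
      have h3 : (9 * 2 : ZMod 17) = 1 := by decide
      rwa [← mul_assoc, ← mul_assoc, h3, one_mul, one_mul] at h2
    conv_lhs => rw [ha]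
    rw [Multiset.count_map_eq_count' _ _ hinj]
    have h4 := h (9 * a).val (ZMod.val_lt _)
    have h5 : 2 * (9 * a).val % 17 = a.val := by
      conv_rhs => rw [ha]
      rw [ZMod.val_mul]
      rfl
    rw [h5] at h4
    have h6 := count_vecL Y (ZMod.val_lt a)
    have h7 := count_vecL Y (ZMod.val_lt (9 * a))
    rw [ZMod.natCast_zmod_val] at h6 h7
    rw [h6, h7, h4]
  rw [ms_smul, Multiset.map_map]
  conv_rhs => rw [← h1, Multiset.map_map]
  refine Multiset.map_congr rfl fun a _ => ?_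
  simp only [Function.comp_apply]
  ring

private noncomputable def _root_.Cfsg.Agent.LsF.f0214d0_1 : {f // @Cfsg.Agent.H944.Tab.dotN = f} := ⟨_, by first | (delta Cfsg.Agent.H944.Tab.dotN List.brecOn List.brecOn.go Cfsg.Agent.H944.Tab.dotN._f; rewrite [Cfsg.Agent.LsF.nadd_pat, Cfsg.Agent.LsF.nmul_pat]; (try delta Cfsg.Agent.H944.Tab.dotN.match_1); (try delta Cfsg.Agent.H944.Tab.dotN._sparseCasesOn_1); first | dsimp -zeta only | exact rfl) | exact rfl⟩
private noncomputable def _root_.Cfsg.Agent.LsF.f0214d0_2 : {f // @Cfsg.Agent.H944.Tab.sumH = f} := ⟨_, by first | (delta Cfsg.Agent.H944.Tab.sumH Cfsg.Agent.H944.Tab.sumH._f List.brecOn List.brecOn.go; rewrite [Cfsg.Agent.LsF.f0214d0_1.2, Cfsg.Agent.LsF.nadd_pat]; (try delta Cfsg.Agent.H944.Tab.sumH.match_1); (try delta List.casesOn); first | dsimp -zeta only | exact rfl) | exact rfl⟩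
private noncomputable def _root_.Cfsg.Agent.LsF.f0214d0_3 : {f // @Cfsg.Agent.H259.L64.ib = f} := ⟨_, by first | (delta Cfsg.Agent.H259.L64.ib; rewrite [Cfsg.Agent.LsF.cond_eq]; exact rfl) | exact rfl⟩
private noncomputable def _root_.Cfsg.Agent.LsF.f0214d0_4 : {f // @Cfsg.Agent.H259.L64.cn = f} := ⟨_, by first | (delta Cfsg.Agent.H259.L64.cn; rewrite [Cfsg.Agent.LsF.f0214d0_2.2, Cfsg.Agent.LsF.f0214d0_3.2, Cfsg.Agent.LsF.nadd_pat, Cfsg.Agent.LsF.nsub_pat, Cfsg.Agent.LsF.nmod_pat]; exact rfl) | exact rfl⟩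
theorem inv16 : ∀ c < 17, cn 17 (2 * c % 17) [1, 0, 0, 1, 0, 1, 0, 2] = cn 17 c [1, 0, 0, 1, 0, 1, 0, 2] := by
  (refine of_decide_eq_true ?_; (try (rewrite [Cfsg.Agent.LsF.f0214d0_4.2, Cfsg.Agent.LsF.nmul_pat, Cfsg.Agent.LsF.nmod_pat, Cfsg.Agent.LsF.instDecEq_eq, Cfsg.Agent.LsF.dBallLT_eq, Cfsg.Agent.LsF.decide_eq])); decide +kernel)

theorem inv32 : ∀ c < 17, cn 17 (2 * c % 17) [1, 0, 0, 0, 0, 1, 1, 2] = cn 17 c [1, 0, 0, 0, 0, 1, 1, 2] := by
  (refine of_decide_eq_true ?_; (try (rewrite [Cfsg.Agent.LsF.f0214d0_4.2, Cfsg.Agent.LsF.nmul_pat, Cfsg.Agent.LsF.nmod_pat, Cfsg.Agent.LsF.instDecEq_eq, Cfsg.Agent.LsF.dBallLT_eq, Cfsg.Agent.LsF.decide_eq])); decide +kernel)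

/-- the unit 6, the inverse of 3 -/
def u6 : (ZMod 17)ˣ := ⟨6, 3, by decide, by decide⟩

theorem mem_LL {Y : List ℕ} : Y ∈ LL ↔ Y = [0, 0, 0, 0, 0, 0, 0, 0] ∨ Y = [0, 1, 1, 0, 1, 0, 1, 1] ∨
    Y = [1, 0, 0, 0, 0, 1, 1, 2] ∨ Y = [1, 0, 0, 1, 0, 1, 0, 2] ∨ Y = [2, 0, 0, 0, 0, 1, 2, 1] := by
  simp [LL]

/-- the table of the numbers of the values 0 and 1 -/
theorem tab : cn 17 0 [0, 0, 0, 0, 0, 0, 0, 0] = 240 ∧ cn 17 0 [0, 1, 1, 0, 1, 0, 1, 1] = 8 ∧
    cn 17 0 [1, 0, 0, 0, 0, 1, 1, 2] = 24 ∧ cn 17 0 [1, 0, 0, 1, 0, 1, 0, 2] = 8 ∧ cn 17 0 [2, 0, 0, 0, 0, 1, 2, 1] = 24 ∧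
    cn 17 1 [0, 1, 1, 0, 1, 0, 1, 1] = 14 ∧ cn 17 1 [1, 0, 0, 0, 0, 1, 1, 2] = 17 ∧
    cn 17 1 [1, 0, 0, 1, 0, 1, 0, 2] = 15 ∧ cn 17 1 [2, 0, 0, 0, 0, 1, 2, 1] = 10 ∧
    cn 17 3 [1, 0, 0, 0, 0, 1, 1, 2] = 10 ∧ cn 17 3 [1, 0, 0, 1, 0, 1, 0, 2] = 14 := by
  (refine of_decide_eq_true ?_; (try (rewrite [Cfsg.Agent.LsF.f0214d0_4.2, Cfsg.Agent.LsF.instDecEq_eq, Cfsg.Agent.LsF.dAnd_eq, Cfsg.Agent.LsF.decide_eq])); decide +kernel)

theorem move16 {x : E2} {ζ : KK} (h : TorZ x 17 (vecL 17 [0, 1, 1, 0, 1, 0, 1, 1]) ζ) : TorZ x 17 V16 (ζ ^ 6) := by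
  obtain ⟨t1, t2, t3, t4, t5, t6, t7, t8, t9, t10, t11⟩ := tab
  have h1 : TorZ x 17 (fun i => (u6 : ZMod 17) * vecL 17 [1, 0, 0, 1, 0, 1, 0, 2] i) ζ := by
    refine move (two_inv inv16 u6) (fun Z hZ h0 h1 => ?_) h
    rw [cnt_zero, cnt_mul, show (((u6⁻¹ : (ZMod 17)ˣ) : ZMod 17) * 0).val = 0 from by decide, t4] at h0
    rw [cnt_one, cnt_mul, show (((u6⁻¹ : (ZMod 17)ˣ) : ZMod 17) * 1).val = 3 from by decide, t11] at h1
    rcases mem_LL.1 hZ with rfl | rfl | rfl | rfl | rfl
    · omega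
    · rfl
    · omega
    · omega
    · omega
  have h2 := T0b u6 h1
  rw [vec16] at h2
  exact h2

theorem move32 {x : E2} {ζ : KK} (h : TorZ x 17 (vecL 17 [2, 0, 0, 0, 0, 1, 2, 1]) ζ) : TorZ x 17 V32 (ζ ^ 6) := by
  obtain ⟨t1, t2, t3, t4, t5, t6, t7, t8, t9, t10, t11⟩ := tab
  have h1 : TorZ x 17 (fun i => (u6 : ZMod 17) * vecL 17 [1, 0, 0, 0, 0, 1, 1, 2] i) ζ := by
    refine move (two_inv inv32 u6) (fun Z hZ h0 h1 => ?_) h
    rw [cnt_zero, cnt_mul, show (((u6⁻¹ : (ZMod 17)ˣ) : ZMod 17) * 0).val = 0 from by decide, t3] at h0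
    rw [cnt_one, cnt_mul, show (((u6⁻¹ : (ZMod 17)ˣ) : ZMod 17) * 1).val = 3 from by decide, t10] at h1
    rcases mem_LL.1 hZ with rfl | rfl | rfl | rfl | rfl
    · omega
    · omega
    · omega
    · omega
    · rfl
  have h2 := T0b u6 h1
  rw [vec32] at h2
  exact h2

/-- **KAC17** : an element of order 17 of `E₈(2)` with a given root of unity `ζ` -/
theorem kac17_at {x : E2} (hx : x ^ 17 = 1) (h1 : x ≠ 1) {ζ : KK} (hζ : IsPrimitiveRoot ζ 17) :
    (TorZ x 17 V16 ζ ∨ ∃ ζ' : KK, ζ = ζ' ^ 3 ∧ TorZ x 17 V16 ζ') ∨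
      (TorZ x 17 V32 ζ ∨ ∃ ζ' : KK, ζ = ζ' ^ 3 ∧ TorZ x 17 V32 ζ') := by
  obtain ⟨v, hv, h2, h3⟩ := T0c (N := 17) (by decide) hx hζ
  have hv0 : v ≠ 0 := by
    rintro rfl
    refine h1 ?_
    have h4 := (h3 1).2 fun i => by rw [Pi.zero_apply, mul_zero]
    rwa [pow_one] at h4
  obtain ⟨Y, hY, ⟨hP, hP0⟩, -⟩ := five (fun w => TorZ x 17 w ζ ∧ w ≠ 0)
    (fun w j hw => ⟨T0a hw.1 j, fun h4 => hw.2 (srefl_eq_zero e8T h4)⟩) ⟨hv, hv0⟩ h2
  have h6 : ζ = (ζ ^ 6) ^ 3 := by
    rw [← pow_mul, show 6 * 3 = 17 + 1 by norm_num, pow_add, hζ.pow_eq_one, one_mul, pow_one]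
  rcases mem_LL.1 hY with rfl | rfl | rfl | rfl | rfl
  · exact absurd (by decide : vecL 17 [0, 0, 0, 0, 0, 0, 0, 0] = 0) hP0
  · exact Or.inl (Or.inr ⟨ζ ^ 6, h6, move16 hP⟩)
  · refine Or.inr (Or.inl ?_)
    rwa [vec32] at hP
  · refine Or.inl (Or.inl ?_)
    rwa [vec16] at hP
  · exact Or.inr (Or.inr ⟨ζ ^ 6, h6, move32 hP⟩)

end Cfsg.Agent.H943.L16
end

-- part: H167/L16/Kac15
section
/-!
# S5916, dimension 32: the eigenvalues of the elements of order dividing 15 of `E₈(2)` (helper167)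

* `check15` : enumeration of the Kac coordinates of order 15 with rational eigenvalue multiplicities over `𝔽₂`;
* `kac15` : `m₀ < 32` or `8 m₁ + 2 m₅ + 32 ≤ 3 m₀ + 4 m₃`;
* `arith` : the multiplicities of the four modules of dimension 2 add up to at most 32.
-/

set_option autoImplicit false
set_option maxRecDepth 100000

namespace Cfsg.Agent.H167.L16

open Cfsg Cfsg.Lie
open Cfsg.Agent.ChevalleyStructure Cfsg.Agent.ChevalleyStructure.CoxeterGeomTypes
open Cfsg.Agent.H942.E8Tab Cfsg.Agent.H942.E8Alc Cfsg.Agent.H942.E8Val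
open Cfsg.Agent.H944.RootVals Cfsg.Agent.H944.Tab Cfsg.Agent.H944.Kac
open Cfsg.Agent.H259.L64 Cfsg.Agent.H939.L64

/-- the enumeration of the Kac coordinates: `m₀ < 32` or `8 m₁ + 2 m₅ + 32 ≤ 3 m₀ + 4 m₃` -/
theorem check15 : allAlc th8 15 (fun Y => bif invB 15 2 R8 Y then
    (Nat.blt (cn 15 0 Y + 8) 32 || Nat.ble (8 * cn 15 1 Y + 2 * cn 15 5 Y + 32) (3 * (cn 15 0 Y + 8) + 4 * cn 15 3 Y))
    else true) = true := by
  delta cn
  rw [invS_eq, sumS_eq]
  ((try (rewrite [Cfsg.Agent.LsF.f0214d0_0.2, Cfsg.Agent.LsF.f0214d0_3.2, Cfsg.Agent.LsF.nadd_pat, Cfsg.Agent.LsF.nmul_pat, Cfsg.Agent.LsF.nsub_pat, Cfsg.Agent.LsF.nmod_pat, Cfsg.Agent.LsF.or_eq, Cfsg.Agent.LsF.cond_eq])); decide +kernel)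

/-- **the eigenvalues of the elements of order dividing 15** -/
theorem kac15 {v' : Fin 8 → ZMod 15} (h2' : (ms chevE8 8 v').map (fun a => 2 * a) = ms chevE8 8 v') :
    cntE v' (0 : ZMod 15) < 32 ∨
      8 * cntE v' (1 : ZMod 15) + 2 * cntE v' (5 : ZMod 15) + 32 ≤ 3 * cntE v' (0 : ZMod 15) + 4 * cntE v' (3 : ZMod 15) := by
  obtain ⟨Y, hY1, hY2, hY3⟩ := exists_alcP (N := 15) (by norm_num) (fun w => ms chevE8 8 w = ms chevE8 8 v')
    (fun w j hw => by rw [ms_srefl e8T]; exact hw) (v := v') rfl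
  have hinv : invB 15 2 R8 Y = true := by
    refine invB_of (by norm_num) tab8 len8 ?_
    have h1 : ms chevE8 8 (vecL 15 Y) = (ms chevE8 8 (vecL 15 Y)).map (fun a => ((2 : ℕ) : ZMod 15) * a) := by
      rw [hY3]
      exact h2'.symm
    exact h1
  have h4 := allAlc_spec th8 15 _ (by decide) check15 Y hY1 hY2
  rw [hinv, cond_true, Bool.or_eq_true, Nat.blt_eq, Nat.ble_eq] at h4
  have hc : ∀ j : ℕ, j < 15 → cntE v' (j : ZMod 15) = cn 15 j Y + if j = 0 then 8 else 0 := by
    intro j hj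
    rw [← cntE_vecL (v := vecL 15 Y) rfl hj]
    unfold cntE
    rw [hY3]
  have e0 := hc 0 (by norm_num)
  have e1 := hc 1 (by norm_num)
  have e3 := hc 3 (by norm_num)
  have e5 := hc 5 (by norm_num)
  norm_num at e0 e1 e3 e5
  rw [e0, e1, e3, e5]
  exact h4

/-! ### the weights of the simple modules of `SL₂(16)` -/

/-- multiplicities of the eigenvalues of `y` of order 17 on `V_b` : the weights are `2 m - b`, `m` a submask of `b` -/
def w17 (b j : ℕ) : ℕ := ((subm b).filter fun m => (2 * m + 16 * b) % 17 == j).length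

/-- multiplicities of the eigenvalues of `h lam` on `V_b` -/
def w15 (b j : ℕ) : ℕ := ((subm b).filter fun m => (2 * m + 14 * b) % 15 == j).length

/-- sum over a class of exponents -/
def cls (J : List ℕ) (b : ℕ) : ℕ := (J.map fun j => w15 b j).sum

def C0 : List ℕ := [1, 0, 0, 0, 0, 0, 0, 0, 0, 0, 0, 0, 0, 0, 0, 2]
def C1 : List ℕ := [0, 1, 1, 1, 1, 0, 1, 2, 1, 1, 0, 2, 1, 2, 2, 4]
def C3 : List ℕ := [0, 0, 0, 2, 0, 2, 2, 2, 0, 2, 2, 2, 2, 2, 2, 4]
def C5 : List ℕ := [0, 0, 0, 0, 0, 2, 0, 2, 0, 0, 2, 2, 0, 2, 2, 2]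

theorem cls0 : ∀ b < 16, cls [0] b = C0.getD b 0 := by decide +kernel
theorem cls1 : ∀ b < 16, cls [1, 2, 4, 8] b = C1.getD b 0 := by decide +kernel
theorem cls3 : ∀ b < 16, cls [3, 6, 12, 9] b = C3.getD b 0 := by decide +kernel
theorem cls5 : ∀ b < 16, cls [5, 10] b = C5.getD b 0 := by decide +kernel

theorem sum_cls (m : ℕ → ℕ) (J : List ℕ) : (J.map fun j => ∑ b ∈ Finset.range 16, m b * w15 b j).sum =
    ∑ b ∈ Finset.range 16, m b * cls J b := by
  unfold cls
  induction J with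
  | nil => simp
  | cons j J ih =>
    simp only [List.map_cons, List.sum_cons, mul_add, Finset.sum_add_distrib]
    rw [ih]

/-- **the bound** -/
theorem arith {m : ℕ → ℕ} {v' : Fin 8 → ZMod 15} (h2' : (ms chevE8 8 v').map (fun a => 2 * a) = ms chevE8 8 v')
    (h15 : ∀ j : ℕ, j < 15 → cntE v' (j : ZMod 15) = ∑ b ∈ Finset.range 16, m b * w15 b j) (h0 : m 0 = 32) :
    ∑ i ∈ Finset.range 4, m (2 ^ i) ≤ 32 := by
  have hu : IsUnit (2 : ZMod 15) := by decide
  have hinj : Function.Injective (fun a : ZMod 15 => 2 * a) := fun a b h => hu.mul_left_cancel h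
  have h2 : ∀ a : ZMod 15, a ≠ 0 → cntE v' (2 * a) = cntE v' a := by
    intro a ha
    have hd : ∀ a : ZMod 15, a ≠ 0 → 2 * a ≠ 0 := by decide
    unfold cntE
    rw [if_neg ha, if_neg (hd a ha)]
    congr 1
    conv_lhs => rw [← h2']
    exact Multiset.count_map_eq_count' _ _ hinj a
  have a2 : cntE v' ((2 : ℕ) : ZMod 15) = cntE v' (1 : ZMod 15) := h2 1 (by decide)
  have a4 : cntE v' ((4 : ℕ) : ZMod 15) = cntE v' (1 : ZMod 15) := by rw [← a2]; exact h2 2 (by decide)
  have a8 : cntE v' ((8 : ℕ) : ZMod 15) = cntE v' (1 : ZMod 15) := by rw [← a4]; exact h2 4 (by decide)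
  have a6 : cntE v' ((6 : ℕ) : ZMod 15) = cntE v' (3 : ZMod 15) := h2 3 (by decide)
  have a12 : cntE v' ((12 : ℕ) : ZMod 15) = cntE v' (3 : ZMod 15) := by rw [← a6]; exact h2 6 (by decide)
  have a9 : cntE v' ((9 : ℕ) : ZMod 15) = cntE v' (3 : ZMod 15) := by rw [← a12]; exact h2 12 (by decide)
  have a10 : cntE v' ((10 : ℕ) : ZMod 15) = cntE v' (5 : ZMod 15) := h2 5 (by decide)
  have b0 : cntE v' (0 : ZMod 15) = ∑ b ∈ Finset.range 16, m b * C0.getD b 0 := by
    have h := sum_cls m [0]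
    rw [Finset.sum_congr rfl fun b hb => by rw [cls0 b (Finset.mem_range.1 hb)]] at h
    rw [← h]
    simp only [List.map_cons, List.map_nil, List.sum_cons, List.sum_nil, add_zero]
    rw [← h15 0 (by norm_num), Nat.cast_zero]
  have b1 : 4 * cntE v' (1 : ZMod 15) = ∑ b ∈ Finset.range 16, m b * C1.getD b 0 := by
    have h := sum_cls m [1, 2, 4, 8]
    rw [Finset.sum_congr rfl fun b hb => by rw [cls1 b (Finset.mem_range.1 hb)]] at h
    rw [← h]
    simp only [List.map_cons, List.map_nil, List.sum_cons, List.sum_nil, add_zero]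
    rw [← h15 1 (by norm_num), ← h15 2 (by norm_num), ← h15 4 (by norm_num), ← h15 8 (by norm_num), a2, a4, a8,
      Nat.cast_one]
    ring
  have b3 : 4 * cntE v' (3 : ZMod 15) = ∑ b ∈ Finset.range 16, m b * C3.getD b 0 := by
    have h := sum_cls m [3, 6, 12, 9]
    rw [Finset.sum_congr rfl fun b hb => by rw [cls3 b (Finset.mem_range.1 hb)]] at h
    rw [← h]
    simp only [List.map_cons, List.map_nil, List.sum_cons, List.sum_nil, add_zero]
    rw [← h15 3 (by norm_num), ← h15 6 (by norm_num), ← h15 12 (by norm_num), ← h15 9 (by norm_num), a6, a12, a9]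
    have : cntE v' ((3 : ℕ) : ZMod 15) = cntE v' (3 : ZMod 15) := rfl
    rw [this]
    ring
  have b5 : 2 * cntE v' (5 : ZMod 15) = ∑ b ∈ Finset.range 16, m b * C5.getD b 0 := by
    have h := sum_cls m [5, 10]
    rw [Finset.sum_congr rfl fun b hb => by rw [cls5 b (Finset.mem_range.1 hb)]] at h
    rw [← h]
    simp only [List.map_cons, List.map_nil, List.sum_cons, List.sum_nil, add_zero]
    rw [← h15 5 (by norm_num), ← h15 10 (by norm_num), a10]
    have : cntE v' ((5 : ℕ) : ZMod 15) = cntE v' (5 : ZMod 15) := rfl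
    rw [this]
    ring
  have hk := kac15 h2'
  simp only [Finset.sum_range_succ, Finset.sum_range_zero, C0, C1, C3, C5, List.getD_cons_zero, List.getD_cons_succ] at b0 b1 b3 b5
  simp only [Finset.sum_range_succ, Finset.sum_range_zero]
  norm_num at b0 b1 b3 b5 ⊢
  omega

end Cfsg.Agent.H167.L16
end

-- part: H167/L16/Pat32
section
/-!
# S5916, dimension 32: the pattern (helper167)

* `SpecM16 ι ρ lam y ζ m` : `m b`, `b < 16`, are the multiplicities of the simple modules, seen from `y` (order 17) and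
  `h lam` (order 15);
* `pat32` : if `dim L^y = 32` then `m 0 = 32` and `m 1 + m 2 + m 4 + m 8 ≤ 32`.
-/

set_option autoImplicit false
set_option maxRecDepth 100000

namespace Cfsg.Agent.H167.L16

open Matrix Cfsg Cfsg.Lie
open Cfsg.Agent.H944.Kac Cfsg.Agent.H944.RootVals Cfsg.Agent.H942.E8Tab
open Cfsg.Agent.H943.SL2Rel Cfsg.Agent.H943.RepAdd Cfsg.Agent.H943.SL2Mod
open Cfsg.Agent.H939.L64 (KK E2 LK rE TorZ cntE)
open Cfsg.Agent.H950.L16 (Dat)

/-- `m b` : the multiplicity of `V_b` (in the Grothendieck group), `b < 16` -/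
def SpecM16 {k F V : Type*} [Field k] [Field F] [AddCommGroup V] [Module k V] (ι : F →+* k)
    (ρ : Representation k (SpecialLinearGroup (Fin 2) F) V) (lam : Fˣ) (y : SpecialLinearGroup (Fin 2) F) (ζ : k)
    (m : ℕ → ℕ) : Prop :=
  (∀ j < 17, Module.finrank k (eig ρ y (ζ ^ j)) = ∑ b ∈ Finset.range 16, m b * w17 b j) ∧
    ∀ j < 15, Module.finrank k (eig ρ (h lam) (ι lam ^ j)) = ∑ b ∈ Finset.range 16, m b * w15 b j

theorem w17_zero : ∀ b < 16, w17 b 0 = if b = 0 then 1 else 0 := by decide +kernel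

theorem lam_prim16 {F : Type} [Field F] [Fintype F] (hF : Fintype.card F = 16) (ι : F →+* KK) {lam : Fˣ}
    (hl : ∀ x, x ∈ Subgroup.zpowers lam) : IsPrimitiveRoot (ι lam) 15 ∧ lam ^ 15 = 1 := by
  classical
  have h1 : orderOf lam = 15 := by
    rw [orderOf_eq_card_of_forall_mem_zpowers hl, Nat.card_units, Nat.card_eq_fintype_card, hF]
  have h2 : IsPrimitiveRoot lam 15 := by
    rw [← h1]
    exact IsPrimitiveRoot.orderOf lam
  refine ⟨?_, h2.pow_eq_one⟩
  have h3 : IsPrimitiveRoot (lam : F) 15 := IsPrimitiveRoot.coe_units_iff.2 h2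
  exact h3.map_of_injective ι.injective

variable {F : Type} [Field F] [Fintype F] {ι : F →+* KK} {lam : Fˣ} {y : SpecialLinearGroup (Fin 2) F} {ζ : KK}

/-- `m 0 = dim L^y` -/
theorem m_zero {f : SpecialLinearGroup (Fin 2) F →* E2} {v : Fin 8 → ZMod 17} {ζ' : KK} (hT : TorZ (f y) 17 v ζ') {m : ℕ → ℕ}
    (hm : SpecM16 ι (rE.comp f) lam y ζ m) : m 0 = cntE v 0 := by
  have h1 := hm.1 0 (by norm_num)
  have h3 : ∑ b ∈ Finset.range 16, m b * w17 b 0 = m 0 := by
    rw [Finset.sum_eq_single 0]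
    · rw [w17_zero 0 (by norm_num), if_pos rfl, mul_one]
    · intro b hb hb0
      rw [w17_zero b (Finset.mem_range.1 hb), if_neg hb0, mul_zero]
    · intro h; exact absurd (Finset.mem_range.2 (by norm_num)) h
  rw [h3] at h1
  rw [← h1, ← Cfsg.Agent.H413.L64.T0d hT, ZMod.val_zero, pow_zero, pow_zero]
  rfl

/-- **PAT32** -/
theorem pat32 (D : Dat ι lam y ζ) {f : SpecialLinearGroup (Fin 2) F →* E2} {v : Fin 8 → ZMod 17} {ζ' : KK}
    (hT : TorZ (f y) 17 v ζ') (hv : cntE v 0 = 32) {m : ℕ → ℕ} (hm : SpecM16 ι (rE.comp f) lam y ζ m) :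
    m 0 = 32 ∧ ∑ i ∈ Finset.range 4, m (2 ^ i) ≤ 32 := by
  have h0 : m 0 = 32 := (m_zero hT hm).trans hv
  refine ⟨h0, ?_⟩
  obtain ⟨hlp, hl1⟩ := lam_prim16 D.card ι D.gen
  obtain ⟨v', hT', h2', -⟩ := Cfsg.Agent.H413.L64.T0c (N := 15) (x := f (h lam)) (by decide)
    (by rw [← map_pow, ← h_pow, hl1, h_one, map_one]) hlp
  refine arith h2' (fun j hj => ?_) h0
  rw [← hm.2 j hj, ← Cfsg.Agent.H413.L64.T0d hT', ZMod.val_natCast_of_lt hj]
  rfl

end Cfsg.Agent.H167.L16
end

-- part: H179/L16/Fix32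
section
/-!
# S5916, dimension 32: a nonzero fixed vector (helper179)

`exists_spec16` : the multiplicities of the composition factors; `fix32` : if the element of order 17 has centralizer
dimension 32 then `S` has a nonzero fixed vector on the Lie algebra.
-/

set_option autoImplicit false
set_option maxRecDepth 100000
set_option linter.unusedSectionVars false

namespace Cfsg.Agent.H179.L16

open Matrix Cfsg Cfsg.Lie
open Cfsg.Agent.H943.SL2Rel Cfsg.Agent.H943.RepAdd Cfsg.Agent.H943.SL2Mod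
open Cfsg.Agent.H939.L64 (KK E2 LK em aK rE rE_apply TorZ cntE exists_form)

section

variable {k : Type*} [Field k] [CharP k 2] {F : Type*} [Field F] [Fintype F] {ι : F →+* k}
  {lam : Fˣ} {y : SpecialLinearGroup (Fin 2) F} {ζ : k}

theorem dat16 (D : H950.L16.Dat ι lam y ζ) : Dat16 ι lam y ζ := ⟨D.card, D.gen, D.prim, D.tr⟩

universe v

/-- **R3a** : the multiplicities of the composition factors -/
theorem exists_spec16 [IsAlgClosed k] (D : H950.L16.Dat ι lam y ζ) {V : Type v} [AddCommGroup V] [Module k V]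
    [FiniteDimensional k V] (ρ : Representation k (SpecialLinearGroup (Fin 2) F) V) :
    ∃ m : ℕ → ℕ, H167.L16.SpecM16 ι ρ lam y ζ m := by
  classical
  have := SLC.charF ι
  obtain ⟨n, hn⟩ := SLD.exists_isMult ι D.card ι.injective ρ
  exact ⟨n, isMult_spec (dat16 D) hn⟩

end

variable {F : Type} [Field F] [Fintype F] {ι : F →+* KK} {lam : Fˣ} {y : SpecialLinearGroup (Fin 2) F} {ζ : KK}

/-- **PR32** : if `dim L ^ y = 32` then `S` has a nonzero fixed vector. -/
theorem fix32 (D : H950.L16.Dat ι lam y ζ) {f : SpecialLinearGroup (Fin 2) F →* E2} {v : Fin 8 → ZMod 17} {ζ' : KK}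
    (hT : TorZ (f y) 17 v ζ') (hv : cntE v 0 = 32) : ∃ x : LK, x ≠ 0 ∧ ∀ s, rE (f s) x = x := by
  classical
  have := H413.L64.charKK
  obtain ⟨m, hm⟩ := exists_spec16 D (rE.comp f)
  obtain ⟨h1, h2⟩ := H167.L16.pat32 D hT hv hm
  obtain ⟨B, hB, -, hnd⟩ := exists_form
  refine fix_of_pressure (dat16 D) (rE.comp f) B hnd (fun s v w => hB (em (f s)) v w) hm (by omega) ?_
  simp only [Finset.sum_range_succ, Finset.sum_range_zero] at h2
  norm_num at h2
  omega

private noncomputable def _root_.Cfsg.Agent.LsF.f0214d0_5 : {f // @Cfsg.Agent.ChevalleyStructure.RootVecTab.dig = f} := ⟨_, by first | (delta Cfsg.Agent.ChevalleyStructure.RootVecTab.dig; rewrite [Cfsg.Agent.LsF.nmul_pat]; exact rfl) | exact rfl⟩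
private noncomputable def _root_.Cfsg.Agent.LsF.f0214d0_6 : {f // @Cfsg.Agent.ChevalleyStructure.RootVecTab.packTab = f} := ⟨_, by first | (delta Cfsg.Agent.ChevalleyStructure.RootVecTab.packTab; rewrite [Cfsg.Agent.LsF.instDecEq_eq, Cfsg.Agent.LsF.ite_eq]; exact rfl) | exact rfl⟩
private noncomputable def _root_.Cfsg.Agent.LsF.f0214d0_7 : {f // @Cfsg.Agent.ChevalleyStructure.RootVecTab.code = f} := ⟨_, by first | (delta Cfsg.Agent.ChevalleyStructure.RootVecTab.code; rewrite [Cfsg.Agent.LsF.f0214d0_6.2, Cfsg.Agent.LsF.nmul_pat, Cfsg.Agent.LsF.npow_pat]; exact rfl) | exact rfl⟩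
private noncomputable def _root_.Cfsg.Agent.LsF.f0214d0_8 : {f // @Cfsg.Agent.ChevalleyStructure.RootVec.rt = f} := ⟨_, by first | (delta Cfsg.Agent.ChevalleyStructure.RootVec.rt; rewrite [Cfsg.Agent.LsF.f0214d0_5.2, Cfsg.Agent.LsF.f0214d0_7.2, Cfsg.Agent.LsF.nsub_pat, Cfsg.Agent.LsF.isub_pat, Cfsg.Agent.LsF.icast_pat, Cfsg.Agent.LsF.decLt_eq, Cfsg.Agent.LsF.dAnd_eq, Cfsg.Agent.LsF.ite_eq]; exact rfl) | exact rfl⟩
private noncomputable def _root_.Cfsg.Agent.LsF.f0214d0_9 : {f // @Cfsg.Agent.Nodes.RGDChev.vec = f} := ⟨_, by first | (delta Cfsg.Agent.Nodes.RGDChev.vec; rewrite [Cfsg.Agent.LsF.f0214d0_8.2]; exact rfl) | exact rfl⟩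
private noncomputable def _root_.Cfsg.Agent.LsF.f0214d0_10 : {f // @Cfsg.Agent.H939.L64.cntE = f} := ⟨_, by first | (delta Cfsg.Agent.H939.L64.cntE Cfsg.Agent.H944.RootVals.ms; rewrite [Cfsg.Agent.LsF.f0214d0_9.2, Cfsg.Agent.LsF.nadd_pat, Cfsg.Agent.LsF.zdecEq_eq, Cfsg.Agent.LsF.finFintype_eq, Cfsg.Agent.LsF.fsum_eq, Cfsg.Agent.LsF.mmapM_eq, Cfsg.Agent.LsF.ite_eq]; exact rfl) | exact rfl⟩
private noncomputable def _root_.Cfsg.Agent.LsF.f0214d0_11 : {f // @Cfsg.Agent.H525.D32.Y32 = f} := ⟨_, by first | (delta Cfsg.Agent.H525.D32.Y32; rewrite [Cfsg.Agent.LsF.vecCons_eq]; exact rfl) | exact rfl⟩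
theorem cntE_Y32 : cntE H525.D32.Y32 0 = 32 := by (refine of_decide_eq_true ?_; (try (rewrite [Cfsg.Agent.LsF.f0214d0_10.2, Cfsg.Agent.LsF.f0214d0_11.2, Cfsg.Agent.LsF.instDecEq_eq, Cfsg.Agent.LsF.decide_eq])); decide +kernel)

/-- **PR32** for the vector `Y32` -/
theorem fix_Y32 (D : H950.L16.Dat ι lam y ζ) {f : SpecialLinearGroup (Fin 2) F →* E2} {ζ' : KK}
    (hT : TorZ (f y) 17 H525.D32.Y32 ζ') : ∃ x : LK, x ≠ 0 ∧ ∀ s, rE (f s) x = x := fix32 D hT cntE_Y32

end Cfsg.Agent.H179.L16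
end

-- part: H942/L16/Calc
section
/-!
# S5916 (helper942): a calculator for the bracket of `E₈` in characteristic two

Monomials are coded by natural numbers (`m + 1 = ∏ pᵉ`, the variable of the prime `p` is `x p`), polynomials modulo two
by sorted lists of monomials, vectors by lists of pairs (index of the root, polynomial).
-/

set_option autoImplicit false
set_option maxRecDepth 100000

namespace Cfsg.Agent.H942.L16

open Matrix Cfsg Cfsg.Lie
open Cfsg.Agent.H939.L64 (KK LK brK)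
open Cfsg.Agent.H413.L16 (er hv hr tg br_rr br_neg br_hv br_comm brM nr rk8 er_of er_ge tg_le chain_mod cast_even cast_odd)
open Cfsg.Agent.H939.L16
open Cfsg.Agent.H876.L64 (two_zero)
open Cfsg.Agent.ChevalleyStructure.Columns (car cor)

theorem beq_of {a b : ℕ} (h : a = b) : Nat.beq a b = true := by rw [Nat.beq_eq]; exact h

/-! ### monomials -/

/-- the value of the monomial `m` (coded by `m + 1 = ∏ pᵉ`) -/
noncomputable def mv (x : ℕ → KK) (m : ℕ) : KK := (m + 1).factorization.prod fun p e => x p ^ e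

/-- the product of monomials -/
def mm (a b : ℕ) : ℕ := a * b + a + b

theorem mv_mm (x : ℕ → KK) (a b : ℕ) : mv x (mm a b) = mv x a * mv x b := by
  unfold mv mm
  rw [show a * b + a + b + 1 = (a + 1) * (b + 1) by ring, Nat.factorization_mul (by omega) (by omega)]
  exact Finsupp.prod_add_index' (fun _ => pow_zero _) (fun _ _ _ => pow_add _ _ _)

theorem mv_prime (x : ℕ → KK) {p : ℕ} (hp : p.Prime) : mv x (p - 1) = x p := by
  unfold mv
  rw [Nat.sub_add_cancel hp.one_lt.le, hp.factorization]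
  exact (Finsupp.prod_single_index (h := fun p e => x p ^ e) (pow_zero (x p))).trans (pow_one (x p))

/-- the power of a monomial -/
def mp (a n : ℕ) : ℕ := (a + 1) ^ n - 1

theorem mv_mp (x : ℕ → KK) (a n : ℕ) : mv x (mp a n) = mv x a ^ n := by
  induction n with
  | zero =>
    unfold mv mp
    rw [pow_zero, pow_zero, Nat.sub_self, zero_add, Nat.factorization_one]
    rfl
  | succ n ih =>
    have h : mp a (n + 1) = mm (mp a n) a := by
      have h1 : 1 ≤ (a + 1) ^ n := Nat.one_le_pow _ _ (by omega)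
      have h2 : (a + 1) ^ n * a + (a + 1) ^ n = (a + 1) ^ (n + 1) := by ring
      unfold mp mm
      obtain ⟨c, hc⟩ := Nat.exists_eq_add_of_le h1
      rw [← h2, hc]
      have : 1 + c - 1 = c := by omega
      rw [this]
      have : (1 + c) * a + (1 + c) - 1 = c * a + c + a := by
        have : (1 + c) * a + (1 + c) = (c * a + c + a) + 1 := by ring
        omega
      rw [this]
    rw [h, mv_mm, ih, pow_succ]

/-! ### polynomials modulo two -/

theorem add_self (a : KK) : a + a = 0 := by rw [← two_mul, two_zero, zero_mul]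

/-- the value of a polynomial -/
noncomputable def pv (x : ℕ → KK) (p : List ℕ) : KK := (p.map (mv x)).sum

theorem pv_nil (x : ℕ → KK) : pv x [] = 0 := rfl

theorem pv_cons (x : ℕ → KK) (a : ℕ) (p : List ℕ) : pv x (a :: p) = mv x a + pv x p := by
  unfold pv; rw [List.map_cons, List.sum_cons]

theorem pv_append (x : ℕ → KK) (p q : List ℕ) : pv x (p ++ q) = pv x p + pv x q := by
  unfold pv; rw [List.map_append, List.sum_append]

/-- the sum of two sorted polynomials (with fuel) -/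
def addF : ℕ → List ℕ → List ℕ → List ℕ
  | 0, p, q => p ++ q
  | _ + 1, [], q => q
  | _ + 1, a :: p, [] => a :: p
  | n + 1, a :: p, b :: q =>
    bif Nat.beq a b then addF n p q
    else bif Nat.ble a b then a :: addF n p (b :: q) else b :: addF n (a :: p) q

theorem pv_addF (x : ℕ → KK) : ∀ (n : ℕ) (p q : List ℕ), pv x (addF n p q) = pv x p + pv x q
  | 0, p, q => pv_append x p q
  | n + 1, [], q => by rw [addF, pv_nil, zero_add]
  | n + 1, a :: p, [] => by rw [addF, pv_nil, add_zero]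
  | n + 1, a :: p, b :: q => by
    rw [addF]
    cases h : Nat.beq a b
    · cases h2 : Nat.ble a b
      · rw [cond_false, cond_false, pv_cons, pv_addF x n, pv_cons x b]
        ring
      · rw [cond_false, cond_true, pv_cons, pv_addF x n, pv_cons x a]
        ring
    · rw [cond_true, pv_addF x n, Nat.eq_of_beq_eq_true h, pv_cons, pv_cons]
      have := add_self (mv x b)
      linear_combination -this

/-- the sum -/
def addP (p q : List ℕ) : List ℕ := addF (p.length + q.length) p q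

theorem pv_addP (x : ℕ → KK) (p q : List ℕ) : pv x (addP p q) = pv x p + pv x q := pv_addF x _ p q

theorem pv_map_mm (x : ℕ → KK) (a : ℕ) (q : List ℕ) : pv x (q.map (mm a)) = mv x a * pv x q := by
  induction q with
  | nil => rw [List.map_nil, pv_nil, mul_zero]
  | cons b q ih => rw [List.map_cons, pv_cons, pv_cons, ih, mv_mm, mul_add]

/-- the product -/
def mulP (p q : List ℕ) : List ℕ := p.foldr (fun a acc => addP (q.map (mm a)) acc) []

theorem pv_mulP (x : ℕ → KK) (p q : List ℕ) : pv x (mulP p q) = pv x p * pv x q := by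
  unfold mulP
  induction p with
  | nil => rw [List.foldr_nil, pv_nil, zero_mul]
  | cons a p ih => rw [List.foldr_cons, pv_addP, ih, pv_map_mm, pv_cons, add_mul]

/-- the square -/
def sqP (p : List ℕ) : List ℕ := p.map fun m => mm m m

theorem pv_sqP (x : ℕ → KK) (p : List ℕ) : pv x (sqP p) = pv x p ^ 2 := by
  unfold sqP
  induction p with
  | nil => rw [List.map_nil, pv_nil, zero_pow two_ne_zero]
  | cons a p ih =>
    rw [List.map_cons, pv_cons, ih, mv_mm, pv_cons]
    linear_combination -(mv x a * pv x p) * two_zero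

/-- the sum of a list of polynomials -/
def sumP (l : List (List ℕ)) : List ℕ := l.foldr addP []

theorem pv_sumP (x : ℕ → KK) (l : List (List ℕ)) : pv x (sumP l) = (l.map (pv x)).sum := by
  unfold sumP
  induction l with
  | nil => rfl
  | cons p l ih => rw [List.foldr_cons, pv_addP, ih, List.map_cons, List.sum_cons]

/-! ### vectors -/

/-- the value of a vector -/
noncomputable def sv (x : ℕ → KK) (v : List (ℕ × List ℕ)) : LK := (v.map fun e => pv x e.2 • er e.1).sum

theorem sv_nil (x : ℕ → KK) : sv x [] = 0 := rfl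

theorem sv_cons (x : ℕ → KK) (e : ℕ × List ℕ) (v : List (ℕ × List ℕ)) :
    sv x (e :: v) = pv x e.2 • er e.1 + sv x v := by
  unfold sv; rw [List.map_cons, List.sum_cons]

theorem sv_append (x : ℕ → KK) (u v : List (ℕ × List ℕ)) : sv x (u ++ v) = sv x u + sv x v := by
  unfold sv; rw [List.map_append, List.sum_append]

/-- insertion -/
def insS (r : ℕ) (p : List ℕ) : List (ℕ × List ℕ) → List (ℕ × List ℕ)
  | [] => [(r, p)]
  | e :: v => bif Nat.beq r e.1 then (r, addP p e.2) :: v else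
      bif Nat.ble r e.1 then (r, p) :: e :: v else e :: insS r p v

theorem sv_insS (x : ℕ → KK) (r : ℕ) (p : List ℕ) (v : List (ℕ × List ℕ)) :
    sv x (insS r p v) = pv x p • er r + sv x v := by
  induction v with
  | nil => rw [insS, sv_cons]
  | cons e v ih =>
    rw [insS]
    cases h : Nat.beq r e.1
    · cases h2 : Nat.ble r e.1
      · rw [cond_false, cond_false, sv_cons, ih, sv_cons]
        abel
      · rw [cond_false, cond_true, sv_cons]
    · rw [cond_true, sv_cons, sv_cons, pv_addP, Nat.eq_of_beq_eq_true h, add_smul, add_assoc]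

/-- the normal form -/
def nfS (v : List (ℕ × List ℕ)) : List (ℕ × List ℕ) :=
  v.foldr (fun e acc => bif Nat.ble 240 e.1 then acc else insS e.1 e.2 acc) []

theorem sv_nfS (x : ℕ → KK) (v : List (ℕ × List ℕ)) : sv x (nfS v) = sv x v := by
  unfold nfS
  induction v with
  | nil => rfl
  | cons e v ih =>
    rw [List.foldr_cons]
    cases h : Nat.ble 240 e.1
    · rw [cond_false, sv_insS, ih, sv_cons]
    · rw [cond_true, ih, sv_cons, er_ge (Nat.le_of_ble_eq_true h), smul_zero, zero_add]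

/-- the bracket -/
def brS (u v : List (ℕ × List ℕ)) : List (ℕ × List ℕ) :=
  nfS (u.flatMap fun e => v.map fun f => (tg e.1 f.1, mulP e.2 f.2))

/-- all indices are indices of roots, there are no opposite roots -/
def okB (u v : List (ℕ × List ℕ)) : Bool :=
  u.all fun e => Nat.ble (e.1 + 1) 240 && v.all fun f => Nat.ble (f.1 + 1) 240 && !(Nat.beq (e.1 + f.1) 239)

theorem brK_add_left (u v w : LK) : brK (u + v) w = brK u w + brK v w := Cfsg.Agent.H971.RV.br_add_left u v w

theorem brK_add_right (u v w : LK) : brK u (v + w) = brK u v + brK u w := Cfsg.Agent.H971.RV.br_add_right u v w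

theorem brK_smul_left (c : KK) (v w : LK) : brK (c • v) w = c • brK v w := Cfsg.Agent.H971.RV.br_smul_left c v w

theorem brK_smul_right (c : KK) (v w : LK) : brK v (c • w) = c • brK v w := Cfsg.Agent.H971.RV.br_smul_right c v w

theorem brK_zero_left (w : LK) : brK 0 w = 0 := by
  have := brK_smul_left 0 0 w
  rwa [zero_smul, zero_smul] at this

theorem brK_zero_right (w : LK) : brK w 0 = 0 := by
  have := brK_smul_right 0 w 0
  rwa [zero_smul, zero_smul] at this

theorem sv_brS (x : ℕ → KK) (u v : List (ℕ × List ℕ)) (h : okB u v = true) :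
    brK (sv x u) (sv x v) = sv x (brS u v) := by
  unfold brS
  rw [sv_nfS]
  induction u with
  | nil => exact brK_zero_left _
  | cons e u ih =>
    unfold okB at h
    rw [List.all_cons, Bool.and_eq_true, Bool.and_eq_true] at h
    obtain ⟨⟨h1, h2⟩, h3⟩ := h
    rw [List.flatMap_cons, sv_append, sv_cons, brK_add_left, ih h3, brK_smul_left]
    congr 1
    have he : e.1 < 240 := Nat.le_of_ble_eq_true h1
    clear ih h3 h1
    induction v with
    | nil => rw [List.map_nil, sv_nil, brK_zero_right, smul_zero]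
    | cons f v ih =>
      rw [List.all_cons, Bool.and_eq_true, Bool.and_eq_true] at h2
      obtain ⟨⟨h4, h5⟩, h6⟩ := h2
      have hf : f.1 < 240 := Nat.le_of_ble_eq_true h4
      have hn : f.1 ≠ 239 - e.1 := by
        intro h7
        rw [Bool.not_eq_true', show Nat.beq (e.1 + f.1) 239 = true from by
          rw [h7]; exact beq_of (by omega)] at h5
        cases h5
      rw [List.map_cons, sv_cons, sv_cons, brK_add_right, smul_add, ih h6, brK_smul_right, br_rr he hf hn]
      show _ = pv x (mulP e.2 f.2) • er (tg e.1 f.1) + _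
      rw [pv_mulP, mul_smul]

/-! ### the operators -/

/-- the Frobenius map -/
def frS (v : List (ℕ × List ℕ)) : List (ℕ × List ℕ) := v.map fun e => (wi e.1, sqP e.2)

/-- all indices are indices of roots -/
def okI (v : List (ℕ × List ℕ)) : Bool := v.all fun e => Nat.ble (e.1 + 1) 240

theorem sv_frS {Fp : LK → LK} {ta : LK →ₗ[KK] LK} (O : Ops Fp ta) (x : ℕ → KK) (v : List (ℕ × List ℕ))
    (h : okI v = true) : Fp (sv x v) = sv x (frS v) := by
  unfold frS
  induction v with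
  | nil =>
    rw [List.map_nil, sv_nil]
    have := O.smul 0 0
    rwa [zero_pow two_ne_zero, zero_smul, zero_smul] at this
  | cons e v ih =>
    unfold okI at h
    rw [List.all_cons, Bool.and_eq_true] at h
    have he : e.1 < 240 := Nat.le_of_ble_eq_true h.1
    rw [List.map_cons, sv_cons, sv_cons, O.add, O.smul, O.er _ he, ih h.2, pv_sqP]

/-- `ta` -/
def taS (v : List (ℕ × List ℕ)) : List (ℕ × List ℕ) := v.map fun e => (wi (wi (wi (wi e.1))), e.2)

theorem sv_taS {Fp : LK → LK} {ta : LK →ₗ[KK] LK} (O : Ops Fp ta) (x : ℕ → KK) (v : List (ℕ × List ℕ))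
    (h : okI v = true) : ta (sv x v) = sv x (taS v) := by
  unfold taS
  induction v with
  | nil => rw [List.map_nil, sv_nil, map_zero]
  | cons e v ih =>
    unfold okI at h
    rw [List.all_cons, Bool.and_eq_true] at h
    have he : e.1 < 240 := Nat.le_of_ble_eq_true h.1
    rw [List.map_cons, sv_cons, sv_cons, map_add, map_smul, O.ter _ he, ih h.2]

/-- `x_r(1)` -/
def xlS (r : ℕ) (v : List (ℕ × List ℕ)) : List (ℕ × List ℕ) := nfS (v ++ v.map fun e => (tg r e.1, e.2))

/-- all indices are indices of roots, different from `-r` -/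
def okX (r : ℕ) (v : List (ℕ × List ℕ)) : Bool :=
  v.all fun e => Nat.ble (e.1 + 1) 240 && !(Nat.beq (r + e.1) 239)

theorem er_inr {s t : ℕ} (ht : t < chevE8.nroots) : er s (Sum.inr ⟨t, ht⟩) = if s = t then 1 else 0 := by
  by_cases h : s < chevE8.nroots
  · rw [er_of h]
    split_ifs with h1
    · subst h1; exact Pi.single_eq_same _ _
    · exact Pi.single_eq_of_ne (fun h2 => h1 (congrArg Fin.val (Sum.inr.inj h2)).symm) _
  · have : s ≠ t := fun h1 => h (h1 ▸ ht)
    rw [er_ge (by rw [nr] at h; omega), if_neg this]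
    rfl

theorem sv_xlS (x : ℕ → KK) {r : ℕ} (hr : r < chevE8.nroots) (v : List (ℕ × List ℕ)) (h : okX r v = true) :
    xl ⟨r, hr⟩ 1 (sv x v) = sv x (xlS r v) := by
  have hr' : r < 240 := by rw [← nr]; exact hr
  have h1 : sv x v (Sum.inr (Fin.rev ⟨r, hr⟩)) = 0 := by
    have h2 : (Fin.rev ⟨r, hr⟩ : Fin chevE8.nroots) = ⟨239 - r, by rw [nr]; omega⟩ := by
      apply Fin.ext
      rw [Fin.val_rev]
      show chevE8.nroots - (r + 1) = 239 - r
      rw [nr]; omega
    rw [h2]
    clear h2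
    induction v with
    | nil => rfl
    | cons e v ih =>
      unfold okX at h
      rw [List.all_cons, Bool.and_eq_true, Bool.and_eq_true] at h
      obtain ⟨⟨h3, h4⟩, h5⟩ := h
      rw [sv_cons, Pi.add_apply, Pi.smul_apply, ih h5, er_inr, if_neg, smul_zero, add_zero]
      intro h6
      rw [Bool.not_eq_true', show Nat.beq (r + e.1) 239 = true from by
          rw [h6]; exact beq_of (by omega)] at h4
      cases h4
  unfold xl xlS
  rw [h1, mul_zero, zero_smul, add_zero, one_smul, sv_nfS, sv_append]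
  congr 1
  clear h1
  induction v with
  | nil => rw [List.map_nil, sv_nil, brK_zero_right]
  | cons e v ih =>
    unfold okX at h
    rw [List.all_cons, Bool.and_eq_true, Bool.and_eq_true] at h
    obtain ⟨⟨h3, h4⟩, h5⟩ := h
    have he : e.1 < 240 := Nat.le_of_ble_eq_true h3
    have hn : e.1 ≠ 239 - r := by
      intro h6
      rw [Bool.not_eq_true', show Nat.beq (r + e.1) 239 = true from by
          rw [h6]; exact beq_of (by omega)] at h4
      cases h4
    rw [List.map_cons, sv_cons, sv_cons, brK_add_right, ih h5, brK_smul_right, br_rr hr' he hn]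

/-- `T` -/
def TS (v : List (ℕ × List ℕ)) : List (ℕ × List ℕ) := xlS 121 (xlS 126 (xlS 141 (xlS 135 (taS v))))

/-- the conditions of `TS` -/
def okT (v : List (ℕ × List ℕ)) : Bool :=
  okI v && okX 135 (taS v) && okX 141 (xlS 135 (taS v)) && okX 126 (xlS 141 (xlS 135 (taS v))) &&
    okX 121 (xlS 126 (xlS 141 (xlS 135 (taS v))))

theorem sv_TS {Fp : LK → LK} {ta : LK →ₗ[KK] LK} (O : Ops Fp ta) (x : ℕ → KK) (v : List (ℕ × List ℕ))
    (h : okT v = true) : iz (ta (sv x v)) = sv x (TS v) := by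
  unfold okT at h
  simp only [Bool.and_eq_true] at h
  obtain ⟨⟨⟨⟨h1, h2⟩, h3⟩, h4⟩, h5⟩ := h
  unfold iz TS
  rw [sv_taS O x v h1, sv_xlS x _ _ h2, sv_xlS x _ _ h3, sv_xlS x _ _ h4, sv_xlS x _ _ h5]

/-! ### coordinates of a bracket -/

/-- the coordinate at the root `t` of `[u, v]` -/
def cR (t : ℕ) (u v : List (ℕ × List ℕ)) : List ℕ :=
  u.foldr (fun e acc => addP (v.foldr (fun f acc => bif Nat.beq (tg e.1 f.1) t then addP (mulP e.2 f.2) acc else acc) [])
    acc) []

theorem pv_cR (x : ℕ → KK) {t : ℕ} (ht : t < chevE8.nroots) (u v : List (ℕ × List ℕ)) (hu : okI u = true)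
    (hv : okI v = true) : brK (sv x u) (sv x v) (Sum.inr ⟨t, ht⟩) = pv x (cR t u v) := by
  have ht' : t < 240 := by rw [← nr]; exact ht
  unfold cR
  induction u with
  | nil => rw [sv_nil, brK_zero_left]; rfl
  | cons e u ih =>
    unfold okI at hu
    rw [List.all_cons, Bool.and_eq_true] at hu
    have he : e.1 < 240 := Nat.le_of_ble_eq_true hu.1
    rw [List.foldr_cons, pv_addP, ← ih hu.2, sv_cons, brK_add_left, Pi.add_apply]
    congr 1
    clear ih
    induction v with
    | nil => rw [sv_nil, brK_zero_right]; rfl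
    | cons f v ih =>
      unfold okI at hv
      rw [List.all_cons, Bool.and_eq_true] at hv
      have hf : f.1 < 240 := Nat.le_of_ble_eq_true hv.1
      have key : brK (er e.1) (er f.1) (Sum.inr ⟨t, ht⟩) = if tg e.1 f.1 = t then 1 else 0 := by
        by_cases hn : f.1 = 239 - e.1
        · rw [hn, br_neg he, if_neg]
          · rfl
          · intro h1
            exact (((chain_mod (s := 239 - e.1) (u := 0) he).2.1) (by omega)).2.1 rfl
        · rw [br_rr he hf hn, er_inr]
      rw [List.foldr_cons, sv_cons, brK_add_right, Pi.add_apply, ih hv.2, brK_smul_left, brK_smul_right, Pi.smul_apply,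
        Pi.smul_apply, key]
      cases h : Nat.beq (tg e.1 f.1) t
      · rw [cond_false, if_neg (Nat.ne_of_beq_eq_false h), smul_zero, smul_zero, zero_add]
      · rw [cond_true, if_pos (Nat.eq_of_beq_eq_true h), pv_addP, pv_mulP, smul_eq_mul, smul_eq_mul, mul_one]

/-- the coordinate `K` in the Cartan subalgebra of `[u, v]` -/
def cH (K : ℕ) (u v : List (ℕ × List ℕ)) : List ℕ :=
  u.foldr (fun e acc => addP (v.foldr (fun f acc => bif Nat.beq (e.1 + f.1) 239 && decide (cor chevE8 e.1 K % 2 ≠ 0) then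
    addP (mulP e.2 f.2) acc else acc) []) acc) []

theorem pv_cH (x : ℕ → KK) {K : ℕ} (hK : K < chevE8.rank) (u v : List (ℕ × List ℕ)) (hu : okI u = true)
    (hv : okI v = true) : brK (sv x u) (sv x v) (Sum.inl ⟨K, hK⟩) = pv x (cH K u v) := by
  unfold cH
  induction u with
  | nil => rw [sv_nil, brK_zero_left]; rfl
  | cons e u ih =>
    unfold okI at hu
    rw [List.all_cons, Bool.and_eq_true] at hu
    have he : e.1 < 240 := Nat.le_of_ble_eq_true hu.1
    rw [List.foldr_cons, pv_addP, ← ih hu.2, sv_cons, brK_add_left, Pi.add_apply]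
    congr 1
    clear ih
    induction v with
    | nil => rw [sv_nil, brK_zero_right]; rfl
    | cons f v ih =>
      unfold okI at hv
      rw [List.all_cons, Bool.and_eq_true] at hv
      have hf : f.1 < 240 := Nat.le_of_ble_eq_true hv.1
      have key : brK (er e.1) (er f.1) (Sum.inl ⟨K, hK⟩) =
          if (Nat.beq (e.1 + f.1) 239 && decide (cor chevE8 e.1 K % 2 ≠ 0)) = true then 1 else 0 := by
        by_cases hn : f.1 = 239 - e.1
        · have h1 : Nat.beq (e.1 + f.1) 239 = true := beq_of (by omega)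
          rw [h1, Bool.true_and, hn, br_neg he]
          show ((cor chevE8 e.1 K : ℤ) : KK) = _
          by_cases h2 : cor chevE8 e.1 K % 2 ≠ 0
          · rw [decide_eq_true h2, if_pos rfl, cast_odd h2]
          · rw [decide_eq_false h2, if_neg (by decide), cast_even (not_not.1 h2)]
        · have h1 : ¬ (Nat.beq (e.1 + f.1) 239 && decide (cor chevE8 e.1 K % 2 ≠ 0)) = true := by
            rw [Bool.and_eq_true]
            rintro ⟨h2, -⟩
            have := Nat.eq_of_beq_eq_true h2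
            omega
          rw [br_rr he hf hn, if_neg h1]
          unfold er
          split_ifs with h3
          · exact Pi.single_eq_of_ne (by simp) _
          · rfl
      rw [List.foldr_cons, sv_cons, brK_add_right, Pi.add_apply, ih hv.2, brK_smul_left, brK_smul_right, Pi.smul_apply,
        Pi.smul_apply, key]
      cases h : (Nat.beq (e.1 + f.1) 239 && decide (cor chevE8 e.1 K % 2 ≠ 0))
      · rw [cond_false, if_neg (by decide), smul_zero, smul_zero, zero_add]
      · rw [cond_true, if_pos rfl, pv_addP, pv_mulP, smul_eq_mul, smul_eq_mul, mul_one]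

end Cfsg.Agent.H942.L16
end

-- part: H834/L16/R0
section
/-!
# S5916: the elimination `ElimR0` for families of type R with one index (helper834, with the calculator of helper942)
-/

set_option autoImplicit false
set_option maxRecDepth 100000

namespace Cfsg.Agent.H834.L16

open Cfsg Cfsg.Lie
open Cfsg.Agent.H939.L64 (KK LK brK)
open Cfsg.Agent.H413.L16 (er nr rk8)
open Cfsg.Agent.H939.L16
open Cfsg.Agent.H955.L16
open Cfsg.Agent.H942.L16 (sv pv mv mp mm mv_mp mv_mm mv_prime pv_cons pv_nil sv_cons sv_nil okI okB okT frS brS TS cR sumP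
  pv_sumP pv_cR sv_frS sv_brS sv_TS)

namespace R0

/-- the variables -/
noncomputable def xs (k o1 o3 r1 r2 r3 r0 : KK) (p : ℕ) : KK :=
  if p = 2 then k else if p = 3 then o1 else if p = 5 then o3 else if p = 7 then r1 else if p = 11 then r2 else
  if p = 13 then r3 else r0

/-- the family -/
def L : Bool → List (ℕ × List ℕ)
  | true => [(127, [2]), (128, [1]), (131, [2]), (136, [4]), (137, [10]), (143, [12]), (147, [6]), (148, [16]), (163, [4])]
  | false => [(77, [4]), (92, [2]), (96, [4]), (97, [2, 4, 10]), (103, [2, 12]), (108, [4, 6]),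
      (109, [2, 4, 6, 10, 12, 16]), (115, [2]), (116, [1, 2])]

def Z (a b : Bool) : List (ℕ × List ℕ) := brS (L a) (frS (frS (L b)))

theorem ok1 : ∀ a, okI (L a) = true := by decide +kernel

theorem ok2 : ∀ a, okI (frS (L a)) = true := by decide +kernel

theorem ok3 : ∀ a b, okB (L a) (frS (frS (L b))) = true := by decide +kernel

private noncomputable def _root_.Cfsg.Agent.LsF.f0214d0_12 : {f // @Cfsg.Agent.H942.L16.okI = f} := ⟨_, by first | (delta Cfsg.Agent.H942.L16.okI; rewrite [Cfsg.Agent.LsF.nadd_pat, Cfsg.Agent.LsF.all_eq]; exact rfl) | exact rfl⟩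
private noncomputable def _root_.Cfsg.Agent.LsF.f0214d0_13 : {f // @Cfsg.Agent.H942.L16.addF = f} := ⟨_, by first | (delta Cfsg.Agent.H942.L16.addF Nat.brecOn.go Nat.brecOn Cfsg.Agent.H942.L16.addF._f; rewrite [Cfsg.Agent.LsF.lappend_pat, Cfsg.Agent.LsF.cond_eq]; (try delta Cfsg.Agent.H942.L16.addF.match_1); (try delta Nat.casesOn List.casesOn); first | dsimp -zeta only | exact rfl) | exact rfl⟩
private noncomputable def _root_.Cfsg.Agent.LsF.f0214d0_14 : {f // @Cfsg.Agent.H942.L16.addP = f} := ⟨_, by first | (delta Cfsg.Agent.H942.L16.addP; rewrite [Cfsg.Agent.LsF.f0214d0_13.2, Cfsg.Agent.LsF.nadd_pat, Cfsg.Agent.LsF.length_eq]; exact rfl) | exact rfl⟩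
private noncomputable def _root_.Cfsg.Agent.LsF.f0214d0_15 : {f // @Cfsg.Agent.H942.L16.insS = f} := ⟨_, by first | (delta Cfsg.Agent.H942.L16.insS List.brecOn List.brecOn.go Cfsg.Agent.H942.L16.insS._f; rewrite [Cfsg.Agent.LsF.f0214d0_14.2, Cfsg.Agent.LsF.cond_eq]; (try delta Cfsg.Agent.H942.L16.insS.match_1); (try delta List.casesOn); first | dsimp -zeta only | exact rfl) | exact rfl⟩
private noncomputable def _root_.Cfsg.Agent.LsF.f0214d0_16 : {f // @Cfsg.Agent.H942.L16.nfS = f} := ⟨_, by first | (delta Cfsg.Agent.H942.L16.nfS; rewrite [Cfsg.Agent.LsF.f0214d0_15.2, Cfsg.Agent.LsF.cond_eq, Cfsg.Agent.LsF.foldr_eq]; exact rfl) | exact rfl⟩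
private noncomputable def _root_.Cfsg.Agent.LsF.f0214d0_17 : {f // @Cfsg.Agent.H413.L16.row = f} := ⟨_, by first | (delta Cfsg.Agent.H413.L16.row; rewrite [Cfsg.Agent.LsF.agetD_eq]; exact rfl) | exact rfl⟩
private noncomputable def _root_.Cfsg.Agent.LsF.f0214d0_18 : {f // @Cfsg.Agent.H413.L16.tg = f} := ⟨_, by first | (delta Cfsg.Agent.H413.L16.tg Option.elim; rewrite [Cfsg.Agent.LsF.f0214d0_17.2, Cfsg.Agent.LsF.nbeq_pat, Cfsg.Agent.LsF.find?_eq, Cfsg.Agent.LsF.agetD_eq]; (try delta Option.elim.match_1); (try delta Option.casesOn); exact rfl) | exact rfl⟩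
private noncomputable def _root_.Cfsg.Agent.LsF.f0214d0_19 : {f // @Cfsg.Agent.H942.L16.mm = f} := ⟨_, by first | (delta Cfsg.Agent.H942.L16.mm; rewrite [Cfsg.Agent.LsF.nadd_pat, Cfsg.Agent.LsF.nmul_pat]; exact rfl) | exact rfl⟩
private noncomputable def _root_.Cfsg.Agent.LsF.f0214d0_20 : {f // @Cfsg.Agent.H942.L16.mulP = f} := ⟨_, by first | (delta Cfsg.Agent.H942.L16.mulP; rewrite [Cfsg.Agent.LsF.f0214d0_14.2, Cfsg.Agent.LsF.f0214d0_19.2, Cfsg.Agent.LsF.map_eq, Cfsg.Agent.LsF.foldr_eq]; exact rfl) | exact rfl⟩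
private noncomputable def _root_.Cfsg.Agent.LsF.f0214d0_21 : {f // @Cfsg.Agent.H942.L16.brS = f} := ⟨_, by first | (delta Cfsg.Agent.H942.L16.brS; rewrite [Cfsg.Agent.LsF.f0214d0_16.2, Cfsg.Agent.LsF.f0214d0_18.2, Cfsg.Agent.LsF.f0214d0_20.2, Cfsg.Agent.LsF.map_eq, Cfsg.Agent.LsF.flatMap_eq]; exact rfl) | exact rfl⟩
private noncomputable def _root_.Cfsg.Agent.LsF.f0214d0_22 : {f // @Cfsg.Agent.H834.L16.R0.L = f} := ⟨_, by first | (delta Cfsg.Agent.H834.L16.R0.L; (try delta Cfsg.Agent.H834.L16.R0.L.match_1); (try delta Bool.casesOn); exact rfl) | exact rfl⟩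
private noncomputable def _root_.Cfsg.Agent.LsF.f0214d0_23 : {f // @Cfsg.Agent.H939.L16.wi = f} := ⟨_, by first | (delta Cfsg.Agent.H939.L16.wi; rewrite [Cfsg.Agent.LsF.getD_eq]; exact rfl) | exact rfl⟩
private noncomputable def _root_.Cfsg.Agent.LsF.f0214d0_24 : {f // @Cfsg.Agent.H942.L16.sqP = f} := ⟨_, by first | (delta Cfsg.Agent.H942.L16.sqP; rewrite [Cfsg.Agent.LsF.f0214d0_19.2, Cfsg.Agent.LsF.map_eq]; exact rfl) | exact rfl⟩
private noncomputable def _root_.Cfsg.Agent.LsF.f0214d0_25 : {f // @Cfsg.Agent.H942.L16.frS = f} := ⟨_, by first | (delta Cfsg.Agent.H942.L16.frS; rewrite [Cfsg.Agent.LsF.f0214d0_23.2, Cfsg.Agent.LsF.f0214d0_24.2, Cfsg.Agent.LsF.map_eq]; exact rfl) | exact rfl⟩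
private noncomputable def _root_.Cfsg.Agent.LsF.f0214d0_26 : {f // @Cfsg.Agent.H834.L16.R0.Z = f} := ⟨_, by first | (delta Cfsg.Agent.H834.L16.R0.Z; rewrite [Cfsg.Agent.LsF.f0214d0_21.2, Cfsg.Agent.LsF.f0214d0_22.2, Cfsg.Agent.LsF.f0214d0_25.2]; exact rfl) | exact rfl⟩
theorem ok4 : ∀ a b, okI (Z a b) = true := by (refine of_decide_eq_true ?_; (try (rewrite [Cfsg.Agent.LsF.f0214d0_12.2, Cfsg.Agent.LsF.f0214d0_26.2, Cfsg.Agent.LsF.dBoolEq_eq, Cfsg.Agent.LsF.decide_eq])); decide +kernel)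

private noncomputable def _root_.Cfsg.Agent.LsF.f0214d0_27 : {f // @Cfsg.Agent.H942.L16.sumP = f} := ⟨_, by first | (delta Cfsg.Agent.H942.L16.sumP; rewrite [Cfsg.Agent.LsF.f0214d0_14.2, Cfsg.Agent.LsF.foldr_eq]; exact rfl) | exact rfl⟩
private noncomputable def _root_.Cfsg.Agent.LsF.f0214d0_28 : {f // @Cfsg.Agent.H942.L16.cR = f} := ⟨_, by first | (delta Cfsg.Agent.H942.L16.cR; rewrite [Cfsg.Agent.LsF.f0214d0_14.2, Cfsg.Agent.LsF.f0214d0_18.2, Cfsg.Agent.LsF.f0214d0_20.2, Cfsg.Agent.LsF.cond_eq, Cfsg.Agent.LsF.foldr_eq]; exact rfl) | exact rfl⟩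
theorem inv135 : sumP [cR 135 (Z true true) (Z false false), cR 135 (Z true false) (Z false true)] = [59048, 9765624] := by
  (refine of_decide_eq_true ?_; (try (rewrite [Cfsg.Agent.LsF.f0214d0_27.2, Cfsg.Agent.LsF.f0214d0_28.2, Cfsg.Agent.LsF.f0214d0_26.2, Cfsg.Agent.LsF.instDecEq_eq, Cfsg.Agent.LsF.dListEq_eq, Cfsg.Agent.LsF.decide_eq])); decide +kernel)

private noncomputable def _root_.Cfsg.Agent.LsF.f0214d0_29 : {f // @Cfsg.Agent.H942.L16.xlS = f} := ⟨_, by first | (delta Cfsg.Agent.H942.L16.xlS; rewrite [Cfsg.Agent.LsF.f0214d0_16.2, Cfsg.Agent.LsF.f0214d0_18.2, Cfsg.Agent.LsF.lappend_pat, Cfsg.Agent.LsF.map_eq]; exact rfl) | exact rfl⟩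
private noncomputable def _root_.Cfsg.Agent.LsF.f0214d0_30 : {f // @Cfsg.Agent.H942.L16.taS = f} := ⟨_, by first | (delta Cfsg.Agent.H942.L16.taS; rewrite [Cfsg.Agent.LsF.f0214d0_23.2, Cfsg.Agent.LsF.map_eq]; exact rfl) | exact rfl⟩
private noncomputable def _root_.Cfsg.Agent.LsF.f0214d0_31 : {f // @Cfsg.Agent.H942.L16.TS = f} := ⟨_, by first | (delta Cfsg.Agent.H942.L16.TS; rewrite [Cfsg.Agent.LsF.f0214d0_29.2, Cfsg.Agent.LsF.f0214d0_30.2]; exact rfl) | exact rfl⟩
theorem tv : TS (L true) = L false := by (refine of_decide_eq_true ?_; (try (rewrite [Cfsg.Agent.LsF.f0214d0_31.2, Cfsg.Agent.LsF.f0214d0_22.2, Cfsg.Agent.LsF.dProdEq_eq, Cfsg.Agent.LsF.instDecEq_eq, Cfsg.Agent.LsF.dListEq_eq, Cfsg.Agent.LsF.decide_eq])); decide +kernel)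

private noncomputable def _root_.Cfsg.Agent.LsF.f0214d0_32 : {f // @Cfsg.Agent.H942.L16.okX = f} := ⟨_, by first | (delta Cfsg.Agent.H942.L16.okX; rewrite [Cfsg.Agent.LsF.nadd_pat, Cfsg.Agent.LsF.and_eq, Cfsg.Agent.LsF.not_eq, Cfsg.Agent.LsF.all_eq]; exact rfl) | exact rfl⟩
private noncomputable def _root_.Cfsg.Agent.LsF.f0214d0_33 : {f // @Cfsg.Agent.H942.L16.okT = f} := ⟨_, by first | (delta Cfsg.Agent.H942.L16.okT; rewrite [Cfsg.Agent.LsF.f0214d0_12.2, Cfsg.Agent.LsF.f0214d0_32.2, Cfsg.Agent.LsF.f0214d0_30.2, Cfsg.Agent.LsF.f0214d0_29.2, Cfsg.Agent.LsF.and_eq]; exact rfl) | exact rfl⟩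
theorem okv : okT (L true) = true := by ((try (rewrite [Cfsg.Agent.LsF.f0214d0_33.2, Cfsg.Agent.LsF.f0214d0_22.2])); decide +kernel)

end R0

open R0

/-- **the elimination of type R, `(0)`** -/
theorem elimR0 {Fp : LK → LK} {ta : LK →ₗ[KK] LK} (O : Ops Fp ta) : ElimR0 Fp ta := by
  intro s k o1 o3 r1 r2 r3 r0 hR hv hT _ hI
  obtain ⟨x, hx⟩ : ∃ x, x = xs k o1 o3 r1 r2 r3 r0 := ⟨_, rfl⟩
  have m1 : mv x 1 = k := by subst hx; exact mv_prime _ (p := 2) (by norm_num)
  have m2 : mv x 2 = o1 := by subst hx; exact mv_prime _ (p := 3) (by norm_num)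
  have m4 : mv x 4 = o3 := by subst hx; exact mv_prime _ (p := 5) (by norm_num)
  have m6 : mv x 6 = r1 := by subst hx; exact mv_prime _ (p := 7) (by norm_num)
  have m10 : mv x 10 = r2 := by subst hx; exact mv_prime _ (p := 11) (by norm_num)
  have m12 : mv x 12 = r3 := by subst hx; exact mv_prime _ (p := 13) (by norm_num)
  have m16 : mv x 16 = r0 := by subst hx; exact mv_prime _ (p := 17) (by norm_num)
  clear hx
  have hv' : s true = sv x (L true) := by
    rw [hv]
    unfold L vR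
    simp only [sv_cons, sv_nil, pv_cons, pv_nil, m1, m2, m4, m6, m10, m12, m16, add_zero, smul_add]
    abel
  have hs : ∀ a, s a = sv x (L a) := by
    intro a
    cases a
    · rw [hT, hv']
      unfold T
      rw [sv_TS O x _ okv, tv]
    · exact hv'
  have hz : ∀ a b, brK (s a) (Fp (Fp (s b))) = sv x (Z a b) := by
    intro a b
    rw [hs b, sv_frS O x _ (ok1 b), sv_frS O x _ (ok2 b), hs a, sv_brS x _ _ (ok3 a b)]
    rfl
  have e135 : pv x [59048, 9765624] = 0 := by
    have h := hI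
    unfold INV1 at h
    simp only [hz] at h
    have h1 := congrFun h (Sum.inr ⟨135, by rw [nr]; norm_num⟩)
    simp only [Pi.add_apply, pv_cR x _ _ _ (ok4 _ _) (ok4 _ _)] at h1
    rw [← inv135, pv_sumP]
    simp only [List.map_cons, List.map_nil, List.sum_cons, List.sum_nil, add_zero]
    exact h1
  have p1 : mv x 59048 = o1 ^ 10 := by
    rw [show (59048 : ℕ) = mp 2 10 by decide +kernel, mv_mp, m2]
  have p2 : mv x 9765624 = o3 ^ 10 := by
    rw [show (9765624 : ℕ) = mp 4 10 by decide +kernel, mv_mp, m4]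
  simp only [pv_cons, pv_nil, add_zero, p1, p2] at e135
  obtain ⟨-, h13, -⟩ := hR
  rcases mul_eq_zero.1 h13 with h | h
  · refine ⟨h, ?_⟩
    rw [h] at e135
    simpa using e135
  · refine ⟨?_, h⟩
    rw [h] at e135
    simpa using e135

end Cfsg.Agent.H834.L16
end

-- part: H977/D32/StepB
section
/-!
# S5916, dimension 32: step B (helper977)

The squaring map `P` (`ad (P v) = (ad v)²`) of the Lie algebra in characteristic two, and a toral rational vector fixed
by `H`.
-/

set_option autoImplicit false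
set_option linter.unusedSectionVars false
set_option maxRecDepth 100000

namespace Cfsg.Agent.H977.D32

open Matrix Cfsg Cfsg.Lie
open Cfsg.Agent.H939.L64 (KK E2 LK em aK fr rE brK rE_apply fixS rE_brK frE frE_apply)
open Cfsg.Agent.H413.L16 (er hv hr xr tg ad_inj br_hv br_hh aK_xr xr_add xr_zero br_comm add_self' single_eq nr rk8 er_inr)
open Cfsg.Agent.H525.D32 (GK co hp rv Fr32 InM Bad Tor DPL wi brK_add_left brK_add_right brK_smul_left brK_smul_right
  brK_zero_left brK_zero_right jac rE_fix br_dp dp_scal dp_spec Bad_br int_sq fr_add fr_br fr_smul)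
open Cfsg.Agent.H876.L64 (aK_mul aK_one aK_inv aK_inv' aK_add aK_smul aK_zero aK_brK two_zero)
open Cfsg.Agent.H950.L16 (Sit)
open Cfsg.Agent.ChevalleyStructure.Columns (car cor)

/-! ### the squaring map -/

/-- `ad (e_r)² = 0` -/
theorem er_sq {r : ℕ} (hr' : r < 240) (w : LK) : brK (er r) (brK (er r) w) = 0 := by
  have hn : ∀ h, (er r) (Sum.inr ⟨239 - r, h⟩) = 0 := by
    intro h
    rw [er_inr, if_neg]
    show ¬ r = 239 - r
    omega
  have hee : brK (er r) (er r) = 0 := by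
    rw [Cfsg.Agent.H413.L16.br_rr hr' hr' (by omega), Cfsg.Agent.H413.L16.tg_self hr', Cfsg.Agent.H413.L16.er_ge le_rfl]
  have key : ∀ c : KK, c ≠ 0 → brK (er r) (brK (er r) w) +
      (c * brK (er r) w (Sum.inr ⟨239 - r, by rw [nr]; omega⟩)) • er r = 0 := by
    intro c hc
    have h1 : aK (xr r c) (aK (xr r c) w) = w := by
      rw [← aK_mul, xr_add hr']
      have : c + c = 0 := by rw [← two_mul, two_zero, zero_mul]
      rw [this, xr_zero hr', aK_one]
    rw [aK_xr hr' c w, aK_xr hr' c] at h1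
    simp only [brK_add_right, brK_smul_right, hee, smul_zero, add_zero, Pi.add_apply, Pi.smul_apply, smul_eq_mul, hn,
      mul_zero] at h1
    generalize brK (er r) (brK (er r) w) = A at h1 ⊢
    generalize brK (er r) w (Sum.inr ⟨239 - r, by rw [nr]; omega⟩) = b at h1 ⊢
    generalize brK (er r) w = B at h1
    generalize w (Sum.inr ⟨239 - r, by rw [nr]; omega⟩) = d at h1
    have h2 : c ^ 2 • (A + (c * b) • er r) = 0 := by
      have h3 : w + c • B + (c ^ 2 * d) • er r + c • (B + c • A) + (c ^ 2 * (d + c * b)) • er r =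
          w + c ^ 2 • (A + (c * b) • er r) + ((c • B + c • B) + ((c ^ 2 * d) • er r + (c ^ 2 * d) • er r)) := by
        module
      rw [h3, add_self', add_self', add_zero, add_zero] at h1
      exact add_eq_left.1 h1
    exact (smul_eq_zero.1 h2).resolve_left (pow_ne_zero 2 hc)
  obtain ⟨c, hc0, hc1⟩ : ∃ c : KK, c ≠ 0 ∧ c ≠ 1 := by
    classical
    obtain ⟨c, hc⟩ := Infinite.exists_notMem_finset ({0, 1} : Finset KK)
    simp only [Finset.mem_insert, Finset.mem_singleton, not_or] at hc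
    exact ⟨c, hc.1, hc.2⟩
  have k1 := key 1 one_ne_zero
  have k2 := key c hc0
  set A := brK (er r) (brK (er r) w)
  set b := brK (er r) w (Sum.inr ⟨239 - r, by rw [nr]; omega⟩)
  have h3 : ((1 * b) - (c * b)) • er r = 0 := by
    rw [sub_smul]
    have h4 := congrArg₂ (· - ·) k1 k2
    simp only [sub_self, add_sub_add_left_eq_sub] at h4
    exact h4
  have h5 : (1 - c) * b = 0 := by
    have := dp_scal hr' h3
    linear_combination this
  have hb : b = 0 := (mul_eq_zero.1 h5).resolve_left (sub_ne_zero.2 (Ne.symm hc1))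
  rw [hb, mul_zero, zero_smul, add_zero] at k1
  exact k1

theorem hs_sq (i : Fin chevE8.rank) (w : LK) :
    brK (hv (Pi.single i 1)) (brK (hv (Pi.single i 1)) w) = brK (hv (Pi.single i 1)) w := by
  have hb : ∀ s < 240, brK (hv (Pi.single i 1)) (er s) = ((car chevE8 i s : ℤ) : KK) • er s := by
    intro s hs
    rw [br_hv _ hs]
    congr 1
    rw [Finset.sum_eq_single i]
    · rw [Pi.single_eq_same, one_mul]
    · intro b _ hb
      rw [Pi.single_eq_of_ne hb, zero_mul]
    · intro h; exact absurd (Finset.mem_univ _) h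
  have hlin : ∀ (v : LK) (u : LK), brK v u = Cfsg.Agent.H413.L16.brM v u := fun _ _ => rfl
  suffices h : (Cfsg.Agent.H413.L16.brM (hv (Pi.single i 1))) ∘ₗ (Cfsg.Agent.H413.L16.brM (hv (Pi.single i 1))) =
      Cfsg.Agent.H413.L16.brM (hv (Pi.single i 1)) by
    exact LinearMap.congr_fun h w
  apply (Pi.basisFun KK chevE8.Idx).ext
  intro k
  rw [Pi.basisFun_apply, LinearMap.comp_apply, ← hlin, ← hlin, single_eq]
  rcases k with j | s
  · show brK _ (brK _ (hv _)) = brK _ (hv _)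
    rw [br_hh, brK_zero_right]
  · show brK _ (brK _ (er s)) = brK _ (er s)
    have hs : (s : ℕ) < 240 := lt_of_lt_of_eq s.2 nr
    rw [hb s hs, brK_smul_right, hb s hs, smul_smul, ← pow_two, int_sq]

/-- the vectors with a square -/
def Sqr (v u : LK) : Prop := ∀ w, brK u w = brK v (brK v w)

theorem Sqr.unique {v u u' : LK} (h : Sqr v u) (h' : Sqr v u') : u = u' := by
  have h1 : u + u' = 0 := by
    apply ad_inj
    intro w
    rw [brK_add_left, h w, h' w, add_self']
  have h2 := add_self' u'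
  exact add_right_cancel (h1.trans h2.symm)

theorem Sqr.smul {v u : LK} (h : Sqr v u) (c : KK) : Sqr (c • v) (c ^ 2 • u) := by
  intro w
  rw [brK_smul_left, h w, brK_smul_left, brK_smul_left, brK_smul_right, smul_smul, pow_two]

theorem Sqr.add {v u v' u' : LK} (h : Sqr v u) (h' : Sqr v' u') : Sqr (v + v') (u + u' + brK v v') := by
  intro w
  have h1 := jac v v' w
  rw [brK_add_left, brK_add_left, h w, h' w, brK_add_left, brK_add_left, brK_add_right, brK_add_right, h1]
  have h2 := add_self' (brK v' (brK v w))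
  have e : brK v (brK v w) + (brK (brK v v') w + brK v' (brK v w)) + (brK v' (brK v w) + brK v' (brK v' w)) =
      brK v (brK v w) + brK v' (brK v' w) + brK (brK v v') w + (brK v' (brK v w) + brK v' (brK v w)) := by abel
  rw [e, h2, add_zero]

theorem exists_sqr (v : LK) : ∃ u, Sqr v u := by
  let W : Submodule KK LK :=
    { carrier := {v | ∃ u, Sqr v u}
      add_mem' := by
        rintro a b ⟨u, hu⟩ ⟨u', hu'⟩
        exact ⟨_, hu.add hu'⟩
      zero_mem' := ⟨0, fun w => by rw [brK_zero_left, brK_zero_left]⟩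
      smul_mem' := by
        rintro c a ⟨u, hu⟩
        exact ⟨_, hu.smul c⟩ }
  have hW : W = ⊤ := by
    rw [eq_top_iff, ← (Pi.basisFun KK chevE8.Idx).span_eq, Submodule.span_le]
    rintro _ ⟨k, rfl⟩
    rw [Pi.basisFun_apply, single_eq]
    rcases k with i | s
    · exact ⟨hv (Pi.single i 1), fun w => (hs_sq i w).symm⟩
    · exact ⟨0, fun w => by
        rw [brK_zero_left]
        exact (er_sq (lt_of_lt_of_eq s.2 nr) w).symm⟩
  have h : v ∈ W := by rw [hW]; trivial
  exact h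

/-- the squaring map -/
noncomputable def P (v : LK) : LK := (exists_sqr v).choose

theorem sqr_P (v : LK) : Sqr v (P v) := (exists_sqr v).choose_spec

theorem P_add (a b : LK) : P (a + b) = P a + P b + brK a b := (sqr_P (a + b)).unique ((sqr_P a).add (sqr_P b))

/-- automorphisms -/
theorem P_map {θ : LK → LK} (hb : ∀ u w, θ (brK u w) = brK (θ u) (θ w)) (hs : Function.Surjective θ) (v : LK) :
    θ (P v) = P (θ v) := by
  refine Sqr.unique ?_ (sqr_P (θ v))
  intro w
  obtain ⟨w', rfl⟩ := hs w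
  rw [← hb, sqr_P v w', hb, hb]

theorem P_rE (g : E2) (v : LK) : rE g (P v) = P (rE g v) :=
  P_map (θ := fun v => rE g v) (fun u w => rE_brK g u w)
    (fun w => ⟨rE g⁻¹ w, Cfsg.Agent.H939.L64.rE_self_inv g w⟩) v

theorem P_fr (v : LK) : fr (P v) = P (fr v) :=
  P_map (θ := fr) (fun u w => fr_br u w) (fun w => ⟨frE.symm w, frE.apply_symm_apply w⟩) v

theorem P_aK (g : GK) (v : LK) : aK g (P v) = P (aK g v) :=
  P_map (θ := aK g) (fun u w => aK_brK g u w) (fun w => ⟨aK g⁻¹ w, aK_inv g w⟩) v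

/-! ### step B -/

private noncomputable def _root_.Cfsg.Agent.LsF.f0214d0_34 : {f // @Cfsg.Agent.H525.D32.wi = f} := ⟨_, by first | (delta Cfsg.Agent.H525.D32.wi; rewrite [Cfsg.Agent.LsF.getD_eq]; exact rfl) | exact rfl⟩
private noncomputable def _root_.Cfsg.Agent.LsF.f0214d0_35 : {f // @Cfsg.Agent.ChevalleyStructure.Columns.car = f} := ⟨_, by first | (delta Cfsg.Agent.ChevalleyStructure.Columns.car; rewrite [Cfsg.Agent.LsF.agetD_eq]; exact rfl) | exact rfl⟩
private noncomputable def _root_.Cfsg.Agent.LsF.f0214d0_36 : {f // @Cfsg.Agent.H943.D32.relB = f} := ⟨_, by first | (delta Cfsg.Agent.H943.D32.relB; rewrite [Cfsg.Agent.LsF.f0214d0_35.2, Cfsg.Agent.LsF.imod_pat, Cfsg.Agent.LsF.all_eq, Cfsg.Agent.LsF.map_eq, Cfsg.Agent.LsF.range_eq, Cfsg.Agent.LsF.sum_eq, Cfsg.Agent.LsF.instIAdd_eq, Cfsg.Agent.LsF.instIDecEq_eq, Cfsg.Agent.LsF.decide_eq]; exact rfl) | exact rfl⟩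
theorem wi_dpl : (DPL.all fun r => decide (wi r ∈ DPL) && decide (wi (wi (wi (wi r))) = 239 - r) &&
    Cfsg.Agent.H943.D32.relB [239 - r, r]) = true := by ((try (rewrite [Cfsg.Agent.LsF.dMemE_pat, Cfsg.Agent.LsF.f0214d0_34.2, Cfsg.Agent.LsF.f0214d0_36.2, Cfsg.Agent.LsF.nsub_pat, Cfsg.Agent.LsF.and_eq, Cfsg.Agent.LsF.instDecEq_eq, Cfsg.Agent.LsF.all_eq, Cfsg.Agent.LsF.decide_eq])); decide +kernel)

theorem wi_dpl' {r : ℕ} (hr : r ∈ DPL) : wi r ∈ DPL ∧ wi (wi (wi (wi r))) = 239 - r ∧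
    Cfsg.Agent.H943.D32.relB [239 - r, r] = true := by
  have h := List.all_eq_true.1 wi_dpl r hr
  rw [Bool.and_eq_true, Bool.and_eq_true] at h
  exact ⟨of_decide_eq_true h.1.1, of_decide_eq_true h.1.2, h.2⟩

variable {F : Type} [Field F] [Fintype F] {H : Subgroup E2} {f : SpecialLinearGroup (Fin 2) F →* E2}
  {y : SpecialLinearGroup (Fin 2) F} {ζ : KK} {z t : GK} {Fp : LK → LK} {FG : GK → GK}

/-- the values of a rational vector -/
theorem val16 {x : E2} (R : Fr32 x ζ z t Fp FG) {v : LK} (hv : InM v) (hF : Fp v = v) {r : ℕ} (hr : r ∈ DPL) :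
    rv (hp v) r ^ 16 = rv (hp v) r := by
  have h2 : ∀ r ∈ DPL, rv (hp v) (wi r) = rv (hp v) r ^ 2 := by
    intro r hr
    have h3 := congrArg Fp (br_dp hv hr)
    have hlt := (dp_spec hr).1
    rw [R.br, hF, R.fer r hlt, R.smul, R.fer r hlt, br_dp hv (wi_dpl' hr).1] at h3
    have h4 : (rv (hp v) (wi r) - rv (hp v) r ^ 2) • er (wi r) = 0 := by rw [sub_smul, h3, sub_self]
    exact sub_eq_zero.1 (dp_scal (dp_spec (wi_dpl' hr).1).1 h4)
  have r1 := (wi_dpl' hr).1
  have r2 := (wi_dpl' r1).1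
  have r3 := (wi_dpl' r2).1
  have e1 := h2 r hr
  have e2 := h2 _ r1
  have e3 := h2 _ r2
  have e4 := h2 _ r3
  rw [(wi_dpl' hr).2.1, Cfsg.Agent.H943.D32.rv2 _ (wi_dpl' hr).2.2, e3, e2, e1] at e4
  conv_rhs => rw [e4]
  ring

theorem stepB (S : Sit H f y) (R : Fr32 (f y) ζ z t Fp FG) (h0 : fixS (rE.comp f) ≠ ⊥)
    (hA : ∀ v, (∀ s, rE (f s) v = v) → Bad (aK z⁻¹ v) → v = 0) :
    ∃ h : LK, h ≠ 0 ∧ fr h = h ∧ (∀ s, rE (f s) h = h) ∧ Tor h ∧ ∀ g ∈ H, rE g h = h := by
  obtain ⟨v, hv0, hfr, hH⟩ := Cfsg.Agent.H977.L16.exists_fixed S h0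
  let T : LK → Prop := fun v => fr v = v ∧ ∀ g ∈ H, rE g v = v
  have hTP : ∀ v, T v → T (P v) := fun v hv =>
    ⟨by rw [P_fr, hv.1], fun g hg => by rw [P_rE, hv.2 g hg]⟩
  have hTadd : ∀ a b, T a → T b → T (a + b) := fun a b ha hb =>
    ⟨by rw [fr_add, ha.1, hb.1], fun g hg => by rw [map_add, ha.2 g hg, hb.2 g hg]⟩
  have hM : ∀ v, T v → InM (aK z⁻¹ v) := fun v hv => (rE_fix R v).1 (hv.2 _ (S.le y))
  have hab : ∀ a b, T a → T b → brK a b = 0 := by
    intro a b ha hb
    apply hA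
    · intro s
      rw [rE_brK, ha.2 _ (S.le s), hb.2 _ (S.le s)]
    · rw [aK_brK]
      exact Bad_br R (hM a ha) (hM b hb)
  have hPadd : ∀ a b, T a → T b → P (a + b) = P a + P b := by
    intro a b ha hb
    rw [P_add, hab a b ha hb, add_zero]
  have hval : ∀ v, T v → ∀ r ∈ DPL, rv (hp (aK z⁻¹ (P v))) r = rv (hp (aK z⁻¹ v)) r ^ 2 := by
    intro v hv r hr
    have h1 := br_dp (hM _ (hTP v hv)) hr
    rw [P_aK, sqr_P, br_dp (hM v hv) hr, brK_smul_right, br_dp (hM v hv) hr, smul_smul, ← pow_two, ← P_aK] at h1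
    have h4 : (rv (hp (aK z⁻¹ v)) r ^ 2 - rv (hp (aK z⁻¹ (P v))) r) • er r = 0 := by rw [sub_smul, h1, sub_self]
    exact (sub_eq_zero.1 (dp_scal (dp_spec hr).1 h4)).symm
  have hP4 : ∀ v, T v → P (P (P (P v))) = v := by
    intro v hv
    have t1 := hTP v hv
    have t2 := hTP _ t1
    have t3 := hTP _ t2
    have t4 := hTP _ t3
    have hT := hTadd _ _ t4 hv
    have h1 : P (P (P (P v))) + v = 0 := by
      apply hA
      · intro s
        exact hT.2 _ (S.le s)
      · intro r hr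
        have hFp : Fp (aK z⁻¹ v) = aK z⁻¹ v := by rw [← R.frob, hv.1]
        rw [aK_add, Cfsg.Agent.H525.D32.hp_add, Cfsg.Agent.H525.D32.rv_add, hval _ t3 r hr, hval _ t2 r hr,
          hval _ t1 r hr, hval _ hv r hr]
        have h5 := val16 R (hM v hv) hFp hr
        have e : (((rv (hp (aK z⁻¹ v)) r ^ 2) ^ 2) ^ 2) ^ 2 = rv (hp (aK z⁻¹ v)) r ^ 16 := by ring
        rw [e, h5, ← two_mul, two_zero, zero_mul]
    have h2 := add_self' v
    exact add_right_cancel (h1.trans h2.symm)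
  have hTv : T v := ⟨hfr, hH⟩
  have fin : ∀ h, T h → h ≠ 0 → P h = h →
      ∃ h : LK, h ≠ 0 ∧ fr h = h ∧ (∀ s, rE (f s) h = h) ∧ Tor h ∧ ∀ g ∈ H, rE g h = h := by
    intro h hT hh0 hP
    refine ⟨h, hh0, hT.1, fun s => hT.2 _ (S.le s), fun w => ?_, hT.2⟩
    have h1 := sqr_P h w
    rw [hP] at h1
    exact h1.symm
  have step : ∀ a, T a → T (P a + a) := fun a ha => hTadd _ _ (hTP a ha) ha
  have cancel : ∀ a : LK, P a + a = 0 → P a = a := by
    intro a ha
    have h2 := add_self' a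
    exact add_right_cancel (ha.trans h2.symm)
  by_cases c1 : P v + v = 0
  · exact fin v hTv hv0 (cancel v c1)
  have t1 := step v hTv
  have t2 := step _ t1
  have t3 := step _ t2
  by_cases c2 : P (P v + v) + (P v + v) = 0
  · exact fin _ t1 c1 (cancel _ c2)
  by_cases c3 : P (P (P v + v) + (P v + v)) + (P (P v + v) + (P v + v)) = 0
  · exact fin _ t2 c2 (cancel _ c3)
  refine fin _ t3 c3 (cancel _ ?_)
  have p1 := hTP v hTv
  have p2 := hTP _ p1
  have p3 := hTP _ p2
  have e1 : P (P v + v) = P (P v) + P v := hPadd _ _ p1 hTv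
  have e2 : P (P v + v) + (P v + v) = P (P v) + v := by
    rw [e1]
    have := add_self' (P v)
    calc P (P v) + P v + (P v + v) = P (P v) + v + (P v + P v) := by abel
      _ = _ := by rw [this, add_zero]
  rw [e2]
  have e3 : P (P (P v) + v) = P (P (P v)) + P v := hPadd _ _ p2 hTv
  rw [e3]
  have q1 := hTadd _ _ p3 p1
  have q2 := hTadd _ _ p2 hTv
  rw [hPadd _ _ q1 q2, hPadd _ _ p3 p1, hPadd _ _ p2 hTv, hP4 v hTv]
  have a1 := add_self' v
  have a2 := add_self' (P v)
  have a3 := add_self' (P (P v))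
  have a4 := add_self' (P (P (P v)))
  calc v + P (P v) + (P (P (P v)) + P v) + (P (P (P v)) + P v + (P (P v) + v)) =
      (v + v) + (P v + P v) + (P (P v) + P (P v)) + (P (P (P v)) + P (P (P v))) := by abel
    _ = 0 := by rw [a1, a2, a3, a4, add_zero, add_zero, add_zero]

end Cfsg.Agent.H977.D32
end

private theorem dce_c1b10db47ceb : _root_.True := by
  try have : _root_.True := by simp only [_root_.Cfsg.Agent.H167.L16.C0.eq_1]
  try have : _root_.True := by simp only [_root_.Cfsg.Agent.H942.L16.insS.eq_2]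
  try have : _root_.True := by simp only [_root_.Cfsg.Agent.H942.L16.insS.eq_1]
  try have : _root_.True := by simp only [_root_.Cfsg.Agent.H942.L16.addF.eq_4]
  try have : _root_.True := by simp only [_root_.Cfsg.Agent.H942.L16.addF.eq_def]
  try have : _root_.True := by simp only [_root_.Cfsg.Agent.H942.L16.addF.eq_2]
  try have : _root_.True := by simp only [_root_.Cfsg.Agent.H167.L16.C3.eq_1]
  try have : _root_.True := by simp only [_root_.Cfsg.Agent.H942.L16.addF.eq_3]
  try have : _root_.True := by simp only [_root_.Cfsg.Agent.H942.L16.insS.eq_def]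
  try have : _root_.True := by simp only [_root_.Cfsg.Agent.H167.L16.C1.eq_1]
  try have : _root_.True := by simp only [_root_.Cfsg.Agent.H943.L16.LL.eq_1]
  try have : _root_.True := by simp only [_root_.Cfsg.Agent.H167.L16.C5.eq_1]
  try have : _root_.True := by simp only [_root_.Cfsg.Agent.H942.L16.addF.eq_1]
  exact _root_.True.intro
end

-- part: H413/L16/Per
section
set_option linter.all false
open scoped Cfsg.Agent.FastGrp

/-!
# S5916: Gauss periods of order 17 in characteristic two (helper413)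
-/

set_option autoImplicit false

namespace Cfsg.Agent.H413.L16.Per

variable {k : Type*} [Field k] [CharP k 2]

/-- the quadratic residues -/
def QR : Finset ℕ := {1, 2, 4, 8, 9, 13, 15, 16}

/-- the other non-zero residues -/
def NR : Finset ℕ := {3, 5, 6, 7, 10, 11, 12, 14}

/-- the period -/
def qs (u : k) : k := ∑ j ∈ QR, u ^ j

/-- the other period -/
def qn (u : k) : k := ∑ j ∈ NR, u ^ j

theorem two0 : (2 : k) = 0 := by
  have := CharP.cast_eq_zero k 2
  exact_mod_cast this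

omit [CharP k 2] in
theorem pow_mod17 {u : k} (h : u ^ 17 = 1) (n : ℕ) : u ^ n = u ^ (n % 17) := by
  conv_lhs => rw [← Nat.mod_add_div n 17, pow_add, pow_mul, h, one_pow, mul_one]

omit [CharP k 2] in
theorem sum_perm {u : k} (h : u ^ 17 = 1) (S R : Finset ℕ) (a : ℕ) (h1 : S.image (fun j => a * j % 17) = R)
    (h2 : ∀ i ∈ S, ∀ j ∈ S, a * i % 17 = a * j % 17 → i = j) : ∑ j ∈ S, (u ^ a) ^ j = ∑ j ∈ R, u ^ j := by
  rw [← h1, Finset.sum_image (fun i hi j hj => h2 i hi j hj)]
  refine Finset.sum_congr rfl fun j _ => ?_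
  rw [← pow_mul, pow_mod17 h]

omit [CharP k 2] in
theorem qs_of_QR {u : k} (h : u ^ 17 = 1) {a : ℕ} (ha : a ∈ QR) : qs (u ^ a) = qs u := by
  have h1 : ∀ a ∈ QR, QR.image (fun j => a * j % 17) = QR ∧ ∀ i ∈ QR, ∀ j ∈ QR, a * i % 17 = a * j % 17 → i = j := by
    decide +kernel
  exact sum_perm h QR QR a (h1 a ha).1 (h1 a ha).2

omit [CharP k 2] in
theorem qs_of_NR {u : k} (h : u ^ 17 = 1) {a : ℕ} (ha : a ∈ NR) : qs (u ^ a) = qn u := by
  have h1 : ∀ a ∈ NR, QR.image (fun j => a * j % 17) = NR ∧ ∀ i ∈ QR, ∀ j ∈ QR, a * i % 17 = a * j % 17 → i = j := by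
    decide +kernel
  exact sum_perm h QR NR a (h1 a ha).1 (h1 a ha).2

omit [CharP k 2] in
theorem qn_of_QR {u : k} (h : u ^ 17 = 1) {a : ℕ} (ha : a ∈ QR) : qn (u ^ a) = qn u := by
  have h1 : ∀ a ∈ QR, NR.image (fun j => a * j % 17) = NR ∧ ∀ i ∈ NR, ∀ j ∈ NR, a * i % 17 = a * j % 17 → i = j := by
    decide +kernel
  exact sum_perm h NR NR a (h1 a ha).1 (h1 a ha).2

omit [CharP k 2] in
theorem qs_add {z : k} (hz : IsPrimitiveRoot z 17) : 1 + qs z + qn z = 0 := by
  have h := hz.geom_sum_eq_zero (by norm_num)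
  have e : Finset.range 17 = insert 0 (QR ∪ NR) := by decide
  rw [e, Finset.sum_insert (by decide), Finset.sum_union (by decide), pow_zero, ← add_assoc] at h
  exact h

theorem qs_01 {z : k} (h : z ^ 17 = 1) : qs z = 0 ∨ qs z = 1 := by
  have h1 : (qs z) ^ 2 = qs z := by
    have h2 := qs_of_QR h (a := 2) (by decide)
    conv_rhs => rw [← h2]
    unfold qs
    rw [← frobenius_def, map_sum]
    refine Finset.sum_congr rfl fun j _ => ?_
    rw [frobenius_def, ← pow_mul, ← pow_mul, mul_comm]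
  have h3 : qs z * (qs z - 1) = 0 := by linear_combination h1
  rcases mul_eq_zero.1 h3 with h4 | h4
  · exact Or.inl h4
  · exact Or.inr (sub_eq_zero.1 h4)

/-- the two polynomials of degree four -/
theorem two_cases {z : k} (hz : IsPrimitiveRoot z 17) :
    ((z + z⁻¹) ^ 4 = (z + z⁻¹) + 1 ∧ qs z = 0) ∨
      ((z + z⁻¹) ^ 4 + (z + z⁻¹) ^ 3 + (z + z⁻¹) ^ 2 + (z + z⁻¹) + 1 = 0 ∧ qs z = 1) := by
  have h2 := two0 (k := k)
  have hz0 : z ≠ 0 := hz.ne_zero (by norm_num)
  obtain ⟨l, hl⟩ : ∃ l, l = z + z⁻¹ := ⟨_, rfl⟩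
  rw [← hl]
  have hlz : l * z = z ^ 2 + 1 := by rw [hl, add_mul, inv_mul_cancel₀ hz0]; ring
  have e1 : (l ^ 4 + l + 1) * z ^ 4 = (z ^ 2 + 1) ^ 4 + (z ^ 2 + 1) * z ^ 3 + z ^ 4 := by rw [← hlz]; ring
  have e2 : (l ^ 4 + l ^ 3 + l ^ 2 + l + 1) * z ^ 4 =
      (z ^ 2 + 1) ^ 4 + (z ^ 2 + 1) ^ 3 * z + (z ^ 2 + 1) ^ 2 * z ^ 2 + (z ^ 2 + 1) * z ^ 3 + z ^ 4 := by
    rw [← hlz]; ring
  have hg := hz.geom_sum_eq_zero (by norm_num)
  simp only [Finset.sum_range_succ, Finset.sum_range_zero] at hg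
  have e3 : ((l ^ 4 + l + 1) * z ^ 4) * ((l ^ 4 + l ^ 3 + l ^ 2 + l + 1) * z ^ 4) = 0 := by
    rw [e1, e2]
    linear_combination hg + (4 * z ^ 2 + 4 * z ^ 3 + 18 * z ^ 4 + 16 * z ^ 5 + 42 * z ^ 6 + 31 * z ^ 7 + 56 * z ^ 8 +
      31 * z ^ 9 + 42 * z ^ 10 + 16 * z ^ 11 + 18 * z ^ 12 + 4 * z ^ 13 + 4 * z ^ 14) * h2
  have h17 := hz.pow_eq_one
  have ei : z⁻¹ = z ^ 16 := by
    symm
    apply eq_inv_of_mul_eq_one_left
    rw [← pow_succ]
    exact h17
  have eq0 : qs z = l + l ^ 2 + l ^ 4 + l ^ 8 := by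
    have f : ∀ x y : k, (x + y) ^ 2 = x ^ 2 + y ^ 2 := fun x y => by linear_combination (x * y) * h2
    have f2 : l ^ 2 = z ^ 2 + z ^ 15 := by
      rw [hl, ei, f]
      linear_combination z ^ 15 * h17
    have f4 : l ^ 4 = z ^ 4 + z ^ 13 := by
      have : l ^ 4 = (l ^ 2) ^ 2 := by ring
      rw [this, f2, f]
      linear_combination z ^ 13 * h17
    have f8 : l ^ 8 = z ^ 8 + z ^ 9 := by
      have : l ^ 8 = (l ^ 4) ^ 2 := by ring
      rw [this, f4, f]
      linear_combination z ^ 9 * h17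
    rw [f2, f4, f8, hl, ei]
    unfold qs QR
    rw [Finset.sum_insert (by decide), Finset.sum_insert (by decide), Finset.sum_insert (by decide),
      Finset.sum_insert (by decide), Finset.sum_insert (by decide), Finset.sum_insert (by decide),
      Finset.sum_insert (by decide), Finset.sum_singleton]
    ring
  have hz4 : z ^ 4 ≠ 0 := pow_ne_zero 4 hz0
  rcases mul_eq_zero.1 e3 with h3 | h3
  · left
    have h4 := (mul_eq_zero.1 h3).resolve_right hz4
    refine ⟨by linear_combination h4 - (l + 1) * h2, ?_⟩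
    rw [eq0]
    linear_combination (l ^ 4 - l) * h4 + (l + l ^ 2) * h2
  · right
    have h4 := (mul_eq_zero.1 h3).resolve_right hz4
    refine ⟨h4, ?_⟩
    rw [eq0]
    linear_combination (l ^ 4 - l ^ 3 + 1) * h4 - h2

/-- `λ ^ 4 = λ + 1` means that the period vanishes -/
theorem root_iff {z : k} (hz : IsPrimitiveRoot z 17) : (z + z⁻¹) ^ 4 = (z + z⁻¹) + 1 ↔ qs z = 0 := by
  have h2 := two0 (k := k)
  rcases two_cases hz with ⟨h1, h3⟩ | ⟨h1, h3⟩
  · exact ⟨fun _ => h3, fun _ => h1⟩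
  · refine ⟨fun h => ?_, fun h => absurd (h.symm.trans h3) zero_ne_one⟩
    exfalso
    obtain ⟨l, hl⟩ : ∃ l, l = z + z⁻¹ := ⟨_, rfl⟩
    rw [← hl] at h h1
    have h4 : l ^ 2 * (l + 1) = 0 := by linear_combination h1 - h - (l + 1) * h2
    rcases mul_eq_zero.1 h4 with h5 | h5
    · have h6 : l = 0 := (pow_eq_zero_iff two_ne_zero).1 h5
      rw [h6] at h
      exact absurd h (by norm_num)
    · have h6 : l = 1 := by linear_combination h5 - h2
      rw [h6] at h
      exact absurd (show (1 : k) = 0 by linear_combination h + h2) one_ne_zero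

theorem root_iff' {z : k} (hz : IsPrimitiveRoot z 17) :
    (z + z⁻¹) ^ 4 + (z + z⁻¹) ^ 3 + (z + z⁻¹) ^ 2 + (z + z⁻¹) + 1 = 0 ↔ qs z = 1 := by
  have h2 := two0 (k := k)
  rcases two_cases hz with ⟨h1, h3⟩ | ⟨h1, h3⟩
  · refine ⟨fun h => ?_, fun h => absurd (h3.symm.trans h) zero_ne_one⟩
    exfalso
    obtain ⟨l, hl⟩ : ∃ l, l = z + z⁻¹ := ⟨_, rfl⟩
    rw [← hl] at h h1
    have h4 : l ^ 2 * (l + 1) = 0 := by linear_combination h - h1 - (l + 1) * h2
    rcases mul_eq_zero.1 h4 with h5 | h5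
    · have h6 : l = 0 := (pow_eq_zero_iff two_ne_zero).1 h5
      rw [h6] at h1
      exact absurd h1 (by norm_num)
    · have h6 : l = 1 := by linear_combination h5 - h2
      rw [h6] at h1
      exact absurd (show (1 : k) = 0 by linear_combination h1 + h2) one_ne_zero
  · exact ⟨fun _ => h3, fun _ => h1⟩

theorem cases17 : ∀ a < 17, a = 0 ∨ a ∈ QR ∨ a ∈ NR := by decide

theorem lt17 : (∀ a ∈ QR, a < 17 ∧ a ≠ 0) ∧ ∀ a ∈ NR, a < 17 ∧ a ≠ 0 := by decide

/-- **the index set of the relation** -/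
theorem exists_set {z : k} (hz : IsPrimitiveRoot z 17) {Sk : Finset ℕ}
    (hS : ∀ a, a ∈ Sk ↔ a < 17 ∧ a ≠ 0 ∧ qs (z ^ a) = 0) :
    (Sk = QR ∧ qs z = 0) ∨ (Sk = NR ∧ qn z = 0) := by
  have h17 := hz.pow_eq_one
  have h2 := two0 (k := k)
  have ha := qs_add hz
  rcases qs_01 h17 with h0 | h0
  · left
    refine ⟨?_, h0⟩
    ext a
    rw [hS]
    constructor
    · rintro ⟨h1, h3, h4⟩
      rcases cases17 a h1 with h5 | h5 | h5
      · exact absurd h5 h3
      · exact h5
      · exfalso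
        rw [qs_of_NR h17 h5] at h4
        rw [h4, h0] at ha
        exact absurd (show (1 : k) = 0 by linear_combination ha) one_ne_zero
    · intro h1
      exact ⟨(lt17.1 a h1).1, (lt17.1 a h1).2, by rw [qs_of_QR h17 h1, h0]⟩
  · right
    have h0' : qn z = 0 := by
      rw [h0] at ha
      linear_combination ha - h2
    refine ⟨?_, h0'⟩
    ext a
    rw [hS]
    constructor
    · rintro ⟨h1, h3, h4⟩
      rcases cases17 a h1 with h5 | h5 | h5
      · exact absurd h5 h3
      · exfalso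
        rw [qs_of_QR h17 h5, h0] at h4
        exact one_ne_zero h4
      · exact h5
    · intro h1
      exact ⟨(lt17.2 a h1).1, (lt17.2 a h1).2, by rw [qs_of_NR h17 h1, h0']⟩

theorem sum_pow_two (S : Finset ℕ) (g : ℕ → k) (m : ℕ) : ∑ a ∈ S, g a ^ 2 ^ m = (∑ a ∈ S, g a) ^ 2 ^ m :=
  (sum_pow_char_pow 2 m S g).symm

/-- **the sums over the index set** -/
theorem sum_set {z : k} (hz : IsPrimitiveRoot z 17) {Sk : Finset ℕ}
    (hS : ∀ a, a ∈ Sk ↔ a < 17 ∧ a ≠ 0 ∧ qs (z ^ a) = 0) (m : ℕ) :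
    ∑ a ∈ Sk, z ^ (a * 2 ^ m) = 0 ∧ ∑ a ∈ Sk, (z ^ (a * 2 ^ m))⁻¹ = 0 ∧ ((Sk.card : ℕ) : k) = 0 := by
  have h17 := hz.pow_eq_one
  have h2 := two0 (k := k)
  have e1 : ∀ S : Finset ℕ, ∑ a ∈ S, z ^ (a * 2 ^ m) = (∑ a ∈ S, z ^ a) ^ 2 ^ m := fun S => by
    rw [← sum_pow_two]
    exact Finset.sum_congr rfl fun a _ => by rw [pow_mul]
  have ei : z⁻¹ = z ^ 16 := by
    symm
    apply eq_inv_of_mul_eq_one_left
    rw [← pow_succ]
    exact h17
  have e2 : ∀ S : Finset ℕ, ∑ a ∈ S, (z ^ (a * 2 ^ m))⁻¹ = (∑ a ∈ S, (z ^ 16) ^ a) ^ 2 ^ m := fun S => by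
    rw [← sum_pow_two]
    exact Finset.sum_congr rfl fun a _ => by rw [← ei, pow_mul, inv_pow, inv_pow]
  rcases exists_set hz hS with ⟨h1, h3⟩ | ⟨h1, h3⟩
  · rw [h1, e1, e2]
    have h4 := qs_of_QR h17 (a := 16) (by decide)
    rw [h3] at h4
    refine ⟨?_, ?_, ?_⟩
    · show qs z ^ 2 ^ m = 0
      rw [h3, zero_pow (pow_ne_zero m two_ne_zero)]
    · show qs (z ^ 16) ^ 2 ^ m = 0
      rw [h4, zero_pow (pow_ne_zero m two_ne_zero)]
    · have : QR.card = 8 := by decide
      rw [this]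
      push_cast
      linear_combination 4 * h2
  · rw [h1, e1, e2]
    have h4 := qn_of_QR h17 (a := 16) (by decide)
    rw [h3] at h4
    refine ⟨?_, ?_, ?_⟩
    · show qn z ^ 2 ^ m = 0
      rw [h3, zero_pow (pow_ne_zero m two_ne_zero)]
    · show qn (z ^ 16) ^ 2 ^ m = 0
      rw [h4, zero_pow (pow_ne_zero m two_ne_zero)]
    · have : NR.card = 8 := by decide
      rw [this]
      push_cast
      linear_combination 4 * h2

/-- the condition of type R -/
theorem condR {z : k} (hz : IsPrimitiveRoot z 17) (a : ℕ) (ha : a < 17) :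
    ((z ^ a + (z ^ a)⁻¹) ^ 4 = (z ^ a + (z ^ a)⁻¹) + 1) ↔ a ≠ 0 ∧ qs (z ^ a) = 0 := by
  by_cases h0 : a = 0
  · subst h0
    rw [pow_zero, inv_one, one_add_one_eq_two, two0]
    constructor
    · intro h
      exact absurd h (by norm_num)
    · intro h
      exact absurd rfl h.1
  · have h1 : IsPrimitiveRoot (z ^ a) 17 :=
      hz.pow_of_coprime a (Nat.Coprime.symm ((Nat.Prime.coprime_iff_not_dvd (by norm_num)).2
        fun h => h0 (Nat.eq_zero_of_dvd_of_lt h ha)))
    rw [root_iff h1]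
    exact ⟨fun h => ⟨h0, h⟩, fun h => h.2⟩

/-- the condition of type N -/
theorem condN {z : k} (hz : IsPrimitiveRoot z 17) (a : ℕ) (ha : a < 17) :
    (((z ^ 3) ^ a + ((z ^ 3) ^ a)⁻¹) ^ 4 + ((z ^ 3) ^ a + ((z ^ 3) ^ a)⁻¹) ^ 3 + ((z ^ 3) ^ a + ((z ^ 3) ^ a)⁻¹) ^ 2 +
      ((z ^ 3) ^ a + ((z ^ 3) ^ a)⁻¹) + 1 = 0) ↔ a ≠ 0 ∧ qs (z ^ a) = 0 := by
  have h2 := two0 (k := k)
  by_cases h0 : a = 0
  · subst h0
    rw [pow_zero, inv_one, one_add_one_eq_two, two0]
    constructor
    · intro h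
      exact absurd h (by norm_num)
    · intro h
      exact absurd rfl h.1
  · have h1 : IsPrimitiveRoot (z ^ a) 17 :=
      hz.pow_of_coprime a (Nat.Coprime.symm ((Nat.Prime.coprime_iff_not_dvd (by norm_num)).2
        fun h => h0 (Nat.eq_zero_of_dvd_of_lt h ha)))
    have h3 : IsPrimitiveRoot ((z ^ 3) ^ a) 17 := by
      rw [← pow_mul, mul_comm, pow_mul]
      exact h1.pow_of_coprime 3 (by decide)
    rw [root_iff' h3]
    have h4 : (z ^ 3) ^ a = (z ^ a) ^ 3 := by rw [← pow_mul, mul_comm, pow_mul]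
    rw [h4, qs_of_NR h1.pow_eq_one (a := 3) (by decide)]
    have h5 := qs_add h1
    constructor
    · intro h
      refine ⟨h0, ?_⟩
      rw [h] at h5
      linear_combination h5 - h2
    · rintro ⟨-, h⟩
      rw [h] at h5
      linear_combination h5 - h2

end Cfsg.Agent.H413.L16.Per
end

-- part: H701/L16/UniA
section
prune_inst 0x102005407540000000180592110004046e00019000200000f8e00d460ecf7b2089426160fe901c00108e92c45839000000880030400000000a003400011b00a088a95206b308a30c4e008780a084000000000000000000000000000000041004000000000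
set_option linter.all false
open scoped Cfsg.Agent.FastGrp

-- part: H701/L16/Bit
section
/-!
# linear algebra over `F₂` by bit vectors (helper701, for S5916)

`ph X N n` : the sum of the `X i` over the bits `i < N` of `n`; additive for xor. Certificates are masks.
-/

set_option autoImplicit false

namespace Cfsg.Agent.H701.L16

section
variable {L : Type*} [AddCommGroup L]

/-- the sum of the `X i` over the bits of `n` below `N` -/
def ph (X : ℕ → L) (N n : ℕ) : L := ∑ i ∈ Finset.range N, if n.testBit i then X i else 0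

theorem ph_zero (X : ℕ → L) (N : ℕ) : ph X N 0 = 0 := by
  unfold ph
  exact Finset.sum_eq_zero fun i _ => by simp

theorem ph_xor (h2 : ∀ x : L, x + x = 0) (X : ℕ → L) (N a b : ℕ) : ph X N (a ^^^ b) = ph X N a + ph X N b := by
  unfold ph
  rw [← Finset.sum_add_distrib]
  refine Finset.sum_congr rfl fun i _ => ?_
  rw [Nat.testBit_xor]
  cases a.testBit i <;> cases b.testBit i <;> simp [h2]

theorem ph_congr {X Y : ℕ → L} {N : ℕ} (h : ∀ i < N, X i = Y i) (n : ℕ) : ph X N n = ph Y N n :=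
  Finset.sum_congr rfl fun i hi => by rw [h i (Finset.mem_range.1 hi)]

theorem ph_mono (X : ℕ → L) {M N n : ℕ} (hn : n < 2 ^ M) (hMN : M ≤ N) : ph X N n = ph X M n := by
  unfold ph
  symm
  refine Finset.sum_subset (Finset.range_subset_range.2 hMN) fun i _ hi => ?_
  rw [Finset.mem_range, not_lt] at hi
  rw [Nat.testBit_lt_two_pow (hn.trans_le (Nat.pow_le_pow_right (by norm_num) hi))]
  simp

theorem ph_shift (X : ℕ → L) (N m n : ℕ) : ph X (N + m) (n <<< m) = ph (fun i => X (i + m)) N n := by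
  unfold ph
  rw [add_comm N m, Finset.sum_range_add]
  rw [Finset.sum_eq_zero (s := Finset.range m), zero_add]
  · refine Finset.sum_congr rfl fun i _ => ?_
    rw [Nat.testBit_shiftLeft]
    simp [add_comm m i]
  · intro i hi
    rw [Finset.mem_range] at hi
    rw [Nat.testBit_shiftLeft]
    simp [not_le.2 hi]

theorem ph_two_pow (X : ℕ → L) {N i : ℕ} (hi : i < N) : ph X N (1 <<< i) = X i := by
  obtain ⟨k, rfl⟩ : ∃ k, N = (k + 1) + i := ⟨N - i - 1, by omega⟩
  rw [ph_shift]
  unfold ph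
  rw [Finset.sum_eq_single 0]
  · simp
  · intro b _ hb
    have : Nat.testBit 1 b = false := by
      rw [← pow_zero 2, Nat.testBit_two_pow]
      simp [Ne.symm hb]
    simp [this]
  · simp

/-- one step of the binary recursion -/
theorem ph_succ (X : ℕ → L) (f n : ℕ) :
    ph X (f + 1) n = (if n % 2 = 1 then X 0 else 0) + ph (fun i => X (i + 1)) f (n / 2) := by
  unfold ph
  rw [Finset.sum_range_succ']
  rw [add_comm]
  congr 1
  · rw [Nat.testBit_zero]
    simp
  · refine Finset.sum_congr rfl fun i _ => ?_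
    rw [Nat.testBit_succ]

/-- additive functions of `ph` -/
theorem ph_map {M : Type*} [AddCommGroup M] (T : L →+ M) (X : ℕ → L) (N n : ℕ) :
    T (ph X N n) = ph (fun i => T (X i)) N n := by
  unfold ph
  rw [map_sum]
  refine Finset.sum_congr rfl fun i _ => ?_
  split
  · rfl
  · exact map_zero T

/-! ### xor of a selection -/

/-- the xor of the elements of `l` at the bits of `K` -/
noncomputable def xs (l : List ℕ) : ℕ → ℕ :=
  List.rec (fun _ => 0)
    (fun r _ ih K => Nat.xor (bif Nat.beq (Nat.mod K 2) 1 then r else 0) (ih (Nat.div K 2))) l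

theorem ph_xs (h2 : ∀ x : L, x + x = 0) (X : ℕ → L) (N : ℕ) :
    ∀ (l : List ℕ) (_ : ∀ r ∈ l, ph X N r = 0) (K : ℕ), ph X N (xs l K) = 0
  | [], _, _ => ph_zero X N
  | r :: l, h, K => by
    have h1 : ph X N (xs (r :: l) K) = ph X N ((bif Nat.beq (Nat.mod K 2) 1 then r else 0) ^^^ xs l (Nat.div K 2)) := rfl
    rw [h1, ph_xor h2, ph_xs h2 X N l (fun s hs => h s (List.mem_cons_of_mem _ hs)), add_zero]
    cases Nat.beq (Nat.mod K 2) 1
    · exact ph_zero X N
    · exact h r List.mem_cons_self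

/-- the xor of the `1 <<< f o`, `o ∈ l` -/
noncomputable def xb (f : ℕ → ℕ) (l : List ℕ) : ℕ :=
  List.rec 0 (fun o _ ih => Nat.xor (Nat.shiftLeft 1 (f o)) ih) l

theorem ph_xb (h2 : ∀ x : L, x + x = 0) (X : ℕ → L) (N : ℕ) (f : ℕ → ℕ) :
    ∀ (l : List ℕ) (_ : ∀ o ∈ l, f o < N), ph X N (xb f l) = (l.map fun o => X (f o)).sum
  | [], _ => ph_zero X N
  | o :: l, h => by
    have h1 : ph X N (xb f (o :: l)) = ph X N ((1 <<< f o) ^^^ xb f l) := rfl
    rw [h1, ph_xor h2, ph_two_pow X (h o List.mem_cons_self), ph_xb h2 X N f l fun s hs => h s (List.mem_cons_of_mem _ hs),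
      List.map_cons, List.sum_cons]

/-- the xor of the `g i`, `i` a bit of `n`, starting at `i`, with fuel `f` -/
noncomputable def adl (g : ℕ → ℕ) (f : ℕ) : ℕ → ℕ → ℕ :=
  Nat.rec (fun _ _ => 0)
    (fun _ ih i n => Nat.xor (bif Nat.beq (Nat.mod n 2) 1 then g i else 0) (ih (Nat.succ i) (Nat.div n 2))) f

theorem ph_adl (h2 : ∀ x : L, x + x = 0) {M : Type*} [AddCommGroup M] (T : M →+ L) (X : ℕ → M) (Y : ℕ → L) (N : ℕ)
    (g : ℕ → ℕ) : ∀ (f i n : ℕ) (_ : ∀ j < f, T (X (i + j)) = ph Y N (g (i + j))),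
    ph Y N (adl g f i n) = T (ph (fun j => X (i + j)) f n)
  | 0, _, _, _ => by
    unfold ph
    simp [adl]
  | f + 1, i, n, h => by
    have h1 : ph Y N (adl g (f + 1) i n) =
        ph Y N ((bif Nat.beq (Nat.mod n 2) 1 then g i else 0) ^^^ adl g f (Nat.succ i) (Nat.div n 2)) := rfl
    have h3 : (fun j => X (i + (j + 1))) = fun j => X (i.succ + j) := by
      funext j
      rw [Nat.succ_eq_add_one, add_assoc, add_comm j 1]
    rw [h1, ph_xor h2, ph_adl h2 T X Y N g f (Nat.succ i) (Nat.div n 2) fun j hj => by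
      have := h (j + 1) (by omega)
      rwa [show i + (j + 1) = i.succ + j by rw [Nat.succ_eq_add_one]; omega] at this,
      ph_succ, map_add, h3]
    congr 1
    by_cases hn : n % 2 = 1
    · have : Nat.beq (Nat.mod n 2) 1 = true := by rw [Nat.beq_eq]; exact hn
      rw [this, if_pos hn]
      exact (h 0 (by omega)).symm
    · have : Nat.beq (Nat.mod n 2) 1 = false := by
        rw [← Bool.not_eq_true, Nat.beq_eq]
        exact hn
      rw [this, if_neg hn, map_zero]
      exact ph_zero Y N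

/-! ### the bracket of two vectors given by 37 bits -/

/-- the number of the bracket of two vectors (37 bits each): rows `k`, columns `j > k`, bit `37 k + j` -/
noncomputable def wd (f : ℕ) : ℕ → ℕ → ℕ → ℕ :=
  Nat.rec (fun _ _ _ => 0)
    (fun _ ih o u w => Nat.xor (Nat.shiftLeft (Nat.xor (bif Nat.beq (Nat.mod u 2) 1 then Nat.div w 2 else 0)
      (bif Nat.beq (Nat.mod w 2) 1 then Nat.div u 2 else 0)) (Nat.succ o)) (ih (Nat.add o 38) (Nat.div u 2) (Nat.div w 2))) f

theorem cond_beq {n : ℕ} (a b : ℕ) : (bif Nat.beq (Nat.mod n 2) 1 then a else b) = if n % 2 = 1 then a else b := by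
  by_cases hn : n % 2 = 1
  · have : Nat.beq (Nat.mod n 2) 1 = true := by rw [Nat.beq_eq]; exact hn
    rw [this, if_pos hn]
    rfl
  · have : Nat.beq (Nat.mod n 2) 1 = false := by
      rw [← Bool.not_eq_true, Nat.beq_eq]
      exact hn
    rw [this, if_neg hn]
    rfl

/-- the brackets of the `X i`, `i < 37`, as one sequence -/
def bX (br : L →+ L →+ L) (X : ℕ → L) (m : ℕ) : L := br (X (m / 37)) (X (m % 37))

theorem ph_wd (h2 : ∀ x : L, x + x = 0) (br : L →+ L →+ L) (alt : ∀ x, br x x = 0) (sym : ∀ x y, br x y = br y x)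
    (X : ℕ → L) : ∀ (f k u w : ℕ) (_ : k + f = 37) (_ : u < 2 ^ f) (_ : w < 2 ^ f),
    ph (bX br X) 1369 (wd f (38 * k) u w) = br (ph (fun j => X (k + j)) f u) (ph (fun j => X (k + j)) f w)
  | 0, k, u, w, _, _, _ => by
    unfold ph
    simp [wd]
  | f + 1, k, u, w, hk, hu, hw => by
    have h1 : ph (bX br X) 1369 (wd (f + 1) (38 * k) u w) =
        ph (bX br X) 1369 ((((bif Nat.beq (Nat.mod u 2) 1 then w / 2 else 0) ^^^
          (bif Nat.beq (Nat.mod w 2) 1 then u / 2 else 0)) <<< (38 * k + 1)) ^^^ wd f (38 * k + 38) (u / 2) (w / 2)) := rfl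
    have h3 : (fun j => X (k + (j + 1))) = fun j => X (k + 1 + j) := by
      funext j
      rw [add_assoc, add_comm j 1]
    have hu' : u / 2 < 2 ^ f := by
      rw [Nat.div_lt_iff_lt_mul (by norm_num), ← pow_succ]
      exact hu
    have hw' : w / 2 < 2 ^ f := by
      rw [Nat.div_lt_iff_lt_mul (by norm_num), ← pow_succ]
      exact hw
    have key : ∀ z < 2 ^ f, ph (bX br X) 1369 (z <<< (38 * k + 1)) = br (X k) (ph (fun j => X (k + 1 + j)) f z) := by
      intro z hz
      have h4 : 1369 = (1369 - (38 * k + 1)) + (38 * k + 1) := by omega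
      rw [h4, ph_shift, ph_mono _ hz (by omega), ph_map]
      refine ph_congr (fun j hj => ?_) z
      unfold bX
      rw [show (j + (38 * k + 1)) / 37 = k by omega, show (j + (38 * k + 1)) % 37 = k + 1 + j by omega]
    rw [h1, ph_xor h2, show 38 * k + 38 = 38 * (k + 1) by ring,
      ph_wd h2 br alt sym X f (k + 1) (u / 2) (w / 2) (by omega) hu' hw', cond_beq, cond_beq,
      ph_succ (fun j => X (k + j)) f u, ph_succ (fun j => X (k + j)) f w, h3, add_zero]
    set P := ph (fun j => X (k + 1 + j)) f (u / 2) with hP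
    set Q := ph (fun j => X (k + 1 + j)) f (w / 2) with hQ
    have hz : ∀ z < 2 ^ f, ∀ z' < 2 ^ f, ph (bX br X) 1369 ((z ^^^ z') <<< (38 * k + 1)) =
        br (X k) (ph (fun j => X (k + 1 + j)) f z) + br (X k) (ph (fun j => X (k + 1 + j)) f z') := by
      intro z hz z' hz'
      rw [key _ (Nat.xor_lt_two_pow hz hz'), ph_xor h2, map_add]
    have h0 : (0 : ℕ) < 2 ^ f := by positivity
    by_cases hu1 : u % 2 = 1 <;> by_cases hw1 : w % 2 = 1 <;>
      simp only [hu1, hw1, if_true, if_false, hz _ hw' _ hu', hz _ hw' _ h0, hz _ h0 _ hu', hz _ h0 _ h0, ph_zero, ← hP,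
        ← hQ, map_add, map_zero, AddMonoidHom.add_apply, alt, AddMonoidHom.zero_apply, zero_add, add_zero] <;>
      rw [sym P (X k)] <;> abel

end

end Cfsg.Agent.H701.L16
end

-- part: H701/L16/F16
section
/-!
# the field of 16 elements by numbers below 16 (helper701, for S5916)
-/

set_option autoImplicit false

namespace Cfsg.Agent.H701.L16

/-- the multiplication table -/
def T16 : ℕ := 0xa5783ce1b4692df05ba48679c23d1fe07ae36bf258c149d0843fd16a2e957bc0386d92c74f1ae5b0c6b1285f394ed7a0e7f6c5d4a3b28190192a7f4cd5e6b380bc5243ad618f9e70428ef93517dbac6063c914be8d27fa509d15ae26fb73c8402147ed8b9afc5630df9b5713eca86420fedcba98765432100000000000000000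

/-- the multiplication of the field `F₂[ω]`, `ω⁴ = ω + 1` -/
noncomputable def m16 (a b : ℕ) : ℕ := Nat.mod (Nat.shiftRight T16 (Nat.mul 4 (Nat.add a (Nat.mul 16 b)))) 16

theorem m16_lt (a b : ℕ) : m16 a b < 16 := Nat.mod_lt _ (by norm_num)

/-- multiplication by `ω` -/
def Xm (b : ℕ) : ℕ := (2 * b) ^^^ (if 8 ≤ b then 19 else 0)

theorem m16_adl : ∀ a < 16, ∀ b < 16, m16 a b = adl (fun i => Xm^[i] b) 4 0 a := by decide +kernel

theorem Xm_lt : ∀ i < 4, ∀ b < 16, Xm^[i] b < 16 := by decide +kernel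

theorem inv_ex : ∀ n < 16, n ≠ 0 → ∃ m < 16, m16 n m = 1 := by decide +kernel

section
variable {F : Type*} [Field F] {w : F}

/-- the element with the number `n` -/
def dec (w : F) (n : ℕ) : F := ph (fun i => w ^ i) 4 n

theorem dec_xor (h2 : ∀ x : F, x + x = 0) (a b : ℕ) : dec w (a ^^^ b) = dec w a + dec w b := ph_xor h2 _ _ _ _

theorem dec_zero : dec w 0 = 0 := ph_zero _ _

theorem dec_one : dec w 1 = 1 := by
  have := ph_two_pow (fun i => w ^ i) (N := 4) (i := 0) (by norm_num)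
  exact this.trans (pow_zero w)

theorem dec_two : dec w 2 = w := by
  have := ph_two_pow (fun i => w ^ i) (N := 4) (i := 1) (by norm_num)
  exact this.trans (pow_one w)

theorem dec_Xm (h2 : ∀ x : F, x + x = 0) (hw : w ^ 4 = w + 1) {b : ℕ} (hb : b < 16) :
    dec w (Xm b) = w * dec w b := by
  have h2' : (2 : F) = 0 := by
    have := h2 1
    rw [← this]; norm_num
  unfold dec ph Xm
  interval_cases b <;> simp only [Finset.sum_range_succ, Nat.testBit, Nat.shiftRight_eq_div_pow, _root_.MulZeroClass.mul_zero, _root_.nonpos_iff_eq_zero, _root_.OfNat.ofNat_ne_zero, ↓ _root_.reduceIte, _root_.Nat.xor_self, _root_.Nat.zero_div, _root_.Nat.and_zero, _root_.bne_self_eq_false, _root_.Bool.false_eq_true, _root_.Finset.sum_const_zero, _root_.mul_one, _root_.Nat.not_ofNat_le_one, _root_.Nat.xor_zero, _root_.Nat.one_and_eq_mod_two, _root_.Nat.mod_two_bne_zero, _root_.beq_iff_eq, _root_.Finset.range_one, _root_.Finset.sum_singleton, _root_.pow_zero, _root_.Nat.div_one,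 _root_.Nat.mod_self, _root_.zero_ne_one, _root_.pow_one, _root_.Order.lt_two_iff, _root_.zero_le, _root_.Nat.div_self, _root_.Nat.mod_succ, _root_.zero_add, _root_.Nat.reducePow, _root_.Nat.reduceDiv, _root_.Nat.zero_mod, _root_.add_zero, _root_.Order.lt_one_iff, _root_.Nat.reduceMul, _root_.Nat.reduceLeDiff, _root_.Nat.reduceMod, _root_.Nat.ofNat_pos, _root_.Std.le_refl, _root_.Nat.reduceXor] <;>
    first | ring1 | linear_combination -hw | linear_combination -hw - w * h2'

theorem dec_m16 (h2 : ∀ x : F, x + x = 0) (hw : w ^ 4 = w + 1) {a b : ℕ} (ha : a < 16) (hb : b < 16) :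
    dec w (m16 a b) = dec w a * dec w b := by
  rw [m16_adl a ha b hb]
  have key : ∀ i < 4, dec w (Xm^[i] b) = w ^ i * dec w b := by
    intro i hi
    induction i with
    | zero => simp
    | succ i ih =>
      rw [Function.iterate_succ_apply', dec_Xm h2 hw (Xm_lt i (by omega) b hb), ih (by omega)]
      ring
  have h := ph_adl (L := F) (M := F) h2 (AddMonoidHom.mulRight (dec w b)) (fun i => w ^ i) (fun i => w ^ i) 4
    (fun i => Xm^[i] b) 4 0 a (fun j hj => by
      rw [zero_add]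
      exact (key j hj).symm)
  refine Eq.trans h ?_
  simp only [zero_add]
  rfl

theorem dec_ne (h2 : ∀ x : F, x + x = 0) (hw : w ^ 4 = w + 1) {n : ℕ} (hn : n < 16) (h0 : n ≠ 0) : dec w n ≠ 0 := by
  obtain ⟨m, hm, h⟩ := inv_ex n hn h0
  intro h1
  have := dec_m16 h2 hw hn hm
  rw [h, h1, zero_mul, dec_one] at this
  exact one_ne_zero this

theorem dec_inj (h2 : ∀ x : F, x + x = 0) (hw : w ^ 4 = w + 1) {a b : ℕ} (ha : a < 16) (hb : b < 16)
    (h : dec w a = dec w b) : a = b := by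
  by_contra hab
  have h1 : a ^^^ b ≠ 0 := fun h => hab (Nat.xor_eq_zero_iff.1 h)
  refine dec_ne h2 hw (Nat.xor_lt_two_pow (n := 4) ha hb) h1 ?_
  rw [dec_xor h2, h, h2]

theorem dec_surj [Fintype F] (h2 : ∀ x : F, x + x = 0) (hw : w ^ 4 = w + 1) (hF : Fintype.card F = 16) (x : F) :
    ∃ n < 16, dec w n = x := by
  classical
  have h1 : (Finset.image (dec w) (Finset.range 16)) = Finset.univ := by
    rw [← Finset.card_eq_iff_eq_univ, Finset.card_image_of_injOn, Finset.card_range, hF]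
    intro a ha b hb h
    exact dec_inj h2 hw (by simpa using ha) (by simpa using hb) h
  have h3 : x ∈ Finset.image (dec w) (Finset.range 16) := by rw [h1]; exact Finset.mem_univ x
  obtain ⟨n, hn, h⟩ := Finset.mem_image.1 h3
  exact ⟨n, Finset.mem_range.1 hn, h⟩

/-! ### vectors and matrices -/

/-- the action of the matrix with the number `g` on the vector with the number `v` -/
noncomputable def act (g v : ℕ) : ℕ :=
  Nat.add (Nat.xor (m16 (Nat.mod g 16) (Nat.mod v 16)) (m16 (Nat.mod (Nat.div g 16) 16) (Nat.div v 16)))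
    (Nat.mul 16 (Nat.xor (m16 (Nat.mod (Nat.div g 256) 16) (Nat.mod v 16)) (m16 (Nat.div g 4096) (Nat.div v 16))))

/-- the determinant -/
noncomputable def dt (g : ℕ) : ℕ :=
  Nat.xor (m16 (Nat.mod g 16) (Nat.div g 4096)) (m16 (Nat.mod (Nat.div g 16) 16) (Nat.mod (Nat.div g 256) 16))

/-- the symplectic form -/
noncomputable def om (v u : ℕ) : ℕ :=
  Nat.xor (m16 (Nat.mod v 16) (Nat.div u 16)) (m16 (Nat.div v 16) (Nat.mod u 16))

theorem xor_lt {a b : ℕ} (ha : a < 16) (hb : b < 16) : Nat.xor a b < 16 := Nat.xor_lt_two_pow (n := 4) ha hb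

theorem act_lt (g v : ℕ) : act g v < 256 := by
  have h1 := xor_lt (m16_lt (Nat.mod g 16) (Nat.mod v 16)) (m16_lt (Nat.mod (Nat.div g 16) 16) (Nat.div v 16))
  have h2 := xor_lt (m16_lt (Nat.mod (Nat.div g 256) 16) (Nat.mod v 16)) (m16_lt (Nat.div g 4096) (Nat.div v 16))
  show (Nat.xor _ _) + 16 * (Nat.xor _ _) < 256
  omega

theorem dec_om (h2 : ∀ x : F, x + x = 0) (hw : w ^ 4 = w + 1) {v u : ℕ} (hv : v < 256) (hu : u < 256) :
    dec w (om v u) = dec w (v % 16) * dec w (u / 16) + dec w (v / 16) * dec w (u % 16) := by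
  have h := dec_xor (w := w) h2 (m16 (v % 16) (u / 16)) (m16 (v / 16) (u % 16))
  rw [dec_m16 h2 hw (by omega) (by omega), dec_m16 h2 hw (by omega) (by omega)] at h
  exact h

variable {L : Type*} [AddCommGroup L]

/-- the vectors by numbers -/
def cc (w : F) (c : F → F → L) (v : ℕ) : L := c (dec w (v % 16)) (dec w (v / 16))

omit [AddCommGroup L] in
theorem cc_act (h2 : ∀ x : F, x + x = 0) (hw : w ^ 4 = w + 1) (c : F → F → L) {g v : ℕ} (hg : g < 65536) (hv : v < 256) :
    cc w c (act g v) = c (dec w (g % 16) * dec w (v % 16) + dec w (g / 16 % 16) * dec w (v / 16))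
      (dec w (g / 256 % 16) * dec w (v % 16) + dec w (g / 4096) * dec w (v / 16)) := by
  have h1 := xor_lt (m16_lt (Nat.mod g 16) (Nat.mod v 16)) (m16_lt (Nat.mod (Nat.div g 16) 16) (Nat.div v 16))
  have h3 : act g v % 16 = m16 (g % 16) (v % 16) ^^^ m16 (g / 16 % 16) (v / 16) := by
    show ((Nat.xor _ _) + 16 * (Nat.xor _ _)) % 16 = Nat.xor _ _
    rw [Nat.add_mul_mod_self_left]
    exact Nat.mod_eq_of_lt h1
  have h4 : act g v / 16 = m16 (g / 256 % 16) (v % 16) ^^^ m16 (g / 4096) (v / 16) := by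
    show ((Nat.xor _ _) + 16 * (Nat.xor _ _)) / 16 = Nat.xor _ _
    rw [Nat.add_mul_div_left _ _ (by norm_num)]
    have : Nat.xor (m16 (Nat.mod g 16) (Nat.mod v 16)) (m16 (Nat.mod (Nat.div g 16) 16) (Nat.div v 16)) / 16 = 0 :=
      Nat.div_eq_of_lt h1
    rw [this, zero_add]
    rfl
  unfold cc
  rw [h3, h4, dec_xor h2, dec_xor h2, dec_m16 h2 hw (by omega) (by omega), dec_m16 h2 hw (by omega) (by omega),
    dec_m16 h2 hw (by omega) (by omega), dec_m16 h2 hw (by omega) (by omega)]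

/-! ### the base circle -/

/-- the vectors of the base circle: `y₀ᵏ v₀`, `y₀ = (0 1; 1 ω)`, `v₀ = (ω⁸, 0)` -/
def ob (w : F) : ℕ → F × F
  | 0 => (w ^ 8, 0)
  | k + 1 => ((ob w k).2, (ob w k).1 + w * (ob w k).2)

/-- the symplectic form -/
def wf (v u : F × F) : F := v.1 * u.2 + v.2 * u.1

/-- the numbers of the vectors of the base circle -/
def ON : ℕ := 0x5aa22eedd773311113377ddee22aa55005

/-- the number of `ob k` -/
noncomputable def on (k : ℕ) : ℕ := Nat.mod (Nat.shiftRight ON (Nat.mul 8 k)) 256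

theorem on_rec : on 0 = 5 ∧ ∀ k < 16, on (k + 1) % 16 = on k / 16 ∧ on (k + 1) / 16 = (on k % 16) ^^^ m16 2 (on k / 16) := by
  decide +kernel

theorem on_lt (k : ℕ) : on k < 256 := Nat.mod_lt _ (by norm_num)

theorem ob_eq (h2 : ∀ x : F, x + x = 0) (hw : w ^ 4 = w + 1) : ∀ k < 17, ob w k = (dec w (on k % 16), dec w (on k / 16))
  | 0, _ => by
    have h2' : (2 : F) = 0 := by
      have := h2 1
      rw [← this]; norm_num
    rw [on_rec.1]
    show (w ^ 8, (0 : F)) = (dec w 5, dec w 0)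
    rw [dec_zero]
    have h5 : dec w 5 = 1 + w ^ 2 := by
      have := dec_xor (w := w) h2 1 4
      have h4 := ph_two_pow (fun i => w ^ i) (N := 4) (i := 2) (by norm_num)
      have h4' : dec w 4 = w ^ 2 := h4
      rw [dec_one, h4'] at this
      exact this
    rw [h5]
    congr 1
    linear_combination (w ^ 4 + w + 1) * hw + w * h2'
  | k + 1, hk => by
    obtain ⟨h3, h4⟩ := on_rec.2 k (by omega)
    show ((ob w k).2, (ob w k).1 + w * (ob w k).2) = _
    rw [ob_eq h2 hw k (by omega), h3, h4, dec_xor h2, dec_m16 h2 hw (by norm_num)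
      (by have := on_lt k; omega), dec_two]

end

end Cfsg.Agent.H701.L16
end

-- part: H701/L16/UniA
section
/-!
# S5916, `i = 1`: the linear relations of the log vectors (helper701)

The 255 log vectors `c v`, `v ∈ F² - 0`, are sums of 37 of them (type R).
-/

set_option autoImplicit false
set_option maxRecDepth 100000

namespace Cfsg.Agent.H701.L16

/-! ### relations from the group elements with the numbers `g` -/

section
variable {F : Type*} [Field F] {w : F} {L : Type*} [AddCommGroup L]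

/-- the action of a matrix -/
def gv (a b c d : F) (v : F × F) : F × F := (a * v.1 + b * v.2, c * v.1 + d * v.2)

/-- `c (g v)` -/
def cg (c : F → F → L) (a b e d : F) (v : F × F) : L := c (gv a b e d v).1 (gv a b e d v).2

omit [AddCommGroup L] in
theorem cc_lt (c : F → F → L) (h2 : ∀ x : F, x + x = 0) (hw : w ^ 4 = w + 1) {g k : ℕ} (hg : g < 65536) (hk : k < 17) :
    cc w c (act g (on k)) =
      cg c (dec w (g % 16)) (dec w (g / 16 % 16)) (dec w (g / 256 % 16)) (dec w (g / 4096)) (ob w k) := by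
  rw [cc_act h2 hw c hg (on_lt k)]
  unfold cg gv
  rw [ob_eq h2 hw k hk]

theorem dec_dt (h2 : ∀ x : F, x + x = 0) (hw : w ^ 4 = w + 1) {g : ℕ} (hg : g < 65536) (hd : dt g = 1) :
    dec w (g % 16) * dec w (g / 4096) + dec w (g / 16 % 16) * dec w (g / 256 % 16) = 1 := by
  have h := dec_xor (w := w) h2 (m16 (g % 16) (g / 4096)) (m16 (g / 16 % 16) (g / 256 % 16))
  rw [dec_m16 h2 hw (by omega) (by omega), dec_m16 h2 hw (by omega) (by omega)] at h
  have h1 : m16 (g % 16) (g / 4096) ^^^ m16 (g / 16 % 16) (g / 256 % 16) = 1 := hd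
  rw [h1, dec_one] at h
  exact h.symm

theorem wf_ob (h2 : ∀ x : F, x + x = 0) (hw : w ^ 4 = w + 1) {i j : ℕ} (hi : i < 17) (hj : j < 17) :
    wf (ob w i) (ob w j) = dec w (om (on i) (on j)) := by
  rw [ob_eq h2 hw i hi, ob_eq h2 hw j hj, dec_om h2 hw (on_lt i) (on_lt j)]
  rfl

theorem om_lt (v u : ℕ) : om v u < 16 := xor_lt (m16_lt _ _) (m16_lt _ _)

theorem typeR_num : ∀ k < 17, m16 (m16 (om (on 0) (on k)) (om (on 0) (on k))) (m16 (om (on 0) (on k)) (om (on 0) (on k))) =
    om (on 0) (on k) ^^^ 1 ↔ k ∈ [1, 2, 4, 8, 9, 13, 15, 16] := by decide +kernel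

theorem typeR (h2 : ∀ x : F, x + x = 0) (hw : w ^ 4 = w + 1) {k : ℕ} (hk : k < 17) :
    wf (ob w 0) (ob w k) ^ 4 = wf (ob w 0) (ob w k) + 1 ↔ k ∈ [1, 2, 4, 8, 9, 13, 15, 16] := by
  rw [wf_ob h2 hw (by norm_num) hk, ← typeR_num k hk]
  have hs := om_lt (on 0) (on k)
  set s := om (on 0) (on k)
  have h4 : dec w s ^ 4 = dec w (m16 (m16 s s) (m16 s s)) := by
    rw [dec_m16 h2 hw (m16_lt _ _) (m16_lt _ _), dec_m16 h2 hw hs hs]
    ring
  rw [h4, ← dec_one (w := w), ← dec_xor h2]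
  exact ⟨fun h => dec_inj h2 hw (m16_lt _ _) (Nat.xor_lt_two_pow (n := 4) hs (by norm_num)) h, fun h => by rw [h]⟩

theorem typeN_num : ∀ k < 17, (m16 (m16 (om (on 0) (on k)) (om (on 0) (on k))) (m16 (om (on 0) (on k)) (om (on 0) (on k))) ^^^
    (m16 (m16 (om (on 0) (on k)) (om (on 0) (on k))) (om (on 0) (on k)) ^^^ (m16 (om (on 0) (on k)) (om (on 0) (on k)) ^^^
      (om (on 0) (on k) ^^^ 1)))) = 0 ↔ k ∈ [3, 5, 6, 7, 10, 11, 12, 14] := by decide +kernel

theorem typeN (h2 : ∀ x : F, x + x = 0) (hw : w ^ 4 = w + 1) {k : ℕ} (hk : k < 17) :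
    wf (ob w 0) (ob w k) ^ 4 + wf (ob w 0) (ob w k) ^ 3 + wf (ob w 0) (ob w k) ^ 2 + wf (ob w 0) (ob w k) + 1 = 0 ↔
      k ∈ [3, 5, 6, 7, 10, 11, 12, 14] := by
  rw [wf_ob h2 hw (by norm_num) hk, ← typeN_num k hk]
  have hs := om_lt (on 0) (on k)
  set s := om (on 0) (on k)
  have h3 : dec w (m16 (m16 s s) (m16 s s) ^^^ (m16 (m16 s s) s ^^^ (m16 s s ^^^ (s ^^^ 1)))) =
      dec w s ^ 4 + dec w s ^ 3 + dec w s ^ 2 + dec w s + 1 := by
    rw [dec_xor h2, dec_xor h2, dec_xor h2, dec_xor h2, dec_m16 h2 hw (m16_lt _ _) (m16_lt _ _),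
      dec_m16 h2 hw (m16_lt _ _) hs, dec_m16 h2 hw hs hs, dec_one]
    ring
  rw [← h3]
  constructor
  · intro h
    rw [← dec_zero (w := w)] at h
    refine dec_inj h2 hw ?_ (by norm_num) h
    exact Nat.xor_lt_two_pow (n := 4) (m16_lt _ _) (Nat.xor_lt_two_pow (n := 4) (m16_lt _ _)
      (Nat.xor_lt_two_pow (n := 4) (m16_lt _ _) (Nat.xor_lt_two_pow (n := 4) hs (by norm_num))))
  · intro h
    rw [h, dec_zero]

/-- the relation of the matrix `g` for the exponents in `l` -/
noncomputable def r1 (l : List ℕ) (g : ℕ) : ℕ := xb (fun k => act g (on k)) l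

theorem ph_r1 (hL : ∀ x : L, x + x = 0) (h2 : ∀ x : F, x + x = 0) (hw : w ^ 4 = w + 1) (c : F → F → L) {g : ℕ}
    (hg : g < 65536) {l : List ℕ} (hl : ∀ k ∈ l, k < 17) : ph (cc w c) 256 (r1 l g) =
      (l.map fun k => cg c (dec w (g % 16)) (dec w (g / 16 % 16)) (dec w (g / 256 % 16)) (dec w (g / 4096)) (ob w k)).sum := by
  unfold r1
  rw [ph_xb hL _ _ _ _ fun o _ => act_lt g (on o)]
  congr 1
  exact List.map_congr_left fun k hk => cc_lt c h2 hw hg (hl k hk)

/-- **the linear relations of type R** -/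
def RR [DecidableEq F] (w : F) (c : F → F → L) : Prop := ∀ a b e d : F, a * d + b * e = 1 →
  (∑ k ∈ Finset.range 17, if wf (ob w 0) (ob w k) ^ 4 = wf (ob w 0) (ob w k) + 1 then cg c a b e d (ob w k) else 0) = 0

/-- **the linear relations of type N** -/
def RN [DecidableEq F] (w : F) (c : F → F → L) : Prop := ∀ a b e d : F, a * d + b * e = 1 →
  (∑ k ∈ Finset.range 17, if wf (ob w 0) (ob w k) ^ 4 + wf (ob w 0) (ob w k) ^ 3 + wf (ob w 0) (ob w k) ^ 2 +
    wf (ob w 0) (ob w k) + 1 = 0 then cg c a b e d (ob w k) else 0) = 0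

theorem sum_if (h : ℕ → L) (l : List ℕ) (hl : l.Nodup) (hb : ∀ k ∈ l, k < 17) :
    (∑ k ∈ Finset.range 17, if k ∈ l then h k else 0) = (l.map h).sum := by
  rw [← Finset.sum_filter]
  have : (Finset.range 17).filter (fun k => k ∈ l) = l.toFinset := by
    ext k
    simp only [Finset.mem_filter, Finset.mem_range, List.mem_toFinset]
    exact ⟨fun h => h.2, fun h => ⟨hb k h, h⟩⟩
  rw [this, List.sum_toFinset _ hl]

theorem rr_num [DecidableEq F] (hL : ∀ x : L, x + x = 0) (h2 : ∀ x : F, x + x = 0) (hw : w ^ 4 = w + 1)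
    (c : F → F → L) (hr : RR w c) {g : ℕ} (hg : g < 65536) (hd : dt g = 1) :
    ph (cc w c) 256 (r1 [1, 2, 4, 8, 9, 13, 15, 16] g) = 0 := by
  rw [ph_r1 hL h2 hw c hg (by decide), ← sum_if _ _ (by decide) (by decide)]
  refine Eq.trans (Finset.sum_congr rfl fun k hk => ?_) (hr _ _ _ _ (dec_dt h2 hw hg hd))
  exact if_congr (typeR h2 hw (Finset.mem_range.1 hk)).symm rfl rfl

theorem rn_num [DecidableEq F] (hL : ∀ x : L, x + x = 0) (h2 : ∀ x : F, x + x = 0) (hw : w ^ 4 = w + 1)
    (c : F → F → L) (hr : RN w c) {g : ℕ} (hg : g < 65536) (hd : dt g = 1) :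
    ph (cc w c) 256 (r1 [3, 5, 6, 7, 10, 11, 12, 14] g) = 0 := by
  rw [ph_r1 hL h2 hw c hg (by decide), ← sum_if _ _ (by decide) (by decide)]
  refine Eq.trans (Finset.sum_congr rfl fun k hk => ?_) (hr _ _ _ _ (dec_dt h2 hw hg hd))
  exact if_congr (typeN h2 hw (Finset.mem_range.1 hk)).symm rfl rfl

end

/-- a check along a list with a running index -/
noncomputable def ck (p : ℕ → ℕ → Bool) (l : List ℕ) : ℕ → Bool :=
  List.rec (fun _ => true) (fun K _ ih v => and (p v K) (ih (Nat.succ v))) l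

theorem ck_spec (p : ℕ → ℕ → Bool) : ∀ (l : List ℕ) (v : ℕ) (_ : ck p l v = true) (i : ℕ) (hi : i < l.length),
    p (v + i) l[i] = true
  | [], _, _, i, hi => absurd hi (by simp)
  | K :: l, v, h, i, hi => by
    have h1 : and (p v K) (ck p l (Nat.succ v)) = true := h
    rw [Bool.and_eq_true] at h1
    cases i with
    | zero => exact h1.1
    | succ i =>
      have := ck_spec p l _ h1.2 i (by simpa using hi)
      rw [show v + (i + 1) = v.succ + i by rw [Nat.succ_eq_add_one]; omega]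
      exact this

/-! ### type R -/

/-- the matrices of the relations -/
def G1 : List ℕ := [
  0x110, 0x1110, 0x4110, 0x5110, 0x8110, 0x9110, 0xc110, 0xd110, 0x920, 0x2920, 0x4920, 0x6920, 0x8920, 0xa920,
  0xc920, 0xe920, 0xe30, 0x1e30, 0x2e30, 0x3e30, 0x4e30, 0x5e30, 0x6e30, 0x7e30, 0xd40, 0x1d40, 0x2d40, 0x3d40,
  0x4d40, 0x5d40, 0x6d40, 0x7d40, 0xb50, 0x1b50, 0x2b50, 0x3b50, 0x8b50, 0x9b50, 0xab50, 0x760, 0x1760, 0x2760,
  0x3760, 0x4760, 0x5760, 0x6760, 0x7760, 0x670, 0x1670, 0x2670, 0x3670, 0x4670, 0x5670, 0x6670, 0x7670, 0xf80,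
  0x1f80, 0x2f80, 0x3f80, 0x4f80, 0x5f80, 0x6f80, 0x7f80, 0x290, 0x1290, 0x2290, 0x3290, 0x8290, 0x9290, 0xa290,
  0xb290, 0xca0, 0x1ca0, 0x2ca0, 0x3ca0, 0x4ca0, 0x5ca0, 0x6ca0, 0x5b0, 0x15b0, 0x25b0, 0x35b0, 0x45b0, 0x65b0,
  0xac0, 0x1ac0, 0x2ac0, 0x8ac0, 0x9ac0, 0x4d0, 0x14d0, 0x24d0, 0x44d0, 0x3e0, 0x13e0, 0x23e0, 0x83e0, 0x8f0, 0x18f0,
  0x1001, 0x1101, 0x1201, 0x1301, 0x1401, 0x1501, 0x1601, 0x1701, 0x1801, 0x1901, 0x1a01, 0x1b01, 0x1c01, 0x1d01,
  0x1e01, 0x1f01, 0x1011, 0x111, 0x3211, 0x2311, 0x5411, 0x4511, 0x7611, 0x6711, 0x9811, 0x8911, 0xba11, 0xab11,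
  0xdc11, 0xcd11, 0xfe11, 0x1041, 0x5141, 0x9241, 0xd341, 0x2441, 0x6541, 0xa641, 0xe741, 0x7841, 0x3941, 0xfa41,
  0x4c41, 0x1051, 0x4151, 0xb251, 0xe351, 0x6451, 0x3551, 0xc651, 0x9751, 0xf851, 0xa951, 0x5a51, 0xb51, 0x8c51,
  0xdd51, 0x2e51, 0x1081, 0x9181, 0x2281, 0xa381, 0x7481, 0xf581, 0x4681, 0xd881, 0xea81, 0xbc81, 0x1091, 0x8191,
  0x291, 0x9391, 0x3491, 0x5891, 0x10c1, 0xd1c1, 0xa2c1, 0x63c1, 0x44c1, 0xb8c1, 0x10d1, 0x9002, 0x9102, 0x9202,
  0x9302, 0x9402, 0x9602, 0x9802, 0x9902, 0x9a02, 0x9c02, 0x9012, 0x112, 0x8212, 0xb412, 0xa612, 0xd812, 0x9022,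
  0x8122, 0xb222, 0xd422, 0x1822, 0x9032, 0x9082, 0x9092, 0x292, 0x8492, 0x90a2, 0x90b2, 0xe003, 0xe023, 0xe083,
  0xd004, 0xd044, 0xb015, 0xb075, 0x7016, 0xf088, 0xc09a]

/-- the relations -/
def L1 : List ℕ := [
  0x40000000000000200000000000000000040000000002440000020020,
  0x420000000004000000000000000040000000000002000004000000200000002,
  0x4000000000200400040000000000000000220000000200000000000000004000,
  0x400000000000000000000000002000000402000000020000002044000000,
  0x2004000000400204000002000000000000000040200000000000000000, 0x2040020000000204000000400000000000000000200400,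
  0x2000000020000000000004020000000004000000004000420000000000000,
  0x40200000022000000000400400040000020000000000000000000000000,
  0x8000000000000000008000000004000400000000040000000000000080800400,
  0x400800000000080000404040000000000000080000000000000000000008000,
  0x80000000048004000000000000000004000000008000000000840000000000,
  0x4000484000000000000000000048000000000000000008000008000000000,
  0x48000000000040000000000800000008000000000800000000000040004, 0x8080000080000000000004000084000404000000,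
  0x400800000800400000000000000800400040000000000000080, 0x800000000080000000000000840404000080000400000000000000,
  0x2002000800000000000000020000000000008000000000002000000000088000,
  0x8000000000000000000002000000000000000a00000028000000000020008,
  0x8008000080000000200000000000000220000008000000000002,
  0x8000200200080000000200008000000000000000000000000000200800000000,
  0x200000000000000800000000800200000008000000000002a0000000, 0x2200800000002000020000000000080080000800000000000,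
  0x80020000800020000000000a00082000000000000000000000000000,
  0x80000000200000000000000880000000000a000000000002000000002000,
  0x200000104000008000006000000000000000000000100000000000000080,
  0x8000000010000000000000000020004000009000004000000000002000,
  0x10400000000000400000800000000000002010000000000000000020800000,
  0x2080001000000000000000000000200000100000000040800000000040000000,
  0x80000000000010000040800000000020002000400000000010, 0x60000000000020000080401000000000000000000000008000100000,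
  0x802000201000000000000000000080400000000000001000004000,
  0x4000000000000000000040100000008000000000200000000090200000000000,
  0x2000000000002000000000000000000008001800000000000400100004,
  0x30000000000000001800200000000800040000000400000000000000000000,
  0x200000000c0028000400000010000000000000001000000000,
  0x4000000240010000000000000003000080000000000080000000000000000,
  0x800140000000c000000100000000000000020000000000020000000000000, 0x400000004000000200000000000100000002800080010,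
  0x100000000000000010000000000004000000240008000000200008,
  0x20400000000000000000040020000400000000400002000000000002000, 0x400000000004000002040200002000000020000000004,
  0x200000000000000004020042200000000000000004000000000000000040000,
  0x2004000000002000000000400000000000000000020000440200000000000000,
  0x400000000000000000000420000200000020000044000000000200, 0x40240000002000000000000000004000000000000204020000000,
  0x40200020000004000000000000000002040000000000000000000002400000,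
  0x4002000000220000000004200000000000000000000000000400000040,
  0x81008000000800100100000000080000000000000000000000100, 0x100008000000000000000881008010000000000100000000000,
  0x801080000008010000000000000801100000000000000, 0x100000010000000000000001080000000000100008000000000000000080008,
  0x18000000000000000000000000001000000100000000008008810000000,
  0x1080000000000000110000000008000800000000000000000080010000000000,
  0x100001000080000010000000000000000000000801080000000000000080,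
  0x8000800800000000000000000010000000000000010000000000001801000,
  0x100000082004000000000000000000002008000000000000000010000004000,
  0x10000008000000000004200000080000000400000000300000000000000,
  0x10000000000c0000000020000004000000000000000020080000100,
  0x4000000000000300800000000000000000000200000000004000000001008000,
  0x410002000000800040000100000000008000000000000200, 0x420000000000000001008000000001000000000002000000c00000000000,
  0x8200000040000000000000000100000000000000020081000000000040000000,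
  0x800000000000020000000000410000000000810040000000000002000000, 0x200080000008000200000000a00000020000000800,
  0x2000000000000000800000000002800000080000000200080000000020,
  0x8200000008008000000000000000080000002000020000000000200,
  0x800000000000000000000000020088000200000028000000000000002000000,
  0xa0000800000002002000800000000000000002000000000000000000080,
  0x2200080000008000a0000000000000000000000000000000080000000200000,
  0x8000000000022000000000000002000000000000000800080000a000000000,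
  0x2000080000000000200002000000820000000000000000008800000, 0x400014000000100000004000000000000000040000000100010,
  0x4400000000000000000000000000400005000100100000001000000,
  0x50000000140001000100000000000000000040000400000000000000000,
  0x410001000000000000000400000000000000100000005000000004000000000,
  0x4000000000000000000000040001100050010000000400000000000000,
  0x100000001000000000000000400004000000000000000000010041000000040,
  0x100010000004000040000000000000000000000000010004400100,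
  0x800000000000100000001040000000000000000080000020000000400000002,
  0x80000000000000000000000000400000000000209000000010000020004,
  0x208040000000000020000000008000000010400000100000000000000,
  0x6000001000800010200000000000000040800000000000000000000000000,
  0x4080000000000000001020000000000040002000009000000, 0x10000020000000400000802010000000000000000000804000000000000,
  0x10000000001010000000020000120000000000020000000000000200,
  0x202021000100000000010000000000000021000000000000000000000,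
  0x1000000000000000000002000000101000000000000000100002020000000002,
  0x21000000000000200000000000200000200100000000000101000000000,
  0x10020000000000000000000000000010001200000200020010,
  0x1000000020000000000000000c0008000000000020000000000004001000,
  0x400000028000000100000000000000000000400300000000000080000000000,
  0x800240000000000000010000000000004002000000010000000000000000800,
  0x400000000001800200010000800040000000000000000002000,
  0x40000000080000000000000000000000000840400008004000000000000008,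
  0x40000008000000080800000000004840000000400000000000, 0x80000080800004040080000000000000000000040400000,
  0x800000848000000400000000040000000000000000000000008000000000040,
  0x40100000000000800000000000800000000000000000001020002000000040,
  0x200020000080409000000000000000004010000000000000000000,
  0x2004000000000000002400000000000000000401000000000000000a0000,
  0x420000000000004000000000000000400000000000100002000000800000002,
  0x400000000000000040000000020080000000100000002040000000020, 0x4000020000000040400000000002100080000000200000000,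
  0x2000000000280000040000000000000000000004000300000000000400000000,
  0x800000000000000000000002000000000000100060000200004000004, 0x400000800000000000000222004000100000000000400000000,
  0x200000000000000800000402000100040000002000000004, 0x42000000004080006000000000000000100200000000000000000,
  0x4000000000000000400000008000200000000000100000000000020200400,
  0x2004040008000200000004000000000000200100000000000000000000,
  0xc000000000000002400020000200004000000000100000000000000000000,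
  0x20020000000000000000000000000008000504000020000000040000,
  0x40000000002000000000000000000040020000900000004000000002000,
  0x2000000000000000000000020000000000000000520000400000000040008,
  0x20000002000000000240000000004000000010000000c000000000000,
  0x100800000000000081000000000000000000802000000000000000050000,
  0x80000000080000000000000000000800000000004110000010020,
  0x20000000000000000000000100800880000000100400000000000000010000, 0x800201000800080040000000000000000000001010000,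
  0x8100100000000004000000000000000000008000002800010000, 0x8000000400000000000010200000000001008000000000090000,
  0x100800000040000000000000000002000000000000000080000000080011000,
  0x4800000201000000000000000000001080000000000000000000080010000,
  0x802000000000000000000100000890000000000400010000, 0x12000000000800000000000100000000008000080000000000000010004,
  0x1000000000000000000000008000000000008004010000000008000000210000,
  0x1000000000000008000000000008000000000241000000000010008,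
  0x80000020000000040008000000000000000000000000800010010100,
  0x90000000000000080020010400000000000000000000800000010000,
  0x8008000400000000000010000000000000000020000000000100000000018000,
  0x800100000000000018000000000000000000208000000000000000a00000,
  0x100000000000000000000200000001080000000200000008088000000,
  0x88000010000200000a000000000000000000000000000008000000010000000,
  0x2110008080000000000000008000000000000008000000000020000000,
  0x1000008100000000000000800000000080000020000020000000000000000800,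
  0x100800000080000002080800000000000000000001020000000000000,
  0x120000020000080000000000000000000080010800000000000000080,
  0x80100000000000000000020100000800000800000000080000000002000,
  0x8020000108000080000000000000008020000000000000000000000000001000,
  0x80000100001000008020200000000000000800000000000000000000008000,
  0x200100000000100000000000080000000080002000000000808000000000,
  0x10000000000000000000000200880a000100000000080000000000000,
  0x400200000000000000420000000000000000010400000000000000500000,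
  0x2000001000040000200000000000000440000001000000000000000004000,
  0x400002000000000010000200000140000000000000000040040000,
  0x4000010000120000004000000002000000000000000000000004000000000040,
  0x200040000000000420000000000000000000000004100001000400000,
  0x6000040000040010200000000000000400010000000000000000000000000,
  0x404002000000100004000200000040000000000000000000000100,
  0x1000020000004400000002010000000000000000000000400000000040,
  0x40000000000000000000000100000040100006000000400000000200000000, 0x4040000000020000000000040012004001000000,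
  0x10000000000000000001000000404000000000000000020040000400000002,
  0x4000000000001000000000000000004000004200000000010000020004,
  0x140000400000000000040000000000000000002000000500000000200000000,
  0x4000000000040000001020000000040000002004000000010, 0x110000000040000004000000000400000020040000000000002,
  0x8100000000000002400000000000000000040100000000000000a000000, 0x400008100000020020000000080000000000000000100400,
  0x4100000080040000000000000000010000008002000000000000200,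
  0x800200000000000000000000210000004000000000040000000001000000800,
  0x10000028000000000040000000001000000c000200000000000000,
  0x800040000000000000002000010000000006000000000000000001000000800,
  0x81000000000000000000000000040000000001000000400220008000000,
  0x4000000000000800201000000800060000000010000000000000, 0x800001000000000000000000000000002004800040020000010,
  0x800041000002000000002000000000000000800000040000010,
  0x42000000000000000810000000000000000080200000000000005000000,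
  0x80000800000042000010100000000000000000004020000000000000000, 0x10400000000020400000000a00000010000000800,
  0x400080001010000000000000002000000000480000000200000,
  0xc00000000000000000000010020000001000000008000000000000000020400,
  0x40001020000000000010000000000800000000000000000080004000020,
  0x240000000000000001800000000000000000208000000000000a0000000,
  0x801000002200000000000008004002000008000000000000000000000000,
  0x200000000008008000000000000200000000000000002000008005000000000,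
  0x8000002000000000000000000000000000210200000408000000000000008,
  0x200000000000018800002000008004000000000000000002000, 0x800000010004002000000000000000000000000002000000002088000,
  0x18000000000000042000000000000000000104000000000000050000000, 0x8100000044000002100000041000000000000000000000,
  0x102400000000400100000001000000000000000800400, 0x440020000000080000500000000000000000000000000000010000000100000,
  0x40000104040000000000000080000000000210000000100000,
  0x1000000014000000010000000000000000020000c000000000040000000000,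
  0x204000000000000001100000010040000000000000000000040008000000000,
  0x40100000000000000000010020000900000004000040000, 0x48000000000000100000000020000000010000000100000000000400004,
  0x200000100000000000000000000000000400084001004000010,
  0x5000000410000100800000000000000000000402000000000000000000, 0x2400000088000004800000400100000000000000000000,
  0x800000000000040000000000000000000100000080440000080020,
  0xa004000000400000080004000000000000000100000000000000000080,
  0xc000000000000000040000080000000800000000100000000000000200400,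
  0x8000040008000004000000000000000000000140200000000000000080, 0x20000000000400408000000080000900000004000000000000,
  0x240000000011000008400000200800000000000000000000, 0x40000080000081020000001000000000000000020400000000000000000,
  0x100800000000000001200000002008000000000000000004400000, 0x2400004000000001000000000000000000000008280000100000,
  0x8000040000020100009000000000000040020000000000000000000, 0x810000000022000001200000028000000000000000000000,
  0x420000004400000020010000082000000000000000000000, 0x180000008800000040080000800200000000000000000000,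
  0x800040000000100080000000000a0000080000000800, 0x80000000800000000000000c00000020000000080000000000000081000,
  0x1800001100000080040000100400000000000000000000, 0x4200002200000010020000014000000000000000000000,
  0x2800000000005000000000000000008040000000002001000000000000,
  0x82000000000a0000000000000000000102000000000480000000000000,
  0x280000000000a00000000000000000000201000000004008000000000000,
  0x10104001018001020000000000000000000000000000000000000000,
  0x1010280024010200000000000000000000000000000000000000000, 0x401000000000001400000000000000000000010100220000,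
  0x10400000000004100000000000000000000020211000000, 0x440000000000001020088000000000000000c0000000000000,
  0x90000000010020000000000000000000040020c0000000000000000000000,
  0x18000000000808000000000000000010010000000000060000]

/-- the masks -/
def M1 : List ℕ := [
  0, 0, 0, 0, 0, 0, 0, 0, 0x82e9135e054bc5a6eab1b2330d050ccd1d5c0b26b811b20805acd2, 0,
  0x26b279315ac7f869a2db5a7799f7451e873f4d9e0a795cf7830d1, 0xe978fdd2d468cedfd2896a0b343083c699d37f076bd94fdff4f8,
  0x820a5c11c65b1b6bdecaeafe4af33a90d73e83fa5b3e81dde2461a, 0x8283d96974088d09c675b4bddf05d932b47f9b0f923af2db6edc5d,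
  0x82ab73d0d7488ffff4a98e7f30fac5db0bcc72dc733e67debf0053, 0, 0, 0, 0, 0, 0, 0,
  0x8290a50cfd1ccb8b7feed61fabb320bf3fd60e6dd4f358e2287c2d, 0, 0, 0,
  0x80414a28358c4757641941e9fd8e000a9ebb1a0f4ad90aab735803, 0,
  0x827a9892c19cded403eb8adfc8c9beefd34438faf50c49be0512d8, 0xa31f3187b3e3b026c5ba41bf2de20f119094b7e1326f2be48330,
  0x82d9418bb361e866b0dcc804f3bb1a7f5f30ac928f3af3f86195a5, 0, 0, 0, 0, 0, 0, 0,
  0xa249bad8a056cabea062e644b504f9d3b24ba839f23bc1790a9ff1, 0, 0, 0,
  0xa07b43e1a482a2b6bd540d335ea8aa3c689f9faf47faa786d5d262, 0,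
  0xa2d25b3a6b6f407e514f88ed8b408fea6063298ca3ff9ef4380040, 0xa2b83e0814f3a2c28e6bbb45c937b1091ef312f26f1a77678128ee,
  0x20a92db35108aeb5ddc530435d3fbeec12df3774c83a28971118ba, 0,
  0x8391de2e96f3e00699e89f3143844428d2adc3ff839fdb59b2b436, 0x2191be09638e8cbd021e0162d8ab63771da1e7c17a8ecc8123ddc3,
  0x836237018fc52a6d73afcadd668a67285b025a1127042fd5232c81, 0xa39b29af4febdbc626263a7bbf070d6a2f6dc955dfbd409a122e8d,
  0xa36a596ecc141a1bb6ce657ceaf38f17a8a2e6846a8e6643a05b3b, 0x1e1d615ec2a7ecb26ba75b6505f7b248fd434fd2a34194dc29b20,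
  0x2173194ca33873d6a30cfe6a3d78b26ec61a0b6e37eea6273207f8, 0x831118caf0edb2c072ac40278382855b4d4b59dcfa0367d6ff82c7,
  0xa3d03ddb319d1cd6726dfc7ff880542f62c61d27d7e9eb9e45b287, 0x21c1bea688055a7bb91fd183f8e3cefd190f104592d950c2db5623,
  0xa10129649204929b698d5555327294ec63423566c69d057498359d, 0x1d0ce9bfb050d241f9e8466f59e6c98c620c60e021759451b5689,
  0xa33af5f6387091bd2bec8d30fda9c013d2b29f6041aaa90e6642f6, 0x216b4dae0fb46b512bf660fc5bbb9547aafa746e4c5912ba12083c,
  0x21011d448d6c172d726a37e1922411c06aa9fc558217d3705f06d2, 0, 0, 0,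
  0x280137abd1abb5b9f7a003c64540bad44157465fe13c9391e301371, 0,
  0x2a059bb89cb5cdf57e0a62e08ef8f90d201febbce85276596e67438,
  0x2a01093661a3454bf46cd70dc088091d76875dae884de7666a432d5,
  0x8281b246f8cf36898cf588ad92130165edef123b4158c35c8d7f1b,
  0x2231af71c20cec70908b4bcddd1e28b5cf7ab39d57b6cd93e2dd825,
  0x21e0cd3a9f234ee65b4837ec385a69a416eb681b763ff89023e1f2, 0xa34262d3d84928f1a4fee37e70eb5cc05d7440e39421d60100f149,
  0x2a30855fbef60544faffcea406d9aba9e1f2993b5b3a7a118353f90,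
  0x83e14d4a6ba6544e330df4b5116ce103010c3cb364402944771464,
  0x2236acede9aaf6efc699788b13a75cc5f16171c87d5521f49c43ba5,
  0x2a11323eec8bb676e41b41d89f72578aca30295af4dd9cc0ab1c085,
  0x83303cb69755d6b1402402c45213ffb89065e89aa4eae85a185149, 0x2071b3b8b2b5ab5e0e2fee7c6263aa6a199c8b024b2653617e2db6,
  0x2a1f9865f4d01f85f01cbdfd771d8b8f4a900b7309defcb24346af8,
  0x2a03b24d459a19a406f789869a86e19c2e6e1c5c401439021fe8939,
  0x212033417bffc9dfa4cffd1bb30b94fd4dfc4e32c9e551cebdb54f, 0xa3b8697ca1dfcf4909b66ff9d324ade0c31ca2d3933e383046e22b,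
  0x2a0e97fa29204821b8b995a33d9dc15dbc3b9564e53c4efb11d0427,
  0x2a190cdaece88d718d5081f4eab6c52714c4e84f7570305763afd54,
  0xa238f85b35b0ddfd87fd4335402d60fbf7ab65a1f2877774a97454,
  0x281abb5d070a2ff24aee19c8c390d542c133aca21efb1937544dde7, 0x13ef5f72c4a47244e5fb832d733386e12e2fade1b38a8710d9d0,
  0xa37b83501fc507142362cd8f9b7e9cc3dd2b382841e344589cb27d,
  0x2203b2ada14cc502fcc823a419dc8474cc4406e6c55621a12f6ae17,
  0x22258a2ec1887d42223c54b6bd699110bf4b17cf87197a8124f20d6,
  0x21729e74d10f422491f48c9f53cff21d93563ff467f1613449058e, 0x8289d2822d746102864d39138bac51d553bfcfdcb7cbda489fa0c3,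
  0x28178601c254bc339ba68bb056772699a59041d63bf0cecc08b1559,
  0x205038f602f7fc19ac5edc0296c58e7fc33c62f76c46feaba4134e3,
  0x8213b22c47c57709167dbda6a215ff9aaee3327ad9d79c15dcc19c,
  0x2807a3b8faf891edca884fb31eed7d818f6b74301b7b8a714ada3d9, 0x1cacc709c0d9bb2f7ba76b1dbbe41b3a89d3b784649963827a84d,
  0xfa19b0c7ae452e5926151eaf10993ab927a7d3de740e88f, 0x2a111204d1aa04e2e8f3ec975d3a45197dcb41092333886567433b4,
  0x2183882071ec7a6d22c23b22f0bd134cdfd8b48d6f71ef913ac88d,
  0x202f3ecc5f43e07dfb2118610ba8536a4a4aec417c0dd259c348f44, 0x1f31c2e93e7e995a15c6795223a5b57acd5b43a5090f1da5d9a84,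
  0x202d1d97de055baef460f76a9e400bc0fefc0dcea3624d796d8244b,
  0xa240084c6f1d5ddead65bdf41618339ac85295d203ffab0f667b08,
  0x221faa79d058343bd23f80a465987e141e0a522e239a0a71383541e,
  0x20270fcc69cde425d28822d6911b10e99b0a2f9f97e849097d9e0f6,
  0xa3db47952adaee4f790a9c8e0e0331ad1769c132ed3dd8430f200b,
  0x2031af71c20cec714f774bcddd1e28b5cf932c1cb7b278c58bbbe7f,
  0x20d917a73493e1c94beac52c3fe5490bca0334cfd463bc29f969f9, 0x2ce556893088f3b80de4753ae3b355ca95db92cb65d79a367bde9,
  0x21f1d378b0a28dcb7a54d7dd4ecbebfb6cb62e0f6c7f7a3d93a6e1, 0x2099ebb59ddac565e568e8ca1dda6d3fd2a6365a03f85208750691,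
  0x8358c60c0662ba8d0f1921067a54975fc9fb4791b001cc3c9474a5,
  0x2810927a94699e97c07bde13c1a57344b929115fc8442c703d48ed9,
  0x2026be41bfba8ff6e5c8a0327d38bcc30b0478357189006f789a802,
  0x281812d602821b164cc019681e0e38050cc7496cb1a0708f5f4d3cc,
  0x20209b4f88b1d1971ed9fbcadcccc7fa536769594d3febc5189f6ae,
  0x2a0d9d3bc50320bba46680e1fd5c73490eafbeb9f599d9c3b26e373,
  0x2031b7e604753b8b703ab90982adf49bb50ab2ce154f209366c102f,
  0x2227b88152a4dd55ce6ce7ca605550be048014e61f71fe847cd6d86,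
  0x201d039d4af345d9b3a58db732446a217937b293109f34f986ac330,
  0xa35050ab9dbadc1e5f4dc608723b736669ecc1538005081aa03aa6, 0x2071b1f722b211402c0b9443706acf106ae2a9a0b2363b9a6da4e5,
  0x19a0cc47ff582f88504b19c43e35b9d66cb9b1772113b5c815775, 0x8228c882704bc453e3b3f106a18d453429551efd1a66c69f885e66,
  0, 0x2e0789684b890b0b73c67b7519b526017c5b9a6d35a3602f88c5b14,
  0x2c0caa9d25c2334c7d5ed3c13f3d983544800de40bf90c9e6633746,
  0xc202f7ac4aa8bf247131a906a9431943ee5317419138cbbf593b9c,
  0x262180b5c813f8288dab2efcf08c61f5ee6a09d76ab4d662d748462,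
  0xc2b2af6464a641858ca47570159e647289b2005d623758ed1e6892, 0x400b8de578e93677644d699853246c1375efff3a2f2f010d4c8fe9,
  0x242e26c9644e7e901b534422da4038a342c23ad9a227d501768ada0,
  0xe3a3d790e31ff20deff21c4b9f7786536d672cb07b96ab062c54de,
  0x2c1423753711e066116f7de67edf66277372856db657c14c261fcf2,
  0x2c1a12089a62636c46b3ca160022800187df046e58c4e858f0873ae,
  0xc1085ba8a77b6aa3cca682f3e8d017c2c9f23fa66a4591e6055d58,
  0x2e1e1425ea81154873d317337cae6a1f31516f7584ec487d46cb2a4,
  0x4149d32b607e5247e7f81cd5d899294aa54ca617cbbb29cc657a0d, 0xe3ba0fb4e4f389534ddc20c0d943e2cee6ca055bf42f383c95b71a,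
  0x2e188cfa7374943da19f8e0c8ff6018fa1c054db950ac226c885cdb,
  0x2e2627b1a28d5acca55002840511bdf6cc437fc50757b8ce7b12254,
  0x26200a01837fb53d7ff9e6e80d1dc783dfc121543433176f02eaf00,
  0x2c0aaf505965b51f9a9b376601584197b88a45e3da43c898c9a2b11,
  0x242e2a9c6c2236c9a7fd2b927d6af042d1d33f4e995af058135d78a,
  0xe3600e99ed79c675c52de86c345b7d4cbb439ccb81e66d9b9279e5, 0x618a975758d114b18d062b5f0fb95753a13c0ab8634f4b2087996a,
  0xe3732b646847d44ecfeadcd37be8ef6f700deae6ed7630f5009576, 0xe37030cb1374341445745b7dc2e4b2663ddf87e64914e256ecf447,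
  0x2c1825c89375fa79b422877d751da5bdd8ec354e5fa5dde7ede41eb,
  0x26342053cca7e12d4c5b96eaa966ece85b385dc7469048c36d676e6,
  0x26352096ab8e29f6658918ba5fbe98963bd942d70516b08a5cfa936,
  0x241231133fdc7ff274fe4b67238cb0053a053109216a6ec1ac66cb7,
  0x6072f16b074d98bb657686cd9abac2b87acbb6189671a7bf94448f, 0xc2685b21a967f372c1724c6400d2701641c1099533e1fca6683f3b,
  0xe2880f9d01fd62458a70ae44c9a04dd6e17bce43dd2bd10b33a92c, 0xc2f83ddf7bc027dda32bb60df6517a8b924535578a33986e75a153,
  0xc050fc024160d92b79def28ea739b4e41d12cb811a33ea92294f2d,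
  0x2e1689167a36610c8954028bc0cf1eed42be264afd721b8fd8c1670,
  0x242f32cbccf3cb0ab14cb4326e24765c245262a0b7c79b694cea695,
  0x41680b8dee7ae6ea6d3675829c36d5c422a8c2dff0dd8308b94e4e, 0x61e1d3fa5499995ceaf0008104d1a8469ed035baa465f04b7bc8a6,
  0x2c0c2fe3e7a2a4538cf5de5a506a1499845062f91521b495d4d28ce,
  0x2c1a23965d5054f66fc6394af886059e5cb741f32a88926773c260a,
  0x4009ddb1898522c5fbe0831294701b15a2e2b246e6f488383061d9,
  0x24313b06263bfc5f7d3802727312d7fe1d9d8df6864b17ed3b41a70,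
  0x60fa040aa0603b88e360dda8f940221987d27b78474b0553ec18e5, 0x4139d246a77b545981f44310f1ec966631563433dadb2725737b8a,
  0x240d03622f5ff8746cbe102806976dc116c6a686abaaee7b63c1193,
  0x2621bec6bfbf0b61c523f0354dca5dfde65376eddbc850469e55858,
  0x4139e99c1690a5866aed92f14a00dd397d4e59312e2708078eda5f, 0x403b88f09efae44985085a21eb48380cd9be728f75d81d993d3682,
  0x24312565e0341d93dc3ae2990f7420492d70c35573dd96e6ff70bb1,
  0x2c1b37f64131cad97bb0b2dcee03941bc6afd034893dd4d13091976,
  0x2e02120c6cf5abaa405641594290f6dd750f8a0bc52cc1d53178674,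
  0xc2c1111e6df3ae97f5397547c60fd54b38e3dd6abcacaf7b138313, 0xe389e3c5a7bf9f6fb5089a6c9f2cbbd1d83bfc978d585819ac686d,
  0x262ebeb283b1aef1bd830a1b896ec0276c5908ff1883e8d7caa9c11,
  0x2e1d9d5848235f0684cac8079f212ecfa2c5b314eb81b95936fb683,
  0xe31185763f7122eb5f5fa54d11224d84f892d4d75ce189e7e4735d, 0x60bb12e042d0b1b6f39054aff687fb7b4e591475d8fa4637f169b1,
  0xc2ca9cfb151a98e091741cdf952bb9584d0c22509383ae765f0cfa, 0xc38afeb6686be838ee40e4e7c5fff212f399075a126e4c83a09c13,
  0x243212276388c33169749bb723e0899ae6faf954c494b392fd45732,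
  0x2c22142a29570f47fea4780b3714397c949b46546ea76f654c20df0,
  0xe3b142c502aa2f963736748490c4f0bd24963656961052a4db9c65, 0xc220fe74d0c53eadc40647287f297f29917e3beb0036afc49dacbe,
  0x2e03949a6e6065954d76f72646df39e7c6b30ccc79ce322b7bd2f35,
  0x2c1db8b1796de52dd3a16ec8e205c3deb5c1b1f6fe1c4f499e0dc65,
  0x2e8f3ea66e8112b78c1d30b634bc6983392e1e3145d62f6efcad479,
  0x405267e6bed5c0ce457a29641a949fc5487bc18f037043646b95b4, 0x40d9d660d69fd55f2b8a87a954450c8087ef792616d2c1a0b6a457,
  0x2624bb5039d176a77b38593ab2685cedaea1f3808449917c30dc320,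
  0xe26b40bcc955ad84b0be684bd98d2ba75673e0c0a3d0d71c896c79,
  0x2e039b07d460c16d7ba967d5d35ef8add9a126357bfa98b3ce679f2,
  0x2c0c1792f711389aac86e6dec0e90ddf9f7880d15fdf6523ad7d727,
  0xc21bb385afbd007f61a65b99b59fe43131a8035ddbeb2ba6b98983,
  0x263fbe572bfde348160cf0e50b31d0887bad1ced06d79a380567ee6,
  0x61414b57c99e06435cd4a21a0d6a0172d933350f5a6351d3bcf198, 0xc3c31b04db53b6074c77c75580d9dfc5fc8858fee81408e56ac8ea,
  0x2411bda4af815a6e3c2e829220fb6d496c9879e1881c92b9c06529a,
  0xe32912eb3a662ac8feb501becbd7173ae42f22112ef2ade3e41dd9,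
  0x2437b4ab28cdff083d99c055b73820fd393d39c4b028f1b42f16740,
  0x2437b2b793bef04f510f74359b81975291072d7c1301d8aadca83e6,
  0x61e14ff6a6435dc38c203b552479f0817c4a5aeedd42abd848cf40,
  0x272b0ce2dcfe92bac06f687d7658903595c39d8cbf8f9eab1980dd8,
  0x2429a9a8e44d5c85967f46a3f70226aaa04f5fbaec79431186c224b,
  0x61a8ce551d9734178dfaeb5d57e4178fecf91115018576e4178f1b, 0xe3fb884b458496b97bd893f7589b0e7f93a9cff5f85b4e2e5fc32b,
  0x4021b99e06692d93fea0f788538952ae17083e15947dc0ccfa8285, 0xe272931649ebbcbca5031b599c26d8eb23a6723905f8d0c78158a5,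
  0x2639974c48e84c644186b90afd837288a541c6f9706735d67f6667c,
  0x2e149b8c0ca42cae13783e875746bcccf8453b8956fab34b503a435,
  0x243a85f6a7f0a146717f9d90fd3a5cfca9f987c58d960189471ea1b,
  0x2e1d17129d6d6d2619f8a1486ea71dea596e3b966446a8c71ddd473,
  0x40e0c0907e23310b1b1c1dcb35e561da5e5685bd3bb2acf81380cc, 0xc089dc1b5c861cc828542bc566fe235b062e4d8803d17801feb9d8,
  0xe3a3d79f4284fe770ba0f859fe266ca264f4872201eb92e16cbc51, 0xc332fa2f2791501fe329ec99fb094b66a6c328773517d4226b84fb,
  0x242909d48e7ef00e8fbbc0c5e176c207a5473c6b4ff7da13be2066a,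
  0x2c08118b41a1b64530c4ab79f5c3855ded0d88ac19e4510be0c1057,
  0x24142c9dae579ad1de96afe0d27136203c37e3e93c71dc17b7633d0,
  0xe318333394adb228b98377950b4cb0a2ebde473ac8779d024a359a,
  0x2423a36d1cfaa503ea01e872ec99ef3cf2d0e8cc7b6f7c90afbef55,
  0x401147e6bd7caaa5d3c413e1fcbc41f2f04da2d38aee9578584564, 0x40514766d640473d739573bb2093bd024b02d9127064bd15180135,
  0x2628b43c9c4186d4c166f642a498394540a26e6d7a4896b55b349aa,
  0x619857c5985d074afb87ddfc9dba63afd9ec7dfd39f5cf761fb5c2,
  0x263e186cf96a9195e10b6e61bfa440d278cd0b84d1c1fbcff40aeba,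
  0x2c04b7a46f18f2615a6d68ff62a94b6477bd3dd02e92a667a00de6f,
  0x60818ab5595823e32f5cecbca0571dc645327f6f3f2ddd3a14d8c8,
  0x26310ceff5530bed25918f02096dac41dd896464c90c3d8c968a3b1,
  0xe1218d6ade8c5fde736eb5593e790a620902c310eab47ae44fba0b, 0x6181be646acdf74df21bfc608c7d46c0642403c13f4e86b58d45db,
  0x24301d4bbd7cc09e756c5025ed465e13ce9993a77925021fa9afec5,
  0xe2420a35cbcd88e21179cf631ebe4a7dfe933342592d00dc40513e,
  0x26253d0b0f2d5c8151953e26c2a91d39591086c1c80b36c066777ec,
  0x3e25121ba38fe68622da292700249dde703d4913cf2f802a275c2da,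
  0xe36b7043a16f11283cd904780522e659515948bc6ea1c7eb185063, 0xc250057664690730bb481f922148a5f42ab13ca8cd1fb2ddd130e3,
  0x24363b80dd04f654298844c1fa64bfa51e13ad757690ba222f7293e,
  0x2e143e426138f0419dcab1bc9eb158a18c52911f495855eafafb9a3,
  0xe2432a387bd3d15485ef1c1df88317994790a9dc517bc90136d125, 0xe3686d21fc4bf17578a5113c4c2c825e4ab8719de6bf6f465ec8d7,
  0x2e07a0a3e23be1a9f96a658713f9f3e79ba292e6907b7ab389ce164,
  0xc36af24af0ea66b00d030149c46f27d0789e6747789951a6e0e249,
  0x2e061d3e54b4c0178f0ba491a84b5199d7ef0f6fb035b429220bb1e,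
  0x2e11b13c47baa0a2f5e4bc4ebc0d5e23443511ad8f2b53b28fb2d74,
  0x42205376079111f26b065010fdbf55e8e22f55df20d371d5da6c14, 0x609293261fbd0d819d0bde6178e4d89ce6c9d2a9215d3ff3469a15,
  0x2435a374364de54ceeef2f94607d905bc998b57b3d5999897ed282b,
  0x26270c231d8373e5e9f5dd8ee116ad88d710f3eecdf9da4387f7f3f, 0xc3e929e0d910f071639ecd48d3acc75733300edfd97ce91fdd2f13]

/-- the table of the coefficients (37 bits each) -/
def AT : ℕ := 0x95a8684244448747bdfb1581f8f1e795f08bfc1d804cccee66eb328eef02f37a348e222d70dbe4b894f6230ee1fbe81e33fe0d7ab3a88698c410096549f49b1623d0ee812c3d26fd3dde8a80e8d2179677c002b7135464114fcb20c40c734870bbde8c5c8c3248b23b5bdd7ccc3d58ecd6a7e66cb1e7c25e2e743f36c981b8e4a9aa1bd4bf3eec9a9d4863ddba8175918000027fb82d74bf7f4a893f00e9eac81ea1ebd32e6f7c20b4ace0c85dbf278f7c778466b1d26630eaee43cc41f5f47ccc733c1632a6094754f691594a3a58ef63d1cbc99e20a171193b02d14925f7dbed3d477cb9f04677260657758f813696dbdd223c49d3882f1e5259279cdcf1f3f97c2ec0396bb65ece13bf87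3ab53f6919e077619b88b75a68cb48000a049e8500000037243c74fbafa33ffb07c24634c13801d600736fbfda5a0cad475a424e4b117d9619e9ac841a016e07ec8374a6acf6aeeed375f3ab299d43306d2df0be7b3da0da5859847956a5868e9e7fca47a321afbe55beb5896b85a6f57d08195f96fdc5784f9d17cd14f3d4902cbe0b676c5cd3970c0848e02922c9cffff98e7c660b192f210fc720d0db675136b854a43cf62f3cca1c075a02c14b5a81941fa7958104e049f8c90b9dfba627576e6fd357d60367c5e5f8ba7ec6b7f4359183a1c28784e426bda3c67ec0b921269d27adf76fd58f80530ef6e47997176e6cc6bff5354896ea04ce32b8044eae5d4b1eb9eb41175ff92b4795c86247d7c9ce4c1daa76bef08e9c16b83a6e75f99158d54f01c9866e7405cd57d392fdd7704b1ad06ad6d4a01cfc2e60b22698100000000011cf331180ad435602109cf7836a8ef9cabf50d314dcf5852de2e61973d8ef7d6b5e9a2b866a727e8d5b70588d7ace1509970c7a8a57e25740528fc9b9b8cb01ec9163ac81044886ea7b7060811d51f9e20d9c45f5a4242eb3c459c495e88c1bfa096ce6af84ed14aa062ecf8b57c768260440113b2483108382bb2ce280400880244475f11d040403b8708041357a4da6ed3da13f452ba1a91620fd1191d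7382bf6b5e1f80466bb5d683abbb7d42eb847387af861a72919fb737393f3ab71a5e79f8286f1672c2ee3846062448c68fd9c2a51ae597d0a4f4fc86e7bd5a545475e01c2f4645468db3c28b470ecfcb75c50e4aee9398bebec48549f93618807e7987273730a055c2b40ce51739695b8a0aa80000000039452df169000000000400000000100000000077ce5cfe82d06caed81a0bab05a0a629b5e306a0ef31983b472aff4143f3736c0b50b8bb60612eb816820896d78c1cd21830a08b1b7a2d070f2b500030c6dc0b411e1ac80008000000003b4800c281b54000b40b660006604000000001c7800e70080000000020000000008000000003f8002a801000000000400000000100000000040000000010000000004000000001000000000769db000036af4000016ccaa000080000000038f168000100000000040000000010000000007f0f0000020000000008000000002000000000800000000200000000080000000020000000006c80000003c80000002e80000001270000000a6800000040000000016a00000008000000002000000000800000000200000000080000000020000000008000000002000000000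

/-- the numbers of the 37 vectors of the basis -/
def BN : ℕ := 0x8044424140302c2a2928262524232221201c1a1918161514131211100a0807060504030201

/-- the coefficients of `c v` -/
noncomputable def Ac (v : ℕ) : ℕ := Nat.mod (Nat.shiftRight AT (Nat.mul 37 v)) 137438953472

/-- the vectors of the basis -/
noncomputable def bn (i : ℕ) : ℕ := Nat.mod (Nat.shiftRight BN (Nat.mul 8 i)) 256

theorem L1_eq : L1 = G1.map (r1 [1, 2, 4, 8, 9, 13, 15, 16]) := by decide +kernel

theorem G1_ok : ∀ g ∈ G1, g < 65536 ∧ dt g = 1 := by decide +kernel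

theorem M1_ok : M1.length = 255 ∧ ck (fun v K => Nat.beq (xs L1 K)
    (Nat.xor (Nat.shiftLeft 1 v) (adl (fun i => Nat.shiftLeft 1 (bn i)) 37 0 (Ac v)))) M1 1 = true := by decide +kernel

section
variable {F : Type*} [Field F] {w : F} {L : Type*} [AddCommGroup L]

/-- the basis -/
noncomputable def XB (w : F) (c : F → F → L) (i : ℕ) : L := cc w c (bn i)

theorem cc_Ac [DecidableEq F] (hL : ∀ x : L, x + x = 0) (h2 : ∀ x : F, x + x = 0) (hw : w ^ 4 = w + 1)
    (c : F → F → L) (h0 : c 0 0 = 0) (hr : RR w c) {v : ℕ} (hv : v < 256) : cc w c v = ph (XB w c) 37 (Ac v) := by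
  rcases Nat.eq_zero_or_pos v with rfl | hv0
  · have h1 : Ac 0 = 0 := by decide +kernel
    rw [h1, ph_zero]
    unfold cc
    rw [Nat.zero_mod, Nat.zero_div, dec_zero, h0]
  obtain ⟨u, rfl⟩ : ∃ u, v = 1 + u := ⟨v - 1, by omega⟩
  have h := ck_spec _ M1 1 M1_ok.2 u (by rw [M1_ok.1]; omega)
  have h1 : xs L1 (M1[u]'(by rw [M1_ok.1]; omega)) =
      (1 <<< (1 + u)) ^^^ (adl (fun i => 1 <<< (bn i)) 37 0 (Ac (1 + u))) := Nat.eq_of_beq_eq_true h
  have h3 : ph (cc w c) 256 (xs L1 (M1[u]'(by rw [M1_ok.1]; omega))) = 0 := by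
    refine ph_xs hL _ _ _ (fun r hr' => ?_) _
    rw [L1_eq] at hr'
    obtain ⟨g, hg, rfl⟩ := List.mem_map.1 hr'
    exact rr_num hL h2 hw c hr (G1_ok g hg).1 (G1_ok g hg).2
  rw [h1, ph_xor hL, ph_two_pow _ hv] at h3
  have h4 := ph_adl hL (AddMonoidHom.id L) (XB w c) (cc w c) 256 (fun i => 1 <<< (bn i)) 37 0 (Ac (1 + u)) (fun j _ => by
    exact (ph_two_pow (cc w c) (N := 256) (i := bn (0 + j)) (Nat.mod_lt _ (by norm_num))).symm)
  rw [h4] at h3
  have h5 : (fun j => XB w c (0 + j)) = XB w c := by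
    funext j
    rw [zero_add]
  rw [AddMonoidHom.id_apply, h5] at h3
  have h6 := hL (ph (XB w c) 37 (Ac (1 + u)))
  exact add_right_cancel (h3.trans h6.symm)

end

end Cfsg.Agent.H701.L16
end

private theorem dce_781177d95cbb : _root_.True := by
  try have : _root_.True := by simp only [_root_.Cfsg.Agent.H701.L16.wd.eq_1]
  try have : _root_.True := by simp only [_root_.Cfsg.Agent.H701.L16.adl.eq_1]
  exact _root_.True.intro
end

-- part: H280/L16/Norm
section
set_option linter.all false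
open scoped Cfsg.Agent.FastGrp

/-!
# S5916: normalised types of families, Lang's theorem for families (helper280)

`FrM ρ Θ`: `Θ` is additive, `Θ (c • v) = c ^ 2 • Θ v`, injective, and commutes with `ρ`. `Θ` maps families of type
`(i, j)` to families of type `(i + 1, j + 1)`; exponent `i + 4` = exponent `i`, flipped.
-/

set_option autoImplicit false
set_option linter.unusedSectionVars false

namespace Cfsg.Agent.H280.L16

open Matrix

variable {k : Type*} [Field k] {F : Type*} [Field F] [Fintype F] {ι : F →+* k}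
  {P : SpecialLinearGroup (Fin 2) F →* Matrix (Fin 2) (Fin 2) k} {y t0 : SpecialLinearGroup (Fin 2) F} {ζ : k}
  {V : Type*} [AddCommGroup V] [Module k V] {ρ : Representation k (SpecialLinearGroup (Fin 2) F) V}

/-- a Frobenius map of the module -/
structure FrM (ρ : Representation k (SpecialLinearGroup (Fin 2) F) V) (Θ : V → V) : Prop where
  add : ∀ u v, Θ (u + v) = Θ u + Θ v
  smul : ∀ (c : k) v, Θ (c • v) = c ^ 2 • Θ v
  inj : Function.Injective Θ
  comm : ∀ s v, Θ (ρ s v) = ρ s (Θ v)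

theorem FrM.zero {Θ : V → V} (h : FrM ρ Θ) : Θ 0 = 0 := by
  have := h.smul 0 0
  rwa [zero_smul, pow_two, mul_zero, zero_smul] at this

/-- rules of shift -/
theorem FrM.fam1 {Θ : V → V} (h : FrM ρ Θ) {i : ℕ} {w : Fin 2 → V} (hw : Fam1 P ρ i w) :
    Fam1 P ρ (i + 1) fun a => Θ (w a) := by
  intro s a
  rw [← h.comm, hw]
  simp only [Fin.sum_univ_two, h.add, h.smul, ← pow_mul, ← pow_succ]

theorem FrM.fam2 {Θ : V → V} (h : FrM ρ Θ) {i j : ℕ} {w : Fin 2 → Fin 2 → V} (hw : Fam2 P ρ i j w) :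
    Fam2 P ρ (i + 1) (j + 1) fun a c => Θ (w a c) := by
  intro s a c
  rw [← h.comm, hw]
  simp only [Fin.sum_univ_two, h.add, h.smul, mul_pow, ← pow_mul, ← pow_succ]

theorem FrM.fam3 {Θ : V → V} (h : FrM ρ Θ) {i j l : ℕ} {w : Fin 2 → Fin 2 → Fin 2 → V} (hw : Fam3 P ρ i j l w) :
    Fam3 P ρ (i + 1) (j + 1) (l + 1) fun a c e => Θ (w a c e) := by
  intro s a c e
  rw [← h.comm, hw]
  simp only [Fin.sum_univ_two, h.add, h.smul, mul_pow, ← pow_mul, ← pow_succ]

/-! ### exponent `+ 4` -/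

theorem PDat.shift (D : PDat ι P y t0 ζ) (s : SpecialLinearGroup (Fin 2) F) (a b : Fin 2) (i : ℕ) :
    (P s a b) ^ 2 ^ (i + 4) = (P s (1 - a) (1 - b)) ^ 2 ^ i := by
  rw [pow_add, mul_comm, pow_mul, ← D.fr]
  norm_num

theorem sum_flip {M : Type*} [AddCommMonoid M] (f : Fin 2 → M) : ∑ b, f (1 - b) = ∑ b, f b := by
  rw [Fin.sum_univ_two, Fin.sum_univ_two, add_comm]
  rfl

theorem PDat.dn1 (D : PDat ι P y t0 ζ) {i : ℕ} {w : Fin 2 → V} : Fam1 P ρ (i + 4) w ↔ Fam1 P ρ i fun a => w (1 - a) := by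
  constructor
  · intro hw s a
    rw [hw, ← sum_flip]
    refine Finset.sum_congr rfl fun b _ => ?_
    rw [D.shift, sub_sub_cancel, sub_sub_cancel]
  · intro hw s a
    have h1 := hw s (1 - a)
    simp only [sub_sub_cancel] at h1
    rw [h1, ← sum_flip]
    refine Finset.sum_congr rfl fun b _ => ?_
    rw [D.shift, sub_sub_cancel]

theorem Fam2.swap {i j : ℕ} {w : Fin 2 → Fin 2 → V} (hw : Fam2 P ρ i j w) : Fam2 P ρ j i fun a c => w c a := by
  intro s a c
  rw [hw, Finset.sum_comm]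
  exact Finset.sum_congr rfl fun b _ => Finset.sum_congr rfl fun d _ => by rw [mul_comm]

theorem PDat.dn2 (D : PDat ι P y t0 ζ) {i j : ℕ} {w : Fin 2 → Fin 2 → V} :
    Fam2 P ρ (i + 4) j w ↔ Fam2 P ρ i j fun a c => w (1 - a) c := by
  constructor
  · intro hw s a c
    rw [hw, ← sum_flip]
    refine Finset.sum_congr rfl fun b _ => Finset.sum_congr rfl fun d _ => ?_
    rw [D.shift, sub_sub_cancel, sub_sub_cancel]
  · intro hw s a c
    have h1 := hw s (1 - a) c
    simp only [sub_sub_cancel] at h1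
    rw [h1, ← sum_flip]
    refine Finset.sum_congr rfl fun b _ => Finset.sum_congr rfl fun d _ => ?_
    rw [D.shift, sub_sub_cancel]

theorem PDat.dn2' (D : PDat ι P y t0 ζ) {i j : ℕ} {w : Fin 2 → Fin 2 → V} :
    Fam2 P ρ i (j + 4) w ↔ Fam2 P ρ i j fun a c => w a (1 - c) := by
  constructor
  · intro hw
    exact (D.dn2.1 hw.swap).swap
  · intro hw
    exact (D.dn2.2 hw.swap).swap

theorem Fam3.rot {i j l : ℕ} {w : Fin 2 → Fin 2 → Fin 2 → V} (hw : Fam3 P ρ i j l w) :
    Fam3 P ρ l i j fun a c e => w c e a := by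
  intro s a c e
  rw [hw]
  simp only [Fin.sum_univ_two]
  have h1 : ∀ x y z : k, x * y * z = z * x * y := fun x y z => by ring
  simp only [h1]
  abel

theorem Fam3.swap {i j l : ℕ} {w : Fin 2 → Fin 2 → Fin 2 → V} (hw : Fam3 P ρ i j l w) :
    Fam3 P ρ j i l fun a c e => w c a e := by
  intro s a c e
  rw [hw, Finset.sum_comm]
  refine Finset.sum_congr rfl fun b _ => Finset.sum_congr rfl fun d _ => Finset.sum_congr rfl fun f _ => ?_
  rw [mul_comm ((P s d c) ^ 2 ^ i)]

theorem PDat.dn3 (D : PDat ι P y t0 ζ) {i j l : ℕ} {w : Fin 2 → Fin 2 → Fin 2 → V} :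
    Fam3 P ρ (i + 4) j l w ↔ Fam3 P ρ i j l fun a c e => w (1 - a) c e := by
  constructor
  · intro hw s a c e
    rw [hw, ← sum_flip]
    refine Finset.sum_congr rfl fun b _ => Finset.sum_congr rfl fun d _ => Finset.sum_congr rfl fun f _ => ?_
    rw [D.shift, sub_sub_cancel, sub_sub_cancel]
  · intro hw s a c e
    have h1 := hw s (1 - a) c e
    simp only [sub_sub_cancel] at h1
    rw [h1, ← sum_flip]
    refine Finset.sum_congr rfl fun b _ => Finset.sum_congr rfl fun d _ => Finset.sum_congr rfl fun f _ => ?_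
    rw [D.shift, sub_sub_cancel]

/-! ### existence -/

variable (P ρ) in
/-- a non-zero family -/
def Ex1 (i : ℕ) : Prop := ∃ w, Fam1 P ρ i w ∧ w ≠ 0

variable (P ρ) in
/-- a non-zero family -/
def Ex2 (i j : ℕ) : Prop := ∃ w, Fam2 P ρ i j w ∧ w ≠ 0

variable (P ρ) in
/-- a non-zero family -/
def Ex3 (i j l : ℕ) : Prop := ∃ w, Fam3 P ρ i j l w ∧ w ≠ 0

section

variable {Θ : V → V} (h : FrM ρ Θ)
include h

theorem FrM.up1 {i : ℕ} (H : Ex1 P ρ i) : Ex1 P ρ (i + 1) := by
  obtain ⟨w, hw, hw0⟩ := H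
  refine ⟨_, h.fam1 hw, fun h0 => hw0 (funext fun a => h.inj ?_)⟩
  rw [Pi.zero_apply, h.zero]
  exact congrFun h0 a

theorem FrM.up2 {i j : ℕ} (H : Ex2 P ρ i j) : Ex2 P ρ (i + 1) (j + 1) := by
  obtain ⟨w, hw, hw0⟩ := H
  refine ⟨_, h.fam2 hw, fun h0 => hw0 (funext fun a => funext fun c => h.inj ?_)⟩
  rw [Pi.zero_apply, Pi.zero_apply, h.zero]
  exact congrFun (congrFun h0 a) c

theorem FrM.up3 {i j l : ℕ} (H : Ex3 P ρ i j l) : Ex3 P ρ (i + 1) (j + 1) (l + 1) := by
  obtain ⟨w, hw, hw0⟩ := H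
  refine ⟨_, h.fam3 hw, fun h0 => hw0 (funext fun a => funext fun c => funext fun e => h.inj ?_)⟩
  rw [Pi.zero_apply, Pi.zero_apply, Pi.zero_apply, h.zero]
  exact congrFun (congrFun (congrFun h0 a) c) e

end

section

variable (D : PDat ι P y t0 ζ)
include D

theorem PDat.ex1 {i : ℕ} (H : Ex1 P ρ (i + 4)) : Ex1 P ρ i := by
  obtain ⟨w, hw, hw0⟩ := H
  refine ⟨_, D.dn1.1 hw, fun h0 => hw0 (funext fun a => ?_)⟩
  have := congrFun h0 (1 - a)
  simpa using this

theorem PDat.ex2 {i j : ℕ} (H : Ex2 P ρ (i + 4) j) : Ex2 P ρ i j := by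
  obtain ⟨w, hw, hw0⟩ := H
  refine ⟨_, D.dn2.1 hw, fun h0 => hw0 (funext fun a => funext fun c => ?_)⟩
  have := congrFun (congrFun h0 (1 - a)) c
  simpa using this

theorem PDat.ex3 {i j l : ℕ} (H : Ex3 P ρ (i + 4) j l) : Ex3 P ρ i j l := by
  obtain ⟨w, hw, hw0⟩ := H
  refine ⟨_, D.dn3.1 hw, fun h0 => hw0 (funext fun a => funext fun c => funext fun e => ?_)⟩
  have := congrFun (congrFun (congrFun h0 (1 - a)) c) e
  simpa using this

end

theorem Ex2.swap {i j : ℕ} (H : Ex2 P ρ i j) : Ex2 P ρ j i := by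
  obtain ⟨w, hw, hw0⟩ := H
  exact ⟨_, hw.swap, fun h0 => hw0 (funext fun a => funext fun c => congrFun (congrFun h0 c) a)⟩

theorem Ex3.rot {i j l : ℕ} (H : Ex3 P ρ i j l) : Ex3 P ρ l i j := by
  obtain ⟨w, hw, hw0⟩ := H
  exact ⟨_, hw.rot, fun h0 => hw0 (funext fun a => funext fun c => funext fun e => congrFun (congrFun (congrFun h0 e) a) c)⟩

theorem Ex3.swap {i j l : ℕ} (H : Ex3 P ρ i j l) : Ex3 P ρ j i l := by
  obtain ⟨w, hw, hw0⟩ := H
  exact ⟨_, hw.swap, fun h0 => hw0 (funext fun a => funext fun c => funext fun e => congrFun (congrFun (congrFun h0 c) a) e)⟩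

/-! ### the four normalised types -/

section

variable {Θ : V → V} (h : FrM ρ Θ) (D : PDat ι P y t0 ζ)
include h D

end

end Cfsg.Agent.H280.L16
end

-- part: H493/L16/Nn_mg
section
prune_inst 0x10003504454000020000000010001c00a200000000088000c82000040c88202009022860b010010200a080844039000810000020400000000000040001190080088002002100000c460080800080000000000000000000000000000000000000000000000
set_option linter.all false
open scoped Cfsg.Agent.FastGrp

-- part: H493/L16/Nn
section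
/-!
# S5916, box NN (helper493): the canonical submodules `NN ρ n`

* `NN_map`, `NN_frob`, `NN_inv` : `NN ρ n` is stable under `θ` normalizing `ρ`, under the Frobenius map, and invariant;
* `fam_of_simp` : a simple submodule of dimension `2 ^ n`, `n = 1, 2, 3`, contains a non-zero family;
* `simp_of_fam1`, `simp_of_fam2`, `simp_of_fam3` : a non-zero family spans a simple submodule of dimension `2 ^ n`;
* `NN_le` : `NN ρ n` is spanned by the vectors of the families; `NN_leQ` : the families of type `(i, i + 2)` can be taken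
  rational;
* `exists_min`.
-/

set_option autoImplicit false
set_option maxRecDepth 100000
set_option linter.unusedSectionVars false

namespace Cfsg.Agent.H493.L16

open Matrix Cfsg Cfsg.Lie
open Cfsg.Agent.H939.L64 (KK E2 LK em aK rE fr brK)
open Cfsg.Agent.H943.SL2Mod (Inv Irr)
open Cfsg.Agent.H943.SL2Rel Cfsg.Agent.H943.RepAdd
open Cfsg.Agent.H280.L16 (PDat Fam1 Fam2 Fam3 HasFam fam1 fam2 fam3 exists_emb exists_fam mem_Bb_of F_char k_two)
open Cfsg.Agent.H939.L16 (Simp NN MinF FamV)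
open Cfsg.Agent.H943.SL2Mod (Vb Bb Bf)

variable {F : Type} [Field F] [Fintype F]
variable (ρ : Representation KK (_root_.Matrix.SpecialLinearGroup (Fin 2) F) LK)

section stab

/-- images of simple submodules under maps normalizing the group -/
theorem Simp.map {ρ : Representation KK (_root_.Matrix.SpecialLinearGroup (Fin 2) F) LK} (θ : LK ≃ₗ[KK] LK)
    (α : _root_.Matrix.SpecialLinearGroup (Fin 2) F ≃* _root_.Matrix.SpecialLinearGroup (Fin 2) F) (h : ∀ s v, θ (ρ s v) = ρ (α s) (θ v))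
    {X : Submodule KK LK} (hX : Simp ρ X) : Simp ρ (X.map (θ : LK →ₗ[KK] LK)) := by
  refine ⟨?_, ?_, ?_⟩
  · rintro g _ ⟨x, hx, rfl⟩
    refine ⟨ρ (α.symm g) x, hX.1 _ x hx, ?_⟩
    change θ (ρ (α.symm g) x) = _
    rw [h, MulEquiv.apply_symm_apply]
    rfl
  · intro h0
    apply hX.2.1
    rw [eq_bot_iff]
    intro x hx
    have h1 : θ x ∈ X.map (θ : LK →ₗ[KK] LK) := ⟨x, hx, rfl⟩
    rw [h0] at h1
    exact (map_eq_zero_iff θ θ.injective).1 h1
  · intro Y hY hYi
    have hle : Y.comap (θ : LK →ₗ[KK] LK) ≤ X := by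
      intro x hx
      obtain ⟨x', hx', e⟩ := hY hx
      rw [← θ.injective e]
      exact hx'
    have hi : _root_.Cfsg.Agent.H943.SL2Mod.Inv ρ (Y.comap (θ : LK →ₗ[KK] LK)) := by
      intro g x hx
      change θ (ρ g x) ∈ Y
      rw [h]
      exact hYi _ _ hx
    have hm : (Y.comap (θ : LK →ₗ[KK] LK)).map (θ : LK →ₗ[KK] LK) = Y :=
      Submodule.map_comap_eq_of_surjective θ.surjective Y
    rcases hX.2.2 _ hle hi with h1 | h1
    · left
      rw [← hm, h1, Submodule.map_bot]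
    · right
      rw [← hm, h1]

/-- **(a)** -/
theorem NN_map (θ : LK ≃ₗ[KK] LK) (α : _root_.Matrix.SpecialLinearGroup (Fin 2) F ≃* _root_.Matrix.SpecialLinearGroup (Fin 2) F)
    (h : ∀ s v, θ (ρ s v) = ρ (α s) (θ v)) (n : ℕ) : ∀ v ∈ NN ρ n, θ v ∈ NN ρ n := by
  have key : NN ρ n ≤ (NN ρ n).comap (θ : LK →ₗ[KK] LK) := by
    refine sSup_le ?_
    rintro X ⟨hX, hd⟩ x hx
    have h1 : Simp ρ (X.map (θ : LK →ₗ[KK] LK)) ∧ Module.finrank KK (X.map (θ : LK →ₗ[KK] LK)) = 2 ^ n :=
      ⟨Simp.map θ α h hX, by rw [LinearEquiv.finrank_map_eq, hd]⟩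
    exact (le_sSup h1 : _ ≤ NN ρ n) ⟨x, hx, rfl⟩
  exact key

/-- **(c)** -/
theorem NN_inv (n : ℕ) : _root_.Cfsg.Agent.H943.SL2Mod.Inv ρ (NN ρ n) := by
  intro g
  have key : NN ρ n ≤ (NN ρ n).comap (ρ g) := by
    refine sSup_le ?_
    rintro X ⟨hX, hd⟩ x hx
    exact (le_sSup ⟨hX, hd⟩ : X ≤ NN ρ n) (hX.1 g x hx)
  exact key

section frob

variable {Fp : LK → LK} (hadd : ∀ u v, Fp (u + v) = Fp u + Fp v) (hsmul : ∀ (c : KK) u, Fp (c • u) = c ^ 2 • Fp u)
  (hinj : Function.Injective Fp)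

include hadd in
theorem Fp_zero : Fp 0 = 0 := by
  have h1 := hadd 0 0
  rw [add_zero] at h1
  exact left_eq_add.1 h1

/-- the image of a subspace under the Frobenius map -/
def imF (X : Submodule KK LK) : Submodule KK LK where
  carrier := {v | ∃ x ∈ X, Fp x = v}
  add_mem' := by
    rintro _ _ ⟨a, ha, rfl⟩ ⟨b, hb, rfl⟩
    exact ⟨a + b, X.add_mem ha hb, hadd a b⟩
  zero_mem' := ⟨0, X.zero_mem, Fp_zero hadd⟩
  smul_mem' := by
    rintro c _ ⟨a, ha, rfl⟩
    obtain ⟨d, hd⟩ := IsAlgClosed.exists_pow_nat_eq c (n := 2) (by norm_num)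
    exact ⟨d • a, X.smul_mem d ha, by rw [hsmul, hd]⟩

include hinj in
theorem finrank_imF (X : Submodule KK LK) : Module.finrank KK (imF hadd hsmul X) = Module.finrank KK X := by
  let j : X ≃+ imF hadd hsmul X :=
    { Equiv.ofBijective (fun x : X => (⟨Fp x, x, x.2, rfl⟩ : imF hadd hsmul X))
        ⟨fun a b h => Subtype.ext (hinj (congrArg Subtype.val h)), by
          rintro ⟨_, x, hx, rfl⟩
          exact ⟨⟨x, hx⟩, rfl⟩⟩ with
      map_add' := fun a b => Subtype.ext (hadd a b) }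
  have hi : Function.Bijective (fun c : KK => c ^ 2) := by
    refine ⟨fun a b h => ?_, fun c => IsAlgClosed.exists_pow_nat_eq c (by norm_num)⟩
    exact frobenius_inj KK 2 h
  have h1 := rank_eq_of_equiv_equiv (fun c : KK => c ^ 2) j hi fun r m => Subtype.ext (hsmul r m)
  unfold Module.finrank
  rw [h1]

include hadd hsmul hinj in
theorem Simp.imF {ρ : Representation KK (_root_.Matrix.SpecialLinearGroup (Fin 2) F) LK} (h : ∀ s v, Fp (ρ s v) = ρ s (Fp v))
    {X : Submodule KK LK} (hX : Simp ρ X) : Simp ρ (imF hadd hsmul X) := by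
  have h00 := Fp_zero hadd
  refine ⟨?_, ?_, ?_⟩
  · rintro g _ ⟨x, hx, rfl⟩
    exact ⟨ρ g x, hX.1 _ x hx, h g x⟩
  · intro h0
    apply hX.2.1
    rw [eq_bot_iff]
    intro x hx
    have h1 : Fp x ∈ L16.imF hadd hsmul X := ⟨x, hx, rfl⟩
    rw [h0] at h1
    exact hinj (((Submodule.mem_bot KK).1 h1).trans h00.symm)
  · intro Y hY hYi
    let Y' : Submodule KK LK :=
      { carrier := {x | Fp x ∈ Y}
        add_mem' := fun {a b} ha hb => by
          change Fp (a + b) ∈ Y
          rw [hadd]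
          exact Y.add_mem ha hb
        zero_mem' := by
          change Fp 0 ∈ Y
          rw [h00]
          exact Y.zero_mem
        smul_mem' := fun c a ha => by
          change Fp (c • a) ∈ Y
          rw [hsmul]
          exact Y.smul_mem _ ha }
    have hle : Y' ≤ X := by
      intro x hx
      obtain ⟨x', hx', e⟩ := hY hx
      rw [← hinj e]
      exact hx'
    have hi : _root_.Cfsg.Agent.H943.SL2Mod.Inv ρ Y' := by
      intro g x hx
      change Fp (ρ g x) ∈ Y
      rw [h]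
      exact hYi _ _ hx
    rcases hX.2.2 _ hle hi with h1 | h1
    · left
      rw [eq_bot_iff]
      intro v hv
      obtain ⟨x, hx, rfl⟩ := hY hv
      have h2 : x ∈ Y' := hv
      rw [h1] at h2
      rw [(Submodule.mem_bot KK).1 h2, h00]
      exact Submodule.zero_mem _
    · right
      refine le_antisymm hY ?_
      rintro _ ⟨x, hx, rfl⟩
      rw [← h1] at hx
      exact hx

include hadd hsmul hinj in
/-- **(b)** -/
theorem NN_frob (h : ∀ s v, Fp (ρ s v) = ρ s (Fp v)) (n : ℕ) : ∀ v ∈ NN ρ n, Fp v ∈ NN ρ n := by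
  let Y' : Submodule KK LK :=
    { carrier := {x | Fp x ∈ NN ρ n}
      add_mem' := fun {a b} ha hb => by
        change Fp (a + b) ∈ NN ρ n
        rw [hadd]
        exact (NN ρ n).add_mem ha hb
      zero_mem' := by
        change Fp 0 ∈ NN ρ n
        rw [Fp_zero hadd]
        exact (NN ρ n).zero_mem
      smul_mem' := fun c a ha => by
        change Fp (c • a) ∈ NN ρ n
        rw [hsmul]
        exact (NN ρ n).smul_mem _ ha }
  have key : NN ρ n ≤ Y' := by
    refine sSup_le ?_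
    rintro X ⟨hX, hd⟩ x hx
    have h1 : Simp ρ (imF hadd hsmul X) ∧ Module.finrank KK (imF hadd hsmul X) = 2 ^ n :=
      ⟨Simp.imF hadd hsmul hinj h hX, by rw [finrank_imF hadd hsmul hinj, hd]⟩
    exact (le_sSup h1 : _ ≤ NN ρ n) ⟨x, hx, rfl⟩
  exact key

end frob

end stab

/-! ### families and simple submodules -/

section fam

variable {ρ}

/-- the span of a family is invariant -/
theorem inv_span {κ : Type*} [Fintype κ] {U : Type*} [AddCommGroup U] [Module KK U]
    {r : Representation KK (_root_.Matrix.SpecialLinearGroup (Fin 2) F) U} {c : _root_.Matrix.SpecialLinearGroup (Fin 2) F → κ → κ → KK} {w : κ → U}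
    (hw : ∀ s a, r s (w a) = ∑ b, c s b a • w b) : _root_.Cfsg.Agent.H943.SL2Mod.Inv r (Submodule.span KK (Set.range w)) := by
  intro g
  have key : Submodule.span KK (Set.range w) ≤ (Submodule.span KK (Set.range w)).comap (r g) := by
    refine Submodule.span_le.2 ?_
    rintro _ ⟨a, rfl⟩
    change r g (w a) ∈ Submodule.span KK (Set.range w)
    rw [hw]
    exact sum_mem fun b _ => Submodule.smul_mem _ _ (Submodule.subset_span ⟨b, rfl⟩)
  exact key

/-- **a non-zero family spans a simple submodule** -/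
theorem simp_of_fam {κ : Type*} [Fintype κ] {U : Type*} [AddCommGroup U] [Module KK U] [FiniteDimensional KK U]
    {r : Representation KK (_root_.Matrix.SpecialLinearGroup (Fin 2) F) U} (hr : Irr r) {f : κ → U}
    {c : _root_.Matrix.SpecialLinearGroup (Fin 2) F → κ → κ → KK} (hf : ∀ s a, r s (f a) = ∑ b, c s b a • f b) (hf0 : ∃ a, f a ≠ 0)
    (hd : Fintype.card κ = Module.finrank KK U) {w : κ → LK} (hw : ∀ s a, ρ s (w a) = ∑ b, c s b a • w b)
    (hw0 : ∃ a, w a ≠ 0) :
    Simp ρ (Submodule.span KK (Set.range w)) ∧ Module.finrank KK (Submodule.span KK (Set.range w)) = Fintype.card κ := by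
  have htop : Submodule.span KK (Set.range f) = ⊤ := by
    rcases hr.2 _ (inv_span hf) with h1 | h1
    · exfalso
      obtain ⟨a, ha⟩ := hf0
      have h2 : f a ∈ Submodule.span KK (Set.range f) := Submodule.subset_span ⟨a, rfl⟩
      rw [h1] at h2
      exact ha ((Submodule.mem_bot KK).1 h2)
    · exact h1
  let B : Module.Basis κ KK U := basisOfTopLeSpanOfCardEqFinrank f htop.ge hd
  have hB : ∀ a, B a = f a := fun a => by
    change (basisOfTopLeSpanOfCardEqFinrank f htop.ge hd) a = f a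
    rw [coe_basisOfTopLeSpanOfCardEqFinrank]
  let Ψ : U →ₗ[KK] LK := B.constr KK w
  have hΨ : ∀ a, Ψ (f a) = w a := fun a => by
    rw [← hB]
    exact B.constr_basis KK w a
  have hint : ∀ s x, Ψ (r s x) = ρ s (Ψ x) := by
    intro s
    have h1 : Ψ ∘ₗ (r s) = (ρ s) ∘ₗ Ψ := by
      apply B.ext
      intro a
      rw [LinearMap.comp_apply, LinearMap.comp_apply, hB, hf, hΨ, hw, map_sum]
      exact Finset.sum_congr rfl fun b _ => by rw [map_smul, hΨ]
    exact fun x => LinearMap.congr_fun h1 x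
  have hker : LinearMap.ker Ψ = ⊥ := by
    have hi : _root_.Cfsg.Agent.H943.SL2Mod.Inv r (LinearMap.ker Ψ) := by
      intro g x hx
      rw [LinearMap.mem_ker] at hx ⊢
      rw [hint, hx, map_zero]
    rcases hr.2 _ hi with h1 | h1
    · exact h1
    · exfalso
      obtain ⟨a, ha⟩ := hw0
      have h2 : f a ∈ LinearMap.ker Ψ := by rw [h1]; trivial
      rw [LinearMap.mem_ker, hΨ] at h2
      exact ha h2
  have hinj : Function.Injective Ψ := LinearMap.ker_eq_bot.1 hker
  have hrange : LinearMap.range Ψ = Submodule.span KK (Set.range w) := B.constr_range KK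
  rw [← hrange]
  refine ⟨⟨?_, ?_, ?_⟩, ?_⟩
  · rw [hrange]
    exact inv_span hw
  · intro h0
    obtain ⟨a, ha⟩ := hw0
    have h1 : w a ∈ LinearMap.range Ψ := ⟨f a, hΨ a⟩
    rw [h0] at h1
    exact ha ((Submodule.mem_bot KK).1 h1)
  · intro Y hY hYi
    have hi : _root_.Cfsg.Agent.H943.SL2Mod.Inv r (Y.comap Ψ) := by
      intro g x hx
      change Ψ (r g x) ∈ Y
      rw [hint]
      exact hYi _ _ hx
    have hm : (Y.comap Ψ).map Ψ = Y := by
      rw [Submodule.map_comap_eq]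
      exact inf_eq_right.2 hY
    rcases hr.2 _ hi with h1 | h1
    · left; rw [← hm, h1, Submodule.map_bot]
    · right; rw [← hm, h1, Submodule.map_top]
  · rw [LinearMap.finrank_range_of_inj hinj, hd]

section dat

variable [DecidableEq F] {ι : F →+* KK} {P : _root_.Matrix.SpecialLinearGroup (Fin 2) F →* Matrix (Fin 2) (Fin 2) KK}
  {y t0 : _root_.Matrix.SpecialLinearGroup (Fin 2) F} {ζ : KK}

theorem neg_one_pow' (n : ℕ) : (-1 : KK) ^ n = 1 := by
  have h2 : (2 : KK) = 0 := by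
    have := CharP.cast_eq_zero KK 2
    exact_mod_cast this
  have hneg : (-1 : KK) = 1 := by
    have : (1 : KK) + 1 = 0 := by rw [one_add_one_eq_two, h2]
    exact neg_eq_of_add_eq_zero_left this
  rw [hneg, one_pow]

/-- the number of odd binomial coefficients -/
def Bm (b : ℕ) : Finset ℕ := (Finset.range (b + 1)).filter fun m => b.choose m % 2 = 1

theorem finrank_Vb [CharP F 2] {b : ℕ} (hb : b ≤ Fintype.card F - 1) :
    Module.finrank KK (Vb ι b) = (Bm b).card := by
  classical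
  obtain ⟨e, -⟩ := Cfsg.Agent.H179.SLC.exists_coord ι 2 ι.injective (neg_one_pow' _) hb
  rw [← e.finrank_eq, Module.finrank_fintype_fun_eq_card, Fintype.card_coe]
  congr 1
  unfold Bf Bm
  refine Finset.filter_congr fun m _ => ?_
  rw [Ne, CharP.cast_eq_zero_iff KK 2]
  omega

variable (D : PDat ι P y t0 ζ)

include D in
theorem F2 : CharP F 2 := F_char D.card

/-- the exponents -/
theorem Hm1 : ∀ i < 4, (∀ m ∈ [0, 2 ^ i], m ∈ Bb KK (2 ^ i)) := by
  intro i hi
  interval_cases i <;> intro m hm <;> fin_cases hm <;> exact mem_Bb_of (by norm_num) (by decide)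

theorem Hm2 : ∀ i j, i < j → j < 4 → (∀ m ∈ [0, 2 ^ i, 2 ^ j, 2 ^ i + 2 ^ j], m ∈ Bb KK (2 ^ i + 2 ^ j)) := by
  intro i j hij hj
  interval_cases j <;> interval_cases i <;> intro m hm <;> fin_cases hm <;> exact mem_Bb_of (by norm_num) (by decide)

theorem Hm3 : ∀ i j l, i < j → j < l → l < 4 →
    (∀ m ∈ [0, 2 ^ i, 2 ^ j, 2 ^ l, 2 ^ i + 2 ^ j, 2 ^ i + 2 ^ l, 2 ^ j + 2 ^ l, 2 ^ i + 2 ^ j + 2 ^ l],
      m ∈ Bb KK (2 ^ i + 2 ^ j + 2 ^ l)) := by
  intro i j l hij hjl hl
  interval_cases l <;> interval_cases j <;> interval_cases i <;> intro m hm <;> fin_cases hm <;>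
    exact mem_Bb_of (by norm_num only []) (by decide)

include D in
/-- **a family with one exponent spans a simple submodule of dimension 2** -/
theorem simp_of_fam1 {i : ℕ} (hi : i < 4) {w : Fin 2 → LK} (hw : Fam1 P ρ i w) (hw0 : w ≠ 0) :
    Simp ρ (Submodule.span KK (Set.range w)) ∧ Module.finrank KK (Submodule.span KK (Set.range w)) = 2 ^ 1 := by
  classical
  have := F2 D
  have hs1 := neg_one_pow' (Fintype.card F - 1)
  have hb : 2 ^ i ≤ Fintype.card F - 1 := by
    rw [D.card]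
    interval_cases i <;> norm_num
  obtain ⟨f, hf, hf0, -⟩ := fam1 (Cfsg.Agent.H179.SLC.rb ι 2 hs1 hb) D hs1 hb LinearMap.id Function.injective_id
    (fun _ _ => rfl) (Hm1 i hi)
  have h1 := simp_of_fam (ρ := ρ) (Cfsg.Agent.H179.SLC.irr_rb ι 2 ι.injective hs1 hb) (f := f)
    (c := fun s b a => (P s b a) ^ 2 ^ i) hf (Function.ne_iff.1 hf0) (by
      rw [finrank_Vb hb]
      interval_cases i <;> decide) hw (Function.ne_iff.1 hw0)
  exact h1

include D in
/-- **a family with two exponents spans a simple submodule of dimension 4** -/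
theorem simp_of_fam2 {i j : ℕ} (hij : i < j) (hj : j < 4) {w : Fin 2 → Fin 2 → LK} (hw : Fam2 P ρ i j w) (hw0 : w ≠ 0) :
    Simp ρ (Submodule.span KK (Set.range fun a : Fin 2 × Fin 2 => w a.1 a.2)) ∧
      Module.finrank KK (Submodule.span KK (Set.range fun a : Fin 2 × Fin 2 => w a.1 a.2)) = 2 ^ 2 := by
  classical
  have := F2 D
  have hs1 := neg_one_pow' (Fintype.card F - 1)
  have hb : 2 ^ i + 2 ^ j ≤ Fintype.card F - 1 := by
    rw [D.card]
    interval_cases j <;> interval_cases i <;> norm_num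
  obtain ⟨f, hf, hf0, -⟩ := fam2 (Cfsg.Agent.H179.SLC.rb ι 2 hs1 hb) D hs1 hb LinearMap.id Function.injective_id
    (fun _ _ => rfl) (Hm2 i j hij hj)
  have hne : ∀ {U : Type} [AddCommGroup U] {w : Fin 2 → Fin 2 → U}, w ≠ 0 → ∃ a : Fin 2 × Fin 2, w a.1 a.2 ≠ 0 := by
    intro U _ w h
    obtain ⟨a, ha⟩ := Function.ne_iff.1 h
    obtain ⟨b, hb⟩ := Function.ne_iff.1 ha
    exact ⟨(a, b), hb⟩
  have h1 := simp_of_fam (ρ := ρ) (Cfsg.Agent.H179.SLC.irr_rb ι 2 ι.injective hs1 hb)
    (f := fun a : Fin 2 × Fin 2 => f a.1 a.2)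
    (c := fun s b a => (P s b.1 a.1) ^ 2 ^ i * (P s b.2 a.2) ^ 2 ^ j) (fun s a => by rw [Fintype.sum_prod_type]; exact hf s _ _)
    (hne hf0) (by
      rw [finrank_Vb hb]
      interval_cases j <;> interval_cases i <;> decide) (fun s a => by rw [Fintype.sum_prod_type]; exact hw s _ _) (hne hw0)
  exact h1

include D in
/-- **a family with three exponents spans a simple submodule of dimension 8** -/
theorem simp_of_fam3 {i j l : ℕ} (hij : i < j) (hjl : j < l) (hl : l < 4) {w : Fin 2 → Fin 2 → Fin 2 → LK}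
    (hw : Fam3 P ρ i j l w) (hw0 : w ≠ 0) :
    Simp ρ (Submodule.span KK (Set.range fun a : Fin 2 × Fin 2 × Fin 2 => w a.1 a.2.1 a.2.2)) ∧
      Module.finrank KK (Submodule.span KK (Set.range fun a : Fin 2 × Fin 2 × Fin 2 => w a.1 a.2.1 a.2.2)) = 2 ^ 3 := by
  classical
  have := F2 D
  have hs1 := neg_one_pow' (Fintype.card F - 1)
  have hb : 2 ^ i + 2 ^ j + 2 ^ l ≤ Fintype.card F - 1 := by
    rw [D.card]
    interval_cases l <;> interval_cases j <;> interval_cases i <;> norm_num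
  obtain ⟨f, hf, hf0, -⟩ := fam3 (Cfsg.Agent.H179.SLC.rb ι 2 hs1 hb) D hs1 hb LinearMap.id Function.injective_id
    (fun _ _ => rfl) (Hm3 i j l hij hjl hl)
  have hne : ∀ {U : Type} [AddCommGroup U] {w : Fin 2 → Fin 2 → Fin 2 → U}, w ≠ 0 →
      ∃ a : Fin 2 × Fin 2 × Fin 2, w a.1 a.2.1 a.2.2 ≠ 0 := by
    intro U _ w h
    obtain ⟨a, ha⟩ := Function.ne_iff.1 h
    obtain ⟨b, hb⟩ := Function.ne_iff.1 ha
    obtain ⟨c, hc⟩ := Function.ne_iff.1 hb
    exact ⟨(a, b, c), hc⟩
  have h1 := simp_of_fam (ρ := ρ) (Cfsg.Agent.H179.SLC.irr_rb ι 2 ι.injective hs1 hb)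
    (f := fun a : Fin 2 × Fin 2 × Fin 2 => f a.1 a.2.1 a.2.2)
    (c := fun s b a => (P s b.1 a.1) ^ 2 ^ i * (P s b.2.1 a.2.1) ^ 2 ^ j * (P s b.2.2 a.2.2) ^ 2 ^ l)
    (fun s a => by
      rw [Fintype.sum_prod_type]
      simp only [Fintype.sum_prod_type]
      exact hf s _ _ _)
    (hne hf0) (by
      rw [finrank_Vb hb]
      interval_cases l <;> interval_cases j <;> interval_cases i <;> decide) (fun s a => by
      rw [Fintype.sum_prod_type]
      simp only [Fintype.sum_prod_type]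
      exact hw s _ _ _) (hne hw0)
  exact h1

include D in
/-- the vectors of the families lie in `NN` -/
theorem famV_le (n : ℕ) : FamV P ρ n ⊆ NN ρ n := by
  classical
  rintro v (⟨rfl, i, hi, w, hw, a, rfl⟩ | ⟨rfl, i, j, hij, hj, w, hw, a, b, rfl⟩ |
    ⟨rfl, i, j, l, hij, hjl, hl, w, hw, a, b, c, rfl⟩)
  · by_cases h0 : w = 0
    · rw [h0]
      exact Submodule.zero_mem _
    · exact (le_sSup (simp_of_fam1 D hi hw h0) : _ ≤ NN ρ 1) (Submodule.subset_span ⟨a, rfl⟩)
  · by_cases h0 : w = 0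
    · rw [h0]
      exact Submodule.zero_mem _
    · exact (le_sSup (simp_of_fam2 D hij hj hw h0) : _ ≤ NN ρ 2) (Submodule.subset_span ⟨(a, b), rfl⟩)
  · by_cases h0 : w = 0
    · rw [h0]
      exact Submodule.zero_mem _
    · exact (le_sSup (simp_of_fam3 D hij hjl hl hw h0) : _ ≤ NN ρ 3) (Submodule.subset_span ⟨(a, b, c), rfl⟩)

theorem tab1 : ∀ b ≤ 15, (Bm b).card = 2 ^ 1 → ∃ i < 4, b = 2 ^ i := by decide +kernel

theorem tab2 : ∀ b ≤ 15, (Bm b).card = 2 ^ 2 → ∃ i < 4, ∃ j < 4, i < j ∧ b = 2 ^ i + 2 ^ j := by decide +kernel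

theorem tab3 : ∀ b ≤ 15, (Bm b).card = 2 ^ 3 → ∃ i < 4, ∃ j < 4, ∃ l < 4, i < j ∧ j < l ∧ b = 2 ^ i + 2 ^ j + 2 ^ l := by
  decide +kernel

/-- the span of a family in a simple submodule -/
theorem span_eq {κ : Type*} [Fintype κ] {X : Submodule KK LK} (hX : Simp ρ X)
    {c : _root_.Matrix.SpecialLinearGroup (Fin 2) F → κ → κ → KK} {w : κ → LK} (hw : ∀ s a, ρ s (w a) = ∑ b, c s b a • w b)
    (hw0 : ∃ a, w a ≠ 0) (hwX : ∀ a, w a ∈ X) : Submodule.span KK (Set.range w) = X := by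
  rcases hX.2.2 _ (Submodule.span_le.2 (by rintro _ ⟨a, rfl⟩; exact hwX a)) (inv_span hw) with h1 | h1
  · exfalso
    obtain ⟨a, ha⟩ := hw0
    have h2 : w a ∈ Submodule.span KK (Set.range w) := Submodule.subset_span ⟨a, rfl⟩
    rw [h1] at h2
    exact ha ((Submodule.mem_bot KK).1 h2)
  · exact h1

include D in
/-- **simple submodules of dimension 2, 4, 8 are spanned by families** -/
theorem le_span_famV {n : ℕ} (hn : n = 1 ∨ n = 2 ∨ n = 3) {X : Submodule KK LK} (hX : Simp ρ X)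
    (hd : Module.finrank KK X = 2 ^ n) : X ≤ Submodule.span KK (FamV P ρ n) := by
  classical
  have := F2 D
  have hs1 := neg_one_pow' (Fintype.card F - 1)
  obtain ⟨b, hb, Φ, hinj, hmem, hΦ⟩ := exists_emb (ι := ι) ρ hs1 X hX.1 hX.2.1
  have hb' : b ≤ 15 := by rw [D.card] at hb; exact hb
  have hrX : LinearMap.range Φ = X := by
    have hir := Cfsg.Agent.H179.SLC.irr_rb ι 2 ι.injective hs1 hb
    rcases hX.2.2 (LinearMap.range Φ) (by rintro _ ⟨x, rfl⟩; exact hmem x) (by
      rintro g _ ⟨x, rfl⟩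
      exact ⟨_, hΦ g x⟩) with h1 | h1
    · exfalso
      have := hir.1
      obtain ⟨x, hx⟩ := exists_ne (0 : Vb ι b)
      have h2 : Φ x ∈ LinearMap.range Φ := ⟨x, rfl⟩
      rw [h1] at h2
      exact hx (hinj (((Submodule.mem_bot KK).1 h2).trans (map_zero Φ).symm))
    · exact h1
  have hcard : (Bm b).card = 2 ^ n := by
    rw [← finrank_Vb (ι := ι) hb, ← hd, ← hrX, LinearMap.finrank_range_of_inj hinj]
  rcases hn with rfl | rfl | rfl
  · obtain ⟨i, hi, rfl⟩ := tab1 b hb' hcard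
    obtain ⟨w, hw, hw0, hwL⟩ := fam1 ρ D hs1 hb Φ hinj hΦ (Hm1 i hi)
    rw [hrX] at hwL
    rw [← span_eq hX (c := fun s b a => (P s b a) ^ 2 ^ i) hw (Function.ne_iff.1 hw0) hwL]
    refine Submodule.span_mono ?_
    rintro _ ⟨a, rfl⟩
    exact Or.inl ⟨rfl, i, hi, w, hw, a, rfl⟩
  · obtain ⟨i, hi, j, hj, hij, rfl⟩ := tab2 b hb' hcard
    obtain ⟨w, hw, hw0, hwL⟩ := fam2 ρ D hs1 hb Φ hinj hΦ (Hm2 i j hij hj)
    rw [hrX] at hwL
    obtain ⟨a, ha⟩ := Function.ne_iff.1 hw0
    obtain ⟨b, hb⟩ := Function.ne_iff.1 ha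
    rw [← span_eq hX (c := fun s b a => (P s b.1 a.1) ^ 2 ^ i * (P s b.2 a.2) ^ 2 ^ j)
      (w := fun a : Fin 2 × Fin 2 => w a.1 a.2) (fun s a => by rw [Fintype.sum_prod_type]; exact hw s _ _) ⟨(a, b), hb⟩
      (fun a => hwL _ _)]
    refine Submodule.span_mono ?_
    rintro _ ⟨a, rfl⟩
    exact Or.inr (Or.inl ⟨rfl, i, j, hij, hj, w, hw, a.1, a.2, rfl⟩)
  · obtain ⟨i, hi, j, hj, l, hl, hij, hjl, rfl⟩ := tab3 b hb' hcard
    obtain ⟨w, hw, hw0, hwL⟩ := fam3 ρ D hs1 hb Φ hinj hΦ (Hm3 i j l hij hjl hl)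
    rw [hrX] at hwL
    obtain ⟨a, ha⟩ := Function.ne_iff.1 hw0
    obtain ⟨b, hb⟩ := Function.ne_iff.1 ha
    obtain ⟨c, hc⟩ := Function.ne_iff.1 hb
    rw [← span_eq hX (c := fun s b a => (P s b.1 a.1) ^ 2 ^ i * (P s b.2.1 a.2.1) ^ 2 ^ j * (P s b.2.2 a.2.2) ^ 2 ^ l)
      (w := fun a : Fin 2 × Fin 2 × Fin 2 => w a.1 a.2.1 a.2.2) (fun s a => by
        rw [Fintype.sum_prod_type]
        simp only [Fintype.sum_prod_type]
        exact hw s _ _ _) ⟨(a, b, c), hc⟩
      (fun a => hwL _ _ _)]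
    refine Submodule.span_mono ?_
    rintro _ ⟨a, rfl⟩
    exact Or.inr (Or.inr ⟨rfl, i, j, l, hij, hjl, hl, w, hw, a.1, a.2.1, a.2.2, rfl⟩)

include D in
/-- **(d)** -/
theorem NN_eq {n : ℕ} (hn : n = 1 ∨ n = 2 ∨ n = 3) : NN ρ n = Submodule.span KK (FamV P ρ n) := by
  refine le_antisymm ?_ (Submodule.span_le.2 (famV_le D n))
  refine sSup_le ?_
  rintro X ⟨hX, hd⟩
  exact le_span_famV D hn hX hd

include D in
/-- **(d)** -/
theorem NN_le {n : ℕ} (hn : n = 1 ∨ n = 2 ∨ n = 3) :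
    NN ρ n ≤ Submodule.span KK (FamV P ρ n ∩ (NN ρ n : Set LK)) := by
  rw [Set.inter_eq_left.2 (famV_le D n), ← NN_eq D hn]

include D in
/-- **(e)** -/
theorem exists_min (hfix : ∀ v, (∀ s, ρ s v = v) → v = 0) (hy : ∃ v, v ≠ 0 ∧ ρ y v = v) :
    ∃ n, (n = 1 ∨ n = 2 ∨ n = 3) ∧ NN ρ n ≠ ⊥ ∧ MinF P ρ n := by
  classical
  obtain ⟨v, hv0, hv⟩ := hy
  have hfam := exists_fam ρ D ⊤ (fun _ _ _ => Submodule.mem_top) (fun v _ hv => hfix v hv) Submodule.mem_top hv hv0
  have hbot : ∀ {n : ℕ} {v : LK}, v ∈ FamV P ρ n → v ≠ 0 → NN ρ n ≠ ⊥ := by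
    intro n v hv h0 h1
    have h2 := famV_le D n hv
    rw [h1] at h2
    exact h0 ((Submodule.mem_bot KK).1 h2)
  by_cases h1 : ∃ i < 4, ∃ w, Fam1 P ρ i w ∧ w ≠ 0
  · obtain ⟨i, hi, w, hw, hw0⟩ := h1
    obtain ⟨a, ha⟩ := Function.ne_iff.1 hw0
    exact ⟨1, Or.inl rfl, hbot (v := w a) (Or.inl ⟨rfl, i, hi, w, hw, a, rfl⟩) ha, hfix,
      fun h => absurd h (by norm_num), fun h => absurd h (by norm_num)⟩
  push Not at h1
  by_cases h2 : ∃ i < 4, ∃ j < 4, i ≠ j ∧ ∃ w, Fam2 P ρ i j w ∧ w ≠ 0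
  · obtain ⟨i, hi, j, hj, hij, w, hw, hw0⟩ := h2
    have hsw : ∃ i j, i < j ∧ j < 4 ∧ ∃ w, Fam2 P ρ i j w ∧ w ≠ 0 := by
      rcases lt_or_gt_of_ne hij with h | h
      · exact ⟨i, j, h, hj, w, hw, hw0⟩
      · refine ⟨j, i, h, hi, fun a b => w b a, fun s a c => ?_, fun h0 => hw0 ?_⟩
        · rw [hw s c a, Finset.sum_comm]
          exact Finset.sum_congr rfl fun b _ => Finset.sum_congr rfl fun d _ => by rw [mul_comm]
        · funext a b
          exact congrFun (congrFun h0 b) a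
    obtain ⟨i, j, hij, hj, w, hw, hw0⟩ := hsw
    obtain ⟨a, ha⟩ := Function.ne_iff.1 hw0
    obtain ⟨b, hb⟩ := Function.ne_iff.1 ha
    exact ⟨2, Or.inr (Or.inl rfl), hbot (v := w a b) (Or.inr (Or.inl ⟨rfl, i, j, hij, hj, w, hw, a, b, rfl⟩)) hb, hfix,
      fun _ => h1, fun h => absurd h (by norm_num)⟩
  push Not at h2
  rcases hfam with ⟨i, hi, w, hw, hw0, -⟩ | ⟨i, j, hij, hj, w, hw, hw0, -⟩ | ⟨i, j, l, hij, hjl, hl, w, hw, hw0, -⟩
  · exact absurd (h1 i hi w hw) hw0
  · exact absurd (h2 i (hij.trans hj) j hj (Nat.ne_of_lt hij) w hw) hw0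
  · obtain ⟨a, ha⟩ := Function.ne_iff.1 hw0
    obtain ⟨b, hb⟩ := Function.ne_iff.1 ha
    obtain ⟨c, hc⟩ := Function.ne_iff.1 hb
    exact ⟨3, Or.inr (Or.inr rfl),
      hbot (v := w a b c) (Or.inr (Or.inr ⟨rfl, i, j, l, hij, hjl, hl, w, hw, a, b, c, rfl⟩)) hc, hfix,
      fun _ => h1, fun _ => h2⟩

end dat

end fam

end Cfsg.Agent.H493.L16
end

-- part: H911/L16/Wts
section
/-!
# S5916 (helper911): eigenvectors of the element of order 17 and the weight spaces
-/

set_option autoImplicit false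
set_option maxRecDepth 100000

namespace Cfsg.Agent.H911.L16

open Matrix Cfsg Cfsg.Lie
open Cfsg.Agent.H939.L64 (KK E2 LK em aK rE fr brK frE frE_rE frE_apply rE_apply)
open Cfsg.Agent.H413.L16 (er hv hr tg nr single_eq er_of)
open Cfsg.Agent.H939.L16
open Cfsg.Agent.H955.L16

theorem aK_mul (g h : ↥(chevE8.group KK)) (v : LK) : aK (g * h) v = aK g (aK h v) := by
  unfold aK
  rw [Subgroup.coe_mul, Units.val_mul, Matrix.mulVec_mulVec]

theorem aK_one (v : LK) : aK 1 v = v := by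
  unfold aK
  rw [Subgroup.coe_one, Units.val_one, Matrix.one_mulVec]

variable {F : Type} [Field F] [Fintype F] {H : Subgroup E2} {f : _root_.Matrix.SpecialLinearGroup (Fin 2) F →* E2}
  {y t0 : _root_.Matrix.SpecialLinearGroup (Fin 2) F} {z : ↥(chevE8.group KK)} {ζ' : KK} {Fp : LK → LK} {ta : LK →ₗ[KK] LK}

/-- the Frobenius map of the frame commutes with the group -/
theorem rz_fp (L : Lsit H f y t0 z ζ' Fp ta) (s : _root_.Matrix.SpecialLinearGroup (Fin 2) F) (v : LK) :
    rz z f s (Fp v) = Fp (rz z f s v) := by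
  have h1 : v = aK z⁻¹ (aK z v) := by rw [← aK_mul, inv_mul_cancel, aK_one]
  rw [h1, ← L.frob, rz_apply, rz_apply, ← aK_mul, ← aK_mul, mul_assoc, mul_inv_cancel, mul_one, aK_mul, aK_mul,
    ← L.frob]
  congr 1
  exact (frE_rE (f s) (aK z v)).symm

theorem fp_surj (L : Lsit H f y t0 z ζ' Fp ta) : Function.Surjective Fp := by
  intro v
  refine ⟨aK z⁻¹ (frE.symm (aK z v)), ?_⟩
  rw [← L.frob]
  have h1 : fr (frE.symm (aK z v)) = aK z v := frE.apply_symm_apply _
  rw [h1, ← aK_mul, inv_mul_cancel, aK_one]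

/-- the element of order 17 is diagonal -/
theorem rz_y (L : Lsit H f y t0 z ζ' Fp ta) (v : LK) (k : chevE8.Idx) :
    rz z f y v k = Sum.elim (fun _ => (1 : KK)) (fun s : Fin chevE8.nroots => ζ' ^ (wt16 s).val) k * v k := by
  let Dm : LK →ₗ[KK] LK :=
    LinearMap.pi fun k => (Sum.elim (fun _ => (1 : KK)) (fun s : Fin chevE8.nroots => ζ' ^ (wt16 s).val) k) •
      LinearMap.proj k
  have hD : ∀ (v : LK) k, Dm v k =
      Sum.elim (fun _ => (1 : KK)) (fun s : Fin chevE8.nroots => ζ' ^ (wt16 s).val) k * v k := fun v k => rfl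
  have h1 : rz z f y = Dm := by
    refine LinearMap.pi_ext' fun i => ?_
    refine LinearMap.ext_ring ?_
    rw [LinearMap.comp_apply, LinearMap.comp_apply, LinearMap.single_apply, single_eq]
    rcases i with i | s
    · show rz z f y (hv (Pi.single i 1)) = Dm (hv (Pi.single i 1))
      rw [L.yhv]
      funext k
      rw [hD]
      rcases k with k | k
      · rw [Sum.elim_inl, one_mul]
      · show (0 : KK) = _ * 0
        rw [mul_zero]
    · show rz z f y (er s) = Dm (er s)
      rw [L.yer _ (lt_of_lt_of_eq s.2 nr)]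
      funext k
      rw [hD, Pi.smul_apply, smul_eq_mul, er_of s.2]
      by_cases hk : k = Sum.inr s
      · subst hk
        rfl
      · rw [Pi.single_eq_of_ne hk, mul_zero, mul_zero]
  rw [h1]
  exact hD v k

theorem eq_sum (v : LK) : v = hv (fun i => v (Sum.inl i)) + ∑ s : Fin chevE8.nroots, v (Sum.inr s) • er s := by
  funext k
  rw [Pi.add_apply, Finset.sum_apply]
  rcases k with i | s
  · rw [Finset.sum_eq_zero, add_zero]
    · rfl
    · intro s _
      rw [Pi.smul_apply, er_of s.2, Pi.single_eq_of_ne (by simp), smul_zero]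
  · rw [Finset.sum_eq_single s]
    · rw [Pi.smul_apply, er_of s.2, Pi.single_eq_same, smul_eq_mul, mul_one]
      show _ = (0 : KK) + _
      rw [zero_add]
    · intro b _ hb
      rw [Pi.smul_apply, er_of b.2, Pi.single_eq_of_ne, smul_zero]
      intro h
      exact hb (Sum.inr.inj h).symm
    · intro h
      exact absurd (Finset.mem_univ _) h

/-- eigenvectors lie in the weight spaces -/
theorem mem_Wt (L : Lsit H f y t0 z ζ' Fp ta) {n : ℕ} (hn : (n : ZMod 17) ≠ 0) {v : LK}
    (h : rz z f y v = ζ' ^ n • v) : v ∈ Wt (n : ZMod 17) := by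
  have hc : ∀ i, v (Sum.inl i) = 0 := by
    intro i
    have h1 := congrFun h (Sum.inl i)
    rw [rz_y L, Sum.elim_inl, one_mul, Pi.smul_apply, smul_eq_mul] at h1
    have h2 : (1 - ζ' ^ n) * v (Sum.inl i) = 0 := by linear_combination h1
    refine (mul_eq_zero.1 h2).resolve_left fun h3 => hn ?_
    have h4 : ζ' ^ n = 1 := (sub_eq_zero.1 h3).symm
    exact (ZMod.natCast_eq_zero_iff n 17).2 ((L.prim.pow_eq_one_iff_dvd n).1 h4)
  have hs : ∀ s : Fin chevE8.nroots, v (Sum.inr s) ≠ 0 → wt16 s = (n : ZMod 17) := by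
    intro s hs
    have h1 := congrFun h (Sum.inr s)
    rw [rz_y L, Sum.elim_inr, Pi.smul_apply, smul_eq_mul] at h1
    have h2 := mul_right_cancel₀ hs h1
    have h3 : ζ' ^ (wt16 s).val = ζ' ^ (n : ZMod 17).val := by
      rw [h2, ZMod.val_natCast]
      exact (pow_mod_orderOf ζ' n).symm.trans (by rw [← L.prim.eq_orderOf])
    exact ZMod.val_injective 17 (L.prim.pow_inj (ZMod.val_lt _) (ZMod.val_lt _) h3)
  rw [eq_sum v]
  have h0 : hv (fun i => v (Sum.inl i)) = 0 := by
    funext k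
    rcases k with i | s
    · exact hc i
    · rfl
  rw [h0, zero_add]
  refine Submodule.sum_mem _ fun s _ => ?_
  by_cases h1 : v (Sum.inr s) = 0
  · rw [h1, zero_smul]
    exact Submodule.zero_mem _
  · exact Submodule.smul_mem _ _ (Submodule.subset_span ⟨s, lt_of_lt_of_eq s.2 nr, hs s h1, rfl⟩)

theorem fp_eigen_inv (L : Lsit H f y t0 z ζ' Fp ta) {n : ℕ} {v : LK} (h : rz z f y (Fp v) = ζ' ^ (2 * n) • Fp v) :
    rz z f y v = ζ' ^ n • v := by
  apply L.ops.inj
  rw [← rz_fp L, h, L.ops.smul, ← pow_mul, mul_comm]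

end Cfsg.Agent.H911.L16
end

-- part: H911/L16/FamT
section
/-!
# S5916 (helper911): families, Frobenius twists, flips and permutations of the indices
-/

set_option autoImplicit false
set_option linter.unusedSectionVars false

namespace Cfsg.Agent.H911.L16

open Matrix
open Cfsg.Agent.H280.L16

section

variable {k : Type*} [Field k] [CharP k 2] {F : Type*} [Field F] [Fintype F] {ι : F →+* k}
  {P : _root_.Matrix.SpecialLinearGroup (Fin 2) F →* Matrix (Fin 2) (Fin 2) k} {y t0 : _root_.Matrix.SpecialLinearGroup (Fin 2) F} {ζ : k}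
  {V : Type*} [AddCommGroup V] [Module k V] {ρ : Representation k (_root_.Matrix.SpecialLinearGroup (Fin 2) F) V}

/-- semilinear maps commuting with the group -/
structure Tw (ρ : Representation k (_root_.Matrix.SpecialLinearGroup (Fin 2) F) V) (Th : V → V) : Prop where
  add : ∀ u v, Th (u + v) = Th u + Th v
  smul : ∀ (c : k) u, Th (c • u) = c ^ 2 • Th u
  comm : ∀ s v, ρ s (Th v) = Th (ρ s v)
  inj : Function.Injective Th
  surj : Function.Surjective Th

variable {Th : V → V}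

theorem Tw.zero (h : Tw ρ Th) : Th 0 = 0 := by
  have := h.smul 0 0
  simpa using this

theorem Tw.sum2 (h : Tw ρ Th) (u : Fin 2 → V) : Th (∑ i, u i) = ∑ i, Th (u i) := by
  rw [Fin.sum_univ_two, Fin.sum_univ_two, h.add]

theorem pw (x : k) (i : ℕ) : (x ^ 2 ^ i) ^ 2 = x ^ 2 ^ (i + 1) := by rw [← pow_mul, ← pow_succ]

/-! ### twists -/

theorem fam1_th (h : Tw ρ Th) {i : ℕ} {w : Fin 2 → V} : Fam1 P ρ (i + 1) (fun a => Th (w a)) ↔ Fam1 P ρ i w := by
  unfold Fam1
  refine forall_congr' fun s => forall_congr' fun a => ?_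
  rw [h.comm, ← h.inj.eq_iff (a := ρ s (w a)), h.sum2]
  simp only [h.smul, pw]

theorem fam2_th (h : Tw ρ Th) {i j : ℕ} {w : Fin 2 → Fin 2 → V} :
    Fam2 P ρ (i + 1) (j + 1) (fun a c => Th (w a c)) ↔ Fam2 P ρ i j w := by
  unfold Fam2
  refine forall_congr' fun s => forall_congr' fun a => forall_congr' fun c => ?_
  rw [h.comm, ← h.inj.eq_iff (a := ρ s (w a c)), h.sum2]
  simp only [h.sum2, h.smul, mul_pow, pw]

theorem fam3_th (h : Tw ρ Th) {i j l : ℕ} {w : Fin 2 → Fin 2 → Fin 2 → V} :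
    Fam3 P ρ (i + 1) (j + 1) (l + 1) (fun a c e => Th (w a c e)) ↔ Fam3 P ρ i j l w := by
  unfold Fam3
  refine forall_congr' fun s => forall_congr' fun a => forall_congr' fun c => forall_congr' fun e => ?_
  rw [h.comm, ← h.inj.eq_iff (a := ρ s (w a c e)), h.sum2]
  simp only [h.sum2, h.smul, mul_pow, pw]

/-! ### statements for all families of a type -/

variable (P ρ)

def All1 (G : V → Prop) (i : ℕ) : Prop := ∀ w, Fam1 P ρ i w → ∀ a, G (w a)

def All2 (G : V → Prop) (i j : ℕ) : Prop := ∀ w, Fam2 P ρ i j w → ∀ a c, G (w a c)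

def All3 (G : V → Prop) (i j l : ℕ) : Prop := ∀ w, Fam3 P ρ i j l w → ∀ a c e, G (w a c e)

variable {P ρ} {G : V → Prop}

theorem All1.th (h : Tw ρ Th) (hG : ∀ v, G v → G (Th v)) {i : ℕ} (hA : All1 P ρ G i) : All1 P ρ G (i + 1) := by
  intro w hw a
  choose w' hw' using fun a => h.surj (w a)
  obtain rfl : (fun a => Th (w' a)) = w := funext hw'
  exact hG _ (hA w' ((fam1_th h).1 hw) a)

theorem All2.th (h : Tw ρ Th) (hG : ∀ v, G v → G (Th v)) {i j : ℕ} (hA : All2 P ρ G i j) :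
    All2 P ρ G (i + 1) (j + 1) := by
  intro w hw a c
  choose w' hw' using fun a c => h.surj (w a c)
  obtain rfl : (fun a c => Th (w' a c)) = w := funext fun a => funext fun c => hw' a c
  exact hG _ (hA w' ((fam2_th h).1 hw) a c)

theorem All3.th (h : Tw ρ Th) (hG : ∀ v, G v → G (Th v)) {i j l : ℕ} (hA : All3 P ρ G i j l) :
    All3 P ρ G (i + 1) (j + 1) (l + 1) := by
  intro w hw a c e
  choose w' hw' using fun a c e => h.surj (w a c e)
  obtain rfl : (fun a c e => Th (w' a c e)) = w := funext fun a => funext fun c => funext fun e => hw' a c e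
  exact hG _ (hA w' ((fam3_th h).1 hw) a c e)

/-! ### flips -/

theorem pw16 (D : PDat ι P y t0 ζ) (s : _root_.Matrix.SpecialLinearGroup (Fin 2) F) (b a : Fin 2) (i : ℕ) :
    (P s b a) ^ 2 ^ (i + 4) = (P s (1 - b) (1 - a)) ^ 2 ^ i := by
  rw [pow_add, mul_comm, pow_mul]
  exact congrArg (· ^ 2 ^ i) (D.fr s b a)

theorem sum_flip {M : Type*} [AddCommMonoid M] (u : Fin 2 → M) : ∑ b, u (1 - b) = ∑ b, u b := by
  rw [Fin.sum_univ_two, Fin.sum_univ_two]
  exact add_comm _ _

theorem flip_flip (a : Fin 2) : 1 - (1 - a) = a := by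
  fin_cases a <;> rfl

theorem fam2_unflip (D : PDat ι P y t0 ζ) {i j : ℕ} {w : Fin 2 → Fin 2 → V} (h : Fam2 P ρ i j w) :
    Fam2 P ρ (i + 4) j (fun a c => w (1 - a) c) := by
  intro s a c
  rw [h, ← sum_flip]
  simp only [pw16 D]

theorem fam2_swap {i j : ℕ} {w : Fin 2 → Fin 2 → V} (h : Fam2 P ρ i j w) : Fam2 P ρ j i (fun a c => w c a) := by
  intro s a c
  rw [h, Finset.sum_comm]
  simp only [mul_comm]

theorem fam1_unflip (D : PDat ι P y t0 ζ) {i : ℕ} {w : Fin 2 → V} (h : Fam1 P ρ i w) :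
    Fam1 P ρ (i + 4) (fun a => w (1 - a)) := by
  intro s a
  rw [h, ← sum_flip]
  simp only [pw16 D]

theorem fam3_unflip (D : PDat ι P y t0 ζ) {i j l : ℕ} {w : Fin 2 → Fin 2 → Fin 2 → V} (h : Fam3 P ρ i j l w) :
    Fam3 P ρ (i + 4) j l (fun a c e => w (1 - a) c e) := by
  intro s a c e
  rw [h, ← sum_flip]
  simp only [pw16 D]

/-- `(i, j, l) → (j, l, i)` -/
theorem fam3_rot {i j l : ℕ} {w : Fin 2 → Fin 2 → Fin 2 → V} (h : Fam3 P ρ i j l w) :
    Fam3 P ρ j l i (fun a c e => w e a c) := by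
  intro s a c e
  rw [h]
  rw [Finset.sum_comm]
  refine Finset.sum_congr rfl fun b _ => ?_
  rw [Finset.sum_comm]
  refine Finset.sum_congr rfl fun d _ => ?_
  refine Finset.sum_congr rfl fun g _ => ?_
  congr 1
  ring

theorem All1.flip (D : PDat ι P y t0 ζ) {i : ℕ} (h : All1 P ρ G (i + 4)) : All1 P ρ G i := by
  intro w hw a
  have := h _ (fam1_unflip D hw) (1 - a)
  simpa only [flip_flip] using this

theorem All2.flip (D : PDat ι P y t0 ζ) {i j : ℕ} (h : All2 P ρ G (i + 4) j) : All2 P ρ G i j := by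
  intro w hw a c
  have := h _ (fam2_unflip D hw) (1 - a) c
  simpa only [flip_flip] using this

theorem All2.swap {i j : ℕ} (h : All2 P ρ G i j) : All2 P ρ G j i := fun w hw a c => h _ (fam2_swap hw) c a

theorem All3.flip (D : PDat ι P y t0 ζ) {i j l : ℕ} (h : All3 P ρ G (i + 4) j l) : All3 P ρ G i j l := by
  intro w hw a c e
  have := h _ (fam3_unflip D hw) (1 - a) c e
  simpa only [flip_flip] using this

/-- `(i, j, l) → (l, i, j)` -/
theorem All3.rot {i j l : ℕ} (h : All3 P ρ G i j l) : All3 P ρ G l i j := fun w hw a c e => h _ (fam3_rot hw) c e a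

/-- all types with one index -/
theorem all1_of (D : PDat ι P y t0 ζ) (h : Tw ρ Th) (hG : ∀ v, G v → G (Th v)) (h0 : All1 P ρ G 0) :
    ∀ i < 4, All1 P ρ G i := by
  have h1 := h0.th h hG
  have h2 := h1.th h hG
  have h3 := h2.th h hG
  intro i hi
  match i, hi with
  | 0, _ => exact h0
  | 1, _ => exact h1
  | 2, _ => exact h2
  | 3, _ => exact h3

/-- the shifts of a pair of exponents -/
theorem all2_of (D : PDat ι P y t0 ζ) (h : Tw ρ Th) (hG : ∀ v, G v → G (Th v)) (h01 : All2 P ρ G 0 1)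
    (h02 : All2 P ρ G 0 2) : ∀ i j, i < j → j < 4 → All2 P ρ G i j := by
  have h12 := h01.th h hG
  have h23 := h12.th h hG
  have h34 := h23.th h hG
  have h13 := h02.th h hG
  have h03 : All2 P ρ G 0 3 := All2.flip D (h34.swap)
  intro i j hij hj
  have : (i = 0 ∧ j = 1) ∨ (i = 0 ∧ j = 2) ∨ (i = 0 ∧ j = 3) ∨ (i = 1 ∧ j = 2) ∨ (i = 1 ∧ j = 3) ∨ (i = 2 ∧ j = 3) := by
    omega
  rcases this with ⟨rfl, rfl⟩ | ⟨rfl, rfl⟩ | ⟨rfl, rfl⟩ | ⟨rfl, rfl⟩ | ⟨rfl, rfl⟩ | ⟨rfl, rfl⟩
  · exact h01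
  · exact h02
  · exact h03
  · exact h12
  · exact h13
  · exact h23

/-- the shifts of three exponents -/
theorem all3_of (D : PDat ι P y t0 ζ) (h : Tw ρ Th) (hG : ∀ v, G v → G (Th v)) (h012 : All3 P ρ G 0 1 2) :
    ∀ i j l, i < j → j < l → l < 4 → All3 P ρ G i j l := by
  have h123 := h012.th h hG
  have h234 := h123.th h hG
  have h345 := h234.th h hG
  have h023 : All3 P ρ G 0 2 3 := All3.flip D h234.rot
  have h013 : All3 P ρ G 0 1 3 := by
    have h1 : All3 P ρ G 4 5 3 := h345.rot.rot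
    have h2 : All3 P ρ G 0 5 3 := All3.flip D h1
    have h3 : All3 P ρ G 5 3 0 := h2.rot.rot
    have h4 : All3 P ρ G 1 3 0 := All3.flip D h3
    exact h4.rot
  intro i j l hij hjl hl
  have : (i = 0 ∧ j = 1 ∧ l = 2) ∨ (i = 0 ∧ j = 1 ∧ l = 3) ∨ (i = 0 ∧ j = 2 ∧ l = 3) ∨ (i = 1 ∧ j = 2 ∧ l = 3) := by
    omega
  rcases this with ⟨rfl, rfl, rfl⟩ | ⟨rfl, rfl, rfl⟩ | ⟨rfl, rfl, rfl⟩ | ⟨rfl, rfl, rfl⟩
  · exact h012
  · exact h013
  · exact h023
  · exact h123

end

end Cfsg.Agent.H911.L16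
end

-- part: H280/L16/Lng
section
/-!
# S5916: the rational families of type `(0, 2)` span (helper280)
-/

set_option autoImplicit false
set_option linter.unusedSectionVars false

namespace Cfsg.Agent.H280.L16

open Matrix

variable {k : Type*} [Field k] {F : Type*} [Field F] [Fintype F] {ι : F →+* k}
  {P : _root_.Matrix.SpecialLinearGroup (Fin 2) F →* Matrix (Fin 2) (Fin 2) k} {y t0 : _root_.Matrix.SpecialLinearGroup (Fin 2) F} {ζ : k}
  {V : Type*} [AddCommGroup V] [Module k V] {ρ : Representation k (_root_.Matrix.SpecialLinearGroup (Fin 2) F) V}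

variable (P ρ) in
/-- the space of the families of type `(i, j)` -/
def FamS2 (i j : ℕ) : Submodule k (Fin 2 → Fin 2 → V) where
  carrier := {w | Fam2 P ρ i j w}
  zero_mem' := by
    intro s a c
    simp
  add_mem' := by
    intro v w hv hw s a c
    show ρ s (v a c + w a c) = ∑ b, ∑ d, _ • (v b d + w b d)
    rw [map_add, hv, hw]
    simp only [smul_add, Finset.sum_add_distrib]
  smul_mem' := by
    intro r w hw s a c
    show ρ s (r • w a c) = ∑ b, ∑ d, _ • (r • w b d)
    rw [map_smul, hw]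
    simp only [Finset.smul_sum, smul_smul, mul_comm r]

variable {Θ : V → V}

theorem rat_fam (h : FrM ρ Θ) (D : PDat ι P y t0 ζ) {w : Fin 2 → Fin 2 → V} (hw : Fam2 P ρ 0 2 w) :
    Fam2 P ρ 0 2 fun a c => Θ (Θ (w c (1 - a))) :=
  (D.dn2'.1 (h.fam2 (h.fam2 hw))).swap

/-- **the `F²`-rational families span** -/
theorem lang02 [CharP k 2] [IsAlgClosed k] [FiniteDimensional k V] (h : FrM ρ Θ) (D : PDat ι P y t0 ζ)
    {w : Fin 2 → Fin 2 → V} (hw : Fam2 P ρ 0 2 w) :
    w ∈ Submodule.span k {s : Fin 2 → Fin 2 → V | Fam2 P ρ 0 2 s ∧ ∀ a c, Θ (Θ (s a c)) = s (1 - c) a} := by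
  let φ : ↥(FamS2 P ρ 0 2) →ₛₗ[iterateFrobenius k 2 2] ↥(FamS2 P ρ 0 2) :=
    { toFun := fun w => ⟨fun a c => Θ (Θ (w.1 c (1 - a))), rat_fam h D w.2⟩
      map_add' := fun v w => Subtype.ext (by
        funext a c
        show Θ (Θ (v.1 c (1 - a) + w.1 c (1 - a))) = Θ (Θ (v.1 c (1 - a))) + Θ (Θ (w.1 c (1 - a)))
        rw [h.add, h.add])
      map_smul' := fun r w => Subtype.ext (by
        funext a c
        show Θ (Θ (r • w.1 c (1 - a))) = iterateFrobenius k 2 2 r • Θ (Θ (w.1 c (1 - a)))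
        rw [h.smul, h.smul, iterateFrobenius_def, ← pow_mul]
        norm_num) }
  have hφ : Function.Injective φ := by
    intro v w hvw
    apply Subtype.ext
    funext a c
    have h1 := congrFun (congrFun (congrArg Subtype.val hvw) (1 - c)) a
    have h2 : Θ (Θ (v.1 a (1 - (1 - c)))) = Θ (Θ (w.1 a (1 - (1 - c)))) := h1
    rw [sub_sub_cancel] at h2
    exact h.inj (h.inj h2)
  have h3 := Cfsg.Agent.H192.span_fixed 2 2 (by norm_num) φ hφ
  have h4 : (⟨w, hw⟩ : ↥(FamS2 P ρ 0 2)) ∈ Submodule.span k {w | φ w = w} := by rw [h3]; exact Submodule.mem_top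
  have h5 := Submodule.mem_map_of_mem (f := (FamS2 P ρ 0 2).subtype) h4
  rw [Submodule.map_span] at h5
  refine Submodule.span_mono ?_ h5
  rintro _ ⟨s, hs, rfl⟩
  refine ⟨s.2, fun a c => ?_⟩
  have h6 := congrFun (congrFun (congrArg Subtype.val hs) (1 - c)) a
  have h7 : Θ (Θ (s.1 a (1 - (1 - c)))) = s.1 (1 - c) a := h6
  rwa [sub_sub_cancel] at h7

end Cfsg.Agent.H280.L16
end

-- part: H911/L16/Glue
section
/-!
# S5916 (helper911): from families to the eliminations

`Gd Fp ta v` : `v` is `Fp^j x` or `T (Fp^j x)` with `x = vR k 0 0 r1 r2 r3 r0` or `x = vN K1 K2 A A2 B`, `A * A2 = 0`.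

`glue1`, `glue2`, `glue3` : all vectors of all families (with 1, 2, 3 indices) satisfy `Gd`.
-/

set_option autoImplicit false
set_option maxRecDepth 100000
set_option linter.unusedSectionVars false

namespace Cfsg.Agent.H911.L16

open Matrix Cfsg Cfsg.Lie
open Cfsg.Agent.H939.L64 (KK E2 LK em aK rE fr brK)
open Cfsg.Agent.H413.L16 (er hv)
open Cfsg.Agent.H939.L16
open Cfsg.Agent.H955.L16
open Cfsg.Agent.H280.L16

/-- the index of a sign -/
def bi (b : Bool) : Fin 2 := if b then 0 else 1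

theorem bi_not (b : Bool) : bi (!b) = 1 - bi b := by cases b <;> rfl

def b1 (w : Fin 2 → LK) : Bool → LK := fun a => w (bi a)

def b2 (w : Fin 2 → Fin 2 → LK) : Bool → Bool → LK := fun a b => w (bi a) (bi b)

def b3 (w : Fin 2 → Fin 2 → Fin 2 → LK) : Bool → Bool → Bool → LK := fun a b c => w (bi a) (bi b) (bi c)

/-- good vectors of class R -/
def GdR (v : LK) : Prop := ∃ k r1 r2 r3 r0 : KK, v = vR k 0 0 r1 r2 r3 r0

/-- vectors of class N -/
def GdN (v : LK) : Prop := ∃ K1 K2 A A2 B : KK, A * A2 = 0 ∧ v = vN K1 K2 A A2 B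

/-- the solutions of `[v, t v] = 0` -/
structure Sol (ta : LK →ₗ[KK] LK) : Prop where
  one : ∀ v ∈ Wt 1, brK v (T ta v) = 0 →
    ∃ k o1 o3 r1 r2 r3 r0 : KK, RelR o1 o3 r1 r3 ∧ v = vR k o1 o3 r1 r2 r3 r0
  three : ∀ v ∈ Wt 3, brK v (T ta v) = 0 → ∃ K1 K2 A A2 B : KK, A * A2 = 0 ∧ v = vN K1 K2 A A2 B

variable {F : Type} [Field F] [Fintype F] {H : Subgroup E2} {f : _root_.Matrix.SpecialLinearGroup (Fin 2) F →* E2}
  {y t0 : _root_.Matrix.SpecialLinearGroup (Fin 2) F} {z : ↥(chevE8.group KK)} {ζ' : KK} {Fp : LK → LK} {ta : LK →ₗ[KK] LK}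

theorem tw_fp (L : Lsit H f y t0 z ζ' Fp ta) : Tw (rz z f) Fp where
  add := L.ops.add
  smul := L.ops.smul
  comm := rz_fp L
  inj := L.ops.inj
  surj := fp_surj L

theorem fp_zero (L : Lsit H f y t0 z ζ' Fp ta) : Fp 0 = 0 := (tw_fp L).zero

/-- `t0` in the frame -/
theorem T_fp (L : Lsit H f y t0 z ζ' Fp ta) (hT : ∀ v, rz z f t0 v = T ta v) (v : LK) :
    T ta (Fp v) = Fp (T ta v) := by
  rw [← hT, ← hT, rz_fp L]

theorem pow17 (L : Lsit H f y t0 z ζ' Fp ta) {n m : ℕ} (h : n % 17 = m % 17) : ζ' ^ n = ζ' ^ m := by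
  have h1 : ζ' ^ 17 = 1 := L.prim.pow_eq_one
  rw [← Nat.div_add_mod n 17, ← Nat.div_add_mod m 17, pow_add, pow_add, pow_mul, pow_mul, h1, one_pow, one_pow, h]

/-- untwisting an eigenvector -/
theorem lift (L : Lsit H f y t0 z ζ' Fp ta) (hT : ∀ v, rz z f t0 v = T ta v) (c : ℕ) :
    ∀ (j : ℕ) {n : ℕ} {v : LK}, rz z f y v = ζ' ^ n • v → n % 17 = (2 ^ j * c) % 17 → brK v (T ta v) = 0 →
      ∃ u, v = Fp^[j] u ∧ rz z f y u = ζ' ^ c • u ∧ brK u (T ta u) = 0 := by
  intro j
  induction j with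
  | zero =>
    intro n v h hn hb
    refine ⟨v, rfl, ?_, hb⟩
    rw [h, pow17 L (n := n) (m := c) (by rw [hn, pow_zero, one_mul])]
  | succ j ih =>
    intro n v h hn hb
    obtain ⟨v', rfl⟩ := fp_surj L v
    have h1 : rz z f y (Fp v') = ζ' ^ (2 * (2 ^ j * c)) • Fp v' := by
      rw [h, pow17 L (n := n) (m := 2 * (2 ^ j * c)) (by rw [hn, pow_succ]; ring_nf)]
    have h2 := fp_eigen_inv L h1
    have h3 : brK v' (T ta v') = 0 := by
      apply L.ops.inj
      rw [L.ops.br, fp_zero L, ← T_fp L hT]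
      exact hb
    obtain ⟨u, hu, hu1, hu2⟩ := ih h2 rfl h3
    refine ⟨u, ?_, hu1, hu2⟩
    rw [Function.iterate_succ_apply', ← hu]

theorem solR (L : Lsit H f y t0 z ζ' Fp ta) (hT : ∀ v, rz z f t0 v = T ta v) (hs : Sol ta) (j : ℕ) {n : ℕ} {v : LK}
    (h : rz z f y v = ζ' ^ n • v) (hn : n % 17 = (2 ^ j * 1) % 17) (hb : brK v (T ta v) = 0) :
    ∃ k o1 o3 r1 r2 r3 r0 : KK, RelR o1 o3 r1 r3 ∧ v = Fp^[j] (vR k o1 o3 r1 r2 r3 r0) := by
  obtain ⟨u, hu, hu1, hu2⟩ := lift L hT 1 j h hn hb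
  have h1 : u ∈ Wt ((1 : ℕ) : ZMod 17) := mem_Wt L (by decide) hu1
  obtain ⟨k, o1, o3, r1, r2, r3, r0, hr, e⟩ := hs.one u h1 hu2
  exact ⟨k, o1, o3, r1, r2, r3, r0, hr, by rw [hu, e]⟩

theorem solN (L : Lsit H f y t0 z ζ' Fp ta) (hT : ∀ v, rz z f t0 v = T ta v) (hs : Sol ta) (j : ℕ) {n : ℕ} {v : LK}
    (h : rz z f y v = ζ' ^ n • v) (hn : n % 17 = (2 ^ j * 3) % 17) (hb : brK v (T ta v) = 0) :
    ∃ K1 K2 A A2 B : KK, A * A2 = 0 ∧ v = Fp^[j] (vN K1 K2 A A2 B) := by
  obtain ⟨u, hu, hu1, hu2⟩ := lift L hT 3 j h hn hb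
  have h1 : u ∈ Wt ((3 : ℕ) : ZMod 17) := mem_Wt L (by decide) hu1
  obtain ⟨K1, K2, A, A2, B, hr, e⟩ := hs.three u h1 hu2
  exact ⟨K1, K2, A, A2, B, hr, by rw [hu, e]⟩

/-! ### good vectors -/

theorem good_fp (L : Lsit H f y t0 z ζ' Fp ta) (hT : ∀ v, rz z f t0 v = T ta v) (v : LK) (h : Good Fp ta v) :
    Good Fp ta (Fp v) := by
  obtain ⟨j, x, hx, rfl | rfl⟩ := h
  · exact ⟨j + 1, x, hx, Or.inl (Function.iterate_succ_apply' _ _ _).symm⟩
  · refine ⟨j + 1, x, hx, Or.inr ?_⟩
    rw [Function.iterate_succ_apply', T_fp L hT]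

theorem T_T (hT : ∀ v, rz z f t0 v = T ta v) (ht : t0 * t0 = 1) (v : LK) : T ta (T ta v) = v := by
  rw [← hT, ← hT]
  show (rz z f t0 * rz z f t0) v = v
  rw [← map_mul, ht, map_one]
  rfl

theorem good_T (hT : ∀ v, rz z f t0 v = T ta v) (ht : t0 * t0 = 1) {v : LK} (h : Good Fp ta v) :
    Good Fp ta (T ta v) := by
  obtain ⟨j, x, hx, rfl | rfl⟩ := h
  · exact ⟨j, x, hx, Or.inr rfl⟩
  · exact ⟨j, x, hx, Or.inl (T_T hT ht _)⟩

theorem good_R {x : LK} (j : ℕ) (h : GdR x) : Good Fp ta (Fp^[j] x) := ⟨j, x, Or.inl h, Or.inl rfl⟩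

theorem good_N {x : LK} (j : ℕ) (h : GdN x) : Good Fp ta (Fp^[j] x) := ⟨j, x, Or.inr h, Or.inl rfl⟩

/-! ### the families in the frame -/

section

variable {P : _root_.Matrix.SpecialLinearGroup (Fin 2) F →* Matrix (Fin 2) (Fin 2) KK} {ι : F →+* KK} {ζ : KK}
  {ρ : Representation KK (_root_.Matrix.SpecialLinearGroup (Fin 2) F) LK}

/-- the exponent of the eigenvalue -/
def ex (m : ℕ) (a : Fin 2) : ℕ := if a = 0 then m else 16 * m

theorem P_y (D : PDat ι P y t0 ζ) {m : ℕ} (hζ : ζ = ζ' ^ m) (h17 : ζ' ^ 17 = 1) (b a : Fin 2) :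
    P y b a = if b = a then ζ' ^ ex m a else 0 := by
  have h1 : ζ⁻¹ = ζ' ^ (16 * m) := by
    apply inv_eq_of_mul_eq_one_right
    rw [hζ, ← pow_add, show m + 16 * m = 17 * m by ring, pow_mul, h17, one_pow]
  match b, a with
  | 0, 0 => rw [D.y00]; exact hζ
  | 0, 1 => exact D.y01
  | 1, 0 => exact D.y10
  | 1, 1 => rw [D.y11]; exact h1

theorem P_t (D : PDat ι P y t0 ζ) (b a : Fin 2) : P t0 b a = if b = 1 - a then 1 else 0 := by
  rw [D.t]
  match b, a with
  | 0, 0 => rfl
  | 0, 1 => rfl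
  | 1, 0 => rfl
  | 1, 1 => rfl

theorem f1_y (D : PDat ι P y t0 ζ) {m : ℕ} (hζ : ζ = ζ' ^ m) (h17 : ζ' ^ 17 = 1) {i : ℕ} {w : Fin 2 → LK}
    (hw : Fam1 P ρ i w) (a : Fin 2) : ρ y (w a) = ζ' ^ (ex m a * 2 ^ i) • w a := by
  rw [hw, Finset.sum_eq_single a]
  · rw [P_y D hζ h17, if_pos rfl, ← pow_mul]
  · intro b _ hb
    rw [P_y D hζ h17, if_neg hb, zero_pow (pow_ne_zero _ two_ne_zero), zero_smul]
  · intro h
    exact absurd (Finset.mem_univ _) h

theorem f1_t (D : PDat ι P y t0 ζ) {i : ℕ} {w : Fin 2 → LK} (hw : Fam1 P ρ i w) (a : Fin 2) :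
    ρ t0 (w a) = w (1 - a) := by
  rw [hw, Finset.sum_eq_single (1 - a)]
  · rw [P_t D, if_pos rfl, one_pow, one_smul]
  · intro b _ hb
    rw [P_t D, if_neg hb, zero_pow (pow_ne_zero _ two_ne_zero), zero_smul]
  · intro h
    exact absurd (Finset.mem_univ _) h

theorem f2_y (D : PDat ι P y t0 ζ) {m : ℕ} (hζ : ζ = ζ' ^ m) (h17 : ζ' ^ 17 = 1) {i j : ℕ} {w : Fin 2 → Fin 2 → LK}
    (hw : Fam2 P ρ i j w) (a c : Fin 2) : ρ y (w a c) = ζ' ^ (ex m a * 2 ^ i + ex m c * 2 ^ j) • w a c := by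
  rw [hw, Finset.sum_eq_single a, Finset.sum_eq_single c]
  · rw [P_y D hζ h17, P_y D hζ h17, if_pos rfl, if_pos rfl, ← pow_mul, ← pow_mul, pow_add]
  · intro b _ hb
    rw [P_y D hζ h17 b, if_neg hb, zero_pow (pow_ne_zero _ two_ne_zero), mul_zero, zero_smul]
  · intro h
    exact absurd (Finset.mem_univ _) h
  · intro b _ hb
    refine Finset.sum_eq_zero fun d _ => ?_
    rw [P_y D hζ h17 b, if_neg hb, zero_pow (pow_ne_zero _ two_ne_zero), zero_mul, zero_smul]
  · intro h
    exact absurd (Finset.mem_univ _) h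

theorem f2_t (D : PDat ι P y t0 ζ) {i j : ℕ} {w : Fin 2 → Fin 2 → LK} (hw : Fam2 P ρ i j w) (a c : Fin 2) :
    ρ t0 (w a c) = w (1 - a) (1 - c) := by
  rw [hw, Finset.sum_eq_single (1 - a), Finset.sum_eq_single (1 - c)]
  · rw [P_t D, P_t D, if_pos rfl, if_pos rfl, one_pow, one_pow, one_mul, one_smul]
  · intro b _ hb
    rw [P_t D b, if_neg hb, zero_pow (pow_ne_zero _ two_ne_zero), mul_zero, zero_smul]
  · intro h
    exact absurd (Finset.mem_univ _) h
  · intro b _ hb
    refine Finset.sum_eq_zero fun d _ => ?_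
    rw [P_t D b, if_neg hb, zero_pow (pow_ne_zero _ two_ne_zero), zero_mul, zero_smul]
  · intro h
    exact absurd (Finset.mem_univ _) h

theorem f3_y (D : PDat ι P y t0 ζ) {m : ℕ} (hζ : ζ = ζ' ^ m) (h17 : ζ' ^ 17 = 1) {i j l : ℕ}
    {w : Fin 2 → Fin 2 → Fin 2 → LK} (hw : Fam3 P ρ i j l w) (a c e : Fin 2) :
    ρ y (w a c e) = ζ' ^ (ex m a * 2 ^ i + ex m c * 2 ^ j + ex m e * 2 ^ l) • w a c e := by
  rw [hw, Finset.sum_eq_single a, Finset.sum_eq_single c, Finset.sum_eq_single e]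
  · rw [P_y D hζ h17, P_y D hζ h17, P_y D hζ h17, if_pos rfl, if_pos rfl, if_pos rfl, ← pow_mul, ← pow_mul, ← pow_mul,
      pow_add, pow_add]
  · intro b _ hb
    rw [P_y D hζ h17 b, if_neg hb, zero_pow (pow_ne_zero _ two_ne_zero), mul_zero, zero_smul]
  · intro h
    exact absurd (Finset.mem_univ _) h
  · intro b _ hb
    refine Finset.sum_eq_zero fun d _ => ?_
    rw [P_y D hζ h17 b, if_neg hb, zero_pow (pow_ne_zero _ two_ne_zero), mul_zero, zero_mul, zero_smul]
  · intro h
    exact absurd (Finset.mem_univ _) h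
  · intro b _ hb
    refine Finset.sum_eq_zero fun d _ => Finset.sum_eq_zero fun d' _ => ?_
    rw [P_y D hζ h17 b, if_neg hb, zero_pow (pow_ne_zero _ two_ne_zero), zero_mul, zero_mul, zero_smul]
  · intro h
    exact absurd (Finset.mem_univ _) h

theorem f3_t (D : PDat ι P y t0 ζ) {i j l : ℕ} {w : Fin 2 → Fin 2 → Fin 2 → LK} (hw : Fam3 P ρ i j l w)
    (a c e : Fin 2) : ρ t0 (w a c e) = w (1 - a) (1 - c) (1 - e) := by
  rw [hw, Finset.sum_eq_single (1 - a), Finset.sum_eq_single (1 - c), Finset.sum_eq_single (1 - e)]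
  · rw [P_t D, P_t D, P_t D, if_pos rfl, if_pos rfl, if_pos rfl, one_pow, one_pow, one_pow, one_mul, one_mul, one_smul]
  · intro b _ hb
    rw [P_t D b, if_neg hb, zero_pow (pow_ne_zero _ two_ne_zero), mul_zero, zero_smul]
  · intro h
    exact absurd (Finset.mem_univ _) h
  · intro b _ hb
    refine Finset.sum_eq_zero fun d _ => ?_
    rw [P_t D b, if_neg hb, zero_pow (pow_ne_zero _ two_ne_zero), mul_zero, zero_mul, zero_smul]
  · intro h
    exact absurd (Finset.mem_univ _) h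
  · intro b _ hb
    refine Finset.sum_eq_zero fun d _ => Finset.sum_eq_zero fun d' _ => ?_
    rw [P_t D b, if_neg hb, zero_pow (pow_ne_zero _ two_ne_zero), zero_mul, zero_mul, zero_smul]
  · intro h
    exact absurd (Finset.mem_univ _) h

/-- what is known about the families (helper280) -/
structure ModF (Fp : LK → LK) (P : _root_.Matrix.SpecialLinearGroup (Fin 2) F →* Matrix (Fin 2) (Fin 2) KK)
    (ρ : Representation KK (_root_.Matrix.SpecialLinearGroup (Fin 2) F) LK) (n : ℕ) : Prop where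
  one : n = 1 → ∀ w, Fam1 P ρ 0 w → SS1 (b1 w) ∧ INV1 Fp (b1 w)
  two1 : n = 2 → ∀ w, Fam2 P ρ 0 1 w → SS2 (b2 w) ∧ INV2 Fp (b2 w) ∧ SIG Fp (b2 w)
  two2 : n = 2 → ∀ w, Fam2 P ρ 0 2 w → SS2 (b2 w)
  three : n = 3 → ∀ w, Fam3 P ρ 0 1 2 w →
    SS3 (b3 w) ∧ SA Fp (b3 w) ∧ SB Fp (b3 w) ∧ (w ≠ 0 → ∀ a c e, w a c e ≠ 0)

/-- the eliminations (helper955) -/
structure Elim (Fp : LK → LK) (ta : LK →ₗ[KK] LK) : Prop where
  R0 : ElimR0 Fp ta
  N02 : ElimN02 Fp
  R01 : ElimR01 Fp ta
  N01 : ElimN01 Fp ta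
  R012 : ElimR012 Fp ta
  N012 : ElimN012 Fp ta

/-! ### the equations for the twisted families -/

section Twist

variable (L : Lsit H f y t0 z ζ' Fp ta)

include L

theorem ss2_fp {s : Bool → Bool → LK} (h : SS2 s) : SS2 fun a b => Fp (s a b) := by
  intro a b c d
  show brK (Fp (s a b)) (Fp (s c d)) = 0
  rw [← L.ops.br, h, fp_zero L]

theorem inv2_fp {s : Bool → Bool → LK} (h : INV2 Fp s) : INV2 Fp fun a b => Fp (s a b) := by
  unfold INV2 at h ⊢
  have h1 := congrArg Fp h
  simp only [Fintype.sum_bool, L.ops.add, L.ops.br, fp_zero L] at h1 ⊢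
  exact h1

theorem sig_fp {s : Bool → Bool → LK} (h : SIG Fp s) : SIG Fp fun a b => Fp (s a b) := by
  unfold SIG sg at h ⊢
  have h1 := congrArg Fp h
  simp only [Fintype.sum_bool, L.ops.add, L.ops.br, fp_zero L] at h1 ⊢
  exact h1

theorem ss3_fp {s : Bool → Bool → Bool → LK} (h : SS3 s) : SS3 fun a b c => Fp (s a b c) := by
  intro a b c a' b' c'
  show brK (Fp (s a b c)) (Fp (s a' b' c')) = 0
  rw [← L.ops.br, h, fp_zero L]

theorem sa_fp {s : Bool → Bool → Bool → LK} (h : SA Fp s) : SA Fp fun a b c => Fp (s a b c) := by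
  intro a d
  have h1 := congrArg Fp (h a d)
  simp only [Fintype.sum_bool, L.ops.add, L.ops.br, fp_zero L] at h1 ⊢
  exact h1

theorem sb_fp {s : Bool → Bool → Bool → LK} (h : SB Fp s) : SB Fp fun a b c => Fp (s a b c) := by
  intro b d
  have h1 := congrArg Fp (h b d)
  simp only [Fintype.sum_bool, L.ops.add, L.ops.br, fp_zero L] at h1 ⊢
  exact h1

end Twist

theorem vR_add (k k' r1 r1' r2 r2' r3 r3' r0 r0' : KK) :
    vR k 0 0 r1 r2 r3 r0 + vR k' 0 0 r1' r2' r3' r0' =
      vR (k + k') 0 0 (r1 + r1') (r2 + r2') (r3 + r3') (r0 + r0') := by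
  unfold vR
  module

theorem vR_smul (c k r1 r2 r3 r0 : KK) :
    c • vR k 0 0 r1 r2 r3 r0 = vR (c * k) 0 0 (c * r1) (c * r2) (c * r3) (c * r0) := by
  unfold vR
  module

theorem vR_zero : vR 0 0 0 0 0 0 0 = 0 := by
  unfold vR
  module

theorem GdR.add {v w : LK} (hv : GdR v) (hw : GdR w) : GdR (v + w) := by
  obtain ⟨k, r1, r2, r3, r0, rfl⟩ := hv
  obtain ⟨k', r1', r2', r3', r0', rfl⟩ := hw
  exact ⟨_, _, _, _, _, vR_add _ _ _ _ _ _ _ _ _ _⟩

theorem GdR.smul (c : KK) {v : LK} (hv : GdR v) : GdR (c • v) := by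
  obtain ⟨k, r1, r2, r3, r0, rfl⟩ := hv
  exact ⟨_, _, _, _, _, vR_smul _ _ _ _ _ _⟩

theorem GdR.zero : GdR (0 : LK) := ⟨0, 0, 0, 0, 0, vR_zero.symm⟩

/-- three values -/
def n3 (a b c : KK) : ℕ → KK
  | 0 => a
  | 1 => b
  | _ => c

theorem n3_all {Q : ℕ → Prop} (h0 : Q 0) (h1 : Q 1) (h2 : ∀ i, Q (i + 2)) : ∀ i, Q i
  | 0 => h0
  | 1 => h1
  | i + 2 => h2 i

section Cases

variable (L : Lsit H f y t0 z ζ' Fp ta) (hT : ∀ v, rz z f t0 v = T ta v) (ht : t0 * t0 = 1) (hs : Sol ta)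
  (E : Elim Fp ta)

include L hT ht hs E

/-- class R, one index -/
theorem all1R (D : PDat ι P y t0 ζ) (hζ : ζ = ζ' ^ 1) (M : ModF Fp P (rz z f) 1) :
    All1 P (rz z f) (Good Fp ta) 0 := by
  have h17 : ζ' ^ 17 = 1 := L.prim.pow_eq_one
  intro w hw
  have ht0 : w 1 = T ta (w 0) := by rw [← hT, f1_t D hw]; rfl
  obtain ⟨hss, hinv⟩ := M.one rfl w hw
  have g0 : Good Fp ta (w 0) := by
    obtain ⟨k, o1, o3, r1, r2, r3, r0, hr, e⟩ := solR L hT hs 0 (f1_y D hζ h17 hw 0) (by decide)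
      (by rw [← ht0]; exact hss true false)
    obtain ⟨h1, h2⟩ := E.R0 (b1 w) k o1 o3 r1 r2 r3 r0 hr e ht0 hss hinv
    subst h1 h2
    exact good_R 0 ⟨k, r1, r2, r3, r0, e⟩
  intro a
  match a with
  | 0 => exact g0
  | 1 => rw [ht0]; exact good_T hT ht g0

/-- class N, one index -/
theorem all1N (D : PDat ι P y t0 ζ) (hζ : ζ = ζ' ^ 3) (M : ModF Fp P (rz z f) 1) :
    All1 P (rz z f) (Good Fp ta) 0 := by
  have h17 : ζ' ^ 17 = 1 := L.prim.pow_eq_one
  intro w hw
  have ht0 : w 1 = T ta (w 0) := by rw [← hT, f1_t D hw]; rfl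
  obtain ⟨hss, hinv⟩ := M.one rfl w hw
  have g0 : Good Fp ta (w 0) := by
    obtain ⟨K1, K2, A, A2, B, hr, e⟩ := solN L hT hs 0 (f1_y D hζ h17 hw 0) (by decide)
      (by rw [← ht0]; exact hss true false)
    exact e ▸ good_N 0 ⟨K1, K2, A, A2, B, hr, rfl⟩
  intro a
  match a with
  | 0 => exact g0
  | 1 => rw [ht0]; exact good_T hT ht g0

theorem good2 {w : Fin 2 → Fin 2 → LK} {P : _root_.Matrix.SpecialLinearGroup (Fin 2) F →* Matrix (Fin 2) (Fin 2) KK} {ζ : KK}
    {ι : F →+* KK} (D : PDat ι P y t0 ζ) {i j : ℕ} (hw : Fam2 P (rz z f) i j w)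
    (h0 : Good Fp ta (w 0 0)) (h1 : Good Fp ta (w 1 0)) (a c : Fin 2) : Good Fp ta (w a c) := by
  have t00 : w 1 1 = T ta (w 0 0) := by rw [← hT, f2_t D hw]; rfl
  have t10 : w 0 1 = T ta (w 1 0) := by rw [← hT, f2_t D hw]; rfl
  match a, c with
  | 0, 0 => exact h0
  | 0, 1 => rw [t10]; exact good_T hT ht h1
  | 1, 0 => exact h1
  | 1, 1 => rw [t00]; exact good_T hT ht h0

/-- class R, type `(0,1)` -/
theorem all01R (D : PDat ι P y t0 ζ) (hζ : ζ = ζ' ^ 1) (M : ModF Fp P (rz z f) 2) :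
    All2 P (rz z f) (Good Fp ta) 0 1 := by
  have h17 : ζ' ^ 17 = 1 := L.prim.pow_eq_one
  intro w hw
  obtain ⟨hss, hinv, hsig⟩ := M.two1 rfl w hw
  have t00 : w 1 1 = T ta (w 0 0) := by rw [← hT, f2_t D hw]; rfl
  have t10 : w 0 1 = T ta (w 1 0) := by rw [← hT, f2_t D hw]; rfl
  have tt : ∀ a b, b2 w (!a) (!b) = T ta (b2 w a b) := by
    intro a b
    show w (bi !a) (bi !b) = T ta (w (bi a) (bi b))
    rw [← hT, f2_t D hw, bi_not, bi_not]
  obtain ⟨K1, K2, A, A2, B, hn, en⟩ := solN L hT hs 0 (f2_y D hζ h17 hw 0 0) (by decide)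
    (by rw [← t00]; exact hss true true false false)
  obtain ⟨k, o1, o3, r1, r2, r3, r0, hr, er⟩ := solR L hT hs 0 (f2_y D hζ h17 hw 1 0) (by decide)
    (by rw [← t10]; exact hss false true true false)
  obtain ⟨h1, h2⟩ := E.R01 (b2 w) k o1 o3 r1 r2 r3 r0 K1 K2 A A2 B hr hn er en tt hss hinv hsig
  subst h1 h2
  exact good2 L hT ht hs E D hw (en ▸ good_N 0 ⟨K1, K2, A, A2, B, hn, rfl⟩) (er ▸ good_R 0 ⟨k, r1, r2, r3, r0, rfl⟩)

/-- class R, type `(0,2)` -/
theorem all02R (D : PDat ι P y t0 ζ) (hζ : ζ = ζ' ^ 1) (M : ModF Fp P (rz z f) 2) :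
    All2 P (rz z f) (Good Fp ta) 0 2 := by
  have h17 : ζ' ^ 17 = 1 := L.prim.pow_eq_one
  intro w hw
  have hss := M.two2 rfl w hw
  have t11 : w 0 0 = T ta (w 1 1) := by rw [← hT, f2_t D hw]; rfl
  have t10 : w 0 1 = T ta (w 1 0) := by rw [← hT, f2_t D hw]; rfl
  obtain ⟨K1, K2, A, A2, B, hn, en⟩ := solN L hT hs 2 (f2_y D hζ h17 hw 1 1) (by decide)
    (by rw [← t11]; exact hss false false true true)
  obtain ⟨K1', K2', A', A2', B', hn', en'⟩ := solN L hT hs 0 (f2_y D hζ h17 hw 1 0) (by decide)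
    (by rw [← t10]; exact hss false true true false)
  refine good2 L hT ht hs E D hw ?_ (en' ▸ good_N 0 ⟨K1', K2', A', A2', B', hn', rfl⟩)
  rw [t11, en]
  exact good_T hT ht (good_N 2 ⟨K1, K2, A, A2, B, hn, rfl⟩)

/-- class R, type `(0,1,2)` -/
theorem all012R (D : PDat ι P y t0 ζ) (hζ : ζ = ζ' ^ 1) (M : ModF Fp P (rz z f) 3) :
    All3 P (rz z f) (Good Fp ta) 0 1 2 := by
  have h17 : ζ' ^ 17 = 1 := L.prim.pow_eq_one
  intro w hw
  obtain ⟨hss, hsa, hsb, hne⟩ := M.three rfl w hw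
  have tt0 : ∀ a b c, w (1 - a) (1 - b) (1 - c) = T ta (w a b c) := by
    intro a b c
    rw [← hT, f3_t D hw]
  have tt : ∀ a b c, b3 w (!a) (!b) (!c) = T ta (b3 w a b c) := by
    intro a b c
    show w (bi !a) (bi !b) (bi !c) = T ta (w (bi a) (bi b) (bi c))
    rw [← tt0, bi_not, bi_not, bi_not]
  by_cases h0 : w = 0
  · intro a c e
    rw [h0]
    exact good_R 0 GdR.zero
  have hne' : ∀ a b c, b3 w a b c ≠ 0 := fun a b c => hne h0 _ _ _
  obtain ⟨K1, K2, A, A2, B, hn, en⟩ := solN L hT hs 3 (f3_y D hζ h17 hw 0 0 0) (by decide)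
    (by rw [← tt0]; exact hss true true true false false false)
  obtain ⟨K1', K2', A', A2', B', hn', en'⟩ := solN L hT hs 0 (f3_y D hζ h17 hw 0 1 0) (by decide)
    (by rw [← tt0]; exact hss true false true false true false)
  obtain ⟨K1'', K2'', A'', A2'', B'', hn'', en''⟩ := solN L hT hs 2 (f3_y D hζ h17 hw 0 1 1) (by decide)
    (by rw [← tt0]; exact hss true false false false true true)
  obtain ⟨k, o1, o3, r1, r2, r3, r0, hr, er⟩ := solR L hT hs 0 (f3_y D hζ h17 hw 1 1 0) (by decide)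
    (by rw [← tt0]; exact hss false false true true true false)
  have e100 : w 1 0 0 = T ta (w 0 1 1) := by rw [← tt0]; rfl
  obtain ⟨h1, h2⟩ := E.R012 (b3 w) k o1 o3 r1 r2 r3 r0 (n3 K1 K1' K1'') (n3 K2 K2' K2'') (n3 A A' A'')
    (n3 A2 A2' A2'') (n3 B B' B'') hr (n3_all hn hn' fun _ => hn'') en en'
    (show w 1 0 0 = T ta (Fp^[2] (vN K1'' K2'' A'' A2'' B'')) by rw [e100, en'']) er hne' tt hss hsa hsb
  subst h1 h2
  have g000 : Good Fp ta (w 0 0 0) := en ▸ good_N 3 ⟨K1, K2, A, A2, B, hn, rfl⟩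
  have g010 : Good Fp ta (w 0 1 0) := en' ▸ good_N 0 ⟨K1', K2', A', A2', B', hn', rfl⟩
  have g011 : Good Fp ta (w 0 1 1) := en'' ▸ good_N 2 ⟨K1'', K2'', A'', A2'', B'', hn'', rfl⟩
  have g110 : Good Fp ta (w 1 1 0) := er ▸ good_R 0 ⟨k, r1, r2, r3, r0, rfl⟩
  intro a c e
  match a, c, e with
  | 0, 0, 0 => exact g000
  | 0, 1, 0 => exact g010
  | 0, 1, 1 => exact g011
  | 1, 1, 0 => exact g110
  | 1, 1, 1 =>
    have : w 1 1 1 = T ta (w 0 0 0) := tt0 0 0 0
    rw [this]
    exact good_T hT ht g000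
  | 1, 0, 1 =>
    have : w 1 0 1 = T ta (w 0 1 0) := tt0 0 1 0
    rw [this]
    exact good_T hT ht g010
  | 1, 0, 0 =>
    rw [e100]
    exact good_T hT ht g011
  | 0, 0, 1 =>
    have : w 0 0 1 = T ta (w 1 1 0) := tt0 1 1 0
    rw [this]
    exact good_T hT ht g110

/-- class N, type `(1,2)` -/
theorem all12N (D : PDat ι P y t0 ζ) (hζ : ζ = ζ' ^ 3) (M : ModF Fp P (rz z f) 2) :
    All2 P (rz z f) (Good Fp ta) 1 2 := by
  have h17 : ζ' ^ 17 = 1 := L.prim.pow_eq_one
  intro w hw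
  choose w' hw' using fun a c => fp_surj L (w a c)
  obtain rfl : (fun a c => Fp (w' a c)) = w := funext fun a => funext fun c => hw' a c
  have hw0 := (fam2_th (tw_fp L)).1 hw
  obtain ⟨hss0, hinv0, hsig0⟩ := M.two1 rfl w' hw0
  set w : Fin 2 → Fin 2 → LK := fun a c => Fp (w' a c) with hwd
  have hss : SS2 (b2 w) := ss2_fp L hss0
  have hinv : INV2 Fp (b2 w) := inv2_fp L hinv0
  have hsig : SIG Fp (b2 w) := sig_fp L hsig0
  have t00 : w 1 1 = T ta (w 0 0) := by rw [← hT, f2_t D hw]; rfl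
  have t10 : w 0 1 = T ta (w 1 0) := by rw [← hT, f2_t D hw]; rfl
  have tt : ∀ a b, b2 w (!a) (!b) = T ta (b2 w a b) := by
    intro a b
    show w (bi !a) (bi !b) = T ta (w (bi a) (bi b))
    rw [← hT, f2_t D hw, bi_not, bi_not]
  obtain ⟨k, o1, o3, r1, r2, r3, r0, hr, er⟩ := solR L hT hs 0 (f2_y D hζ h17 hw 0 0) (by decide)
    (by rw [← t00]; exact hss true true false false)
  obtain ⟨K1, K2, A, A2, B, hn, en⟩ := solN L hT hs 1 (f2_y D hζ h17 hw 1 0) (by decide)
    (by rw [← t10]; exact hss false true true false)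
  obtain ⟨h1, h2⟩ := E.N01 (b2 w) k o1 o3 r1 r2 r3 r0 K1 K2 A A2 B hr hn er en tt hss hinv hsig
  subst h1 h2
  exact good2 L hT ht hs E D hw (er ▸ good_R 0 ⟨k, r1, r2, r3, r0, rfl⟩) (en ▸ good_N 1 ⟨K1, K2, A, A2, B, hn, rfl⟩)

/-- class N, type `(3,5)` -/
theorem all35N (D : PDat ι P y t0 ζ) (hζ : ζ = ζ' ^ 3) (M : ModF Fp P (rz z f) 2) :
    All2 P (rz z f) (Good Fp ta) 3 5 := by
  have h17 : ζ' ^ 17 = 1 := L.prim.pow_eq_one
  have tw := tw_fp L
  have fz := fp_zero L
  have hFrM : FrM (rz z f) Fp := ⟨L.ops.add, L.ops.smul, L.ops.inj, fun s v => (rz_fp L s v).symm⟩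
  -- the families of type `(0,2)`
  have key : ∀ w : Fin 2 → Fin 2 → LK, Fam2 P (rz z f) 0 2 w →
      GdR (Fp^[3] (w 0 0)) ∧ ∃ x, GdR x ∧ Fp^[3] (w 1 0) = Fp^[2] x := by
    intro w hw
    have h1 := lang02 hFrM D hw
    clear hw
    induction h1 using Submodule.span_induction with
    | mem s hs' =>
      obtain ⟨hw, hrat⟩ := hs'
      have hw3 : Fam2 P (rz z f) 3 5 fun a c => Fp^[3] (s a c) :=
        (fam2_th tw).2 ((fam2_th tw).2 ((fam2_th tw).2 hw))
      have hss := ss2_fp L (ss2_fp L (ss2_fp L (M.two2 rfl s hw)))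
      have t00 : Fp^[3] (s 1 1) = T ta (Fp^[3] (s 0 0)) := by rw [← hT, f2_t D hw3]; rfl
      obtain ⟨k, o1, o3, r1, r2, r3, r0, hr, er⟩ := solR L hT hs 0 (f2_y D hζ h17 hw3 0 0) (by decide)
        (by rw [← t00]; exact hss true true false false)
      have hrat' : Fp (Fp (Fp^[3] (s 0 0))) = Fp^[3] (s 1 0) := by
        have h2 : s 1 0 = Fp (Fp (s 0 0)) := (hrat 0 0).symm
        rw [h2]
        rfl
      have hb : brK (vR k o1 o3 r1 r2 r3 r0) (Fp (Fp (vR k o1 o3 r1 r2 r3 r0))) = 0 := by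
        have h3 := hss true true false true
        have h4 : Fp^[3] (s 0 0) = vR k o1 o3 r1 r2 r3 r0 := er
        rw [← h4, hrat']
        exact h3
      obtain ⟨h1, h2⟩ := E.N02 k o1 o3 r1 r2 r3 r0 hr hb
      subst h1 h2
      refine ⟨⟨k, r1, r2, r3, r0, er⟩, _, ⟨k, r1, r2, r3, r0, rfl⟩, ?_⟩
      rw [← hrat']
      exact congrArg (fun v => Fp (Fp v)) er
    | zero =>
      have h3 : Fp^[3] (0 : LK) = 0 := by
        show Fp (Fp (Fp 0)) = 0
        rw [fz, fz, fz]
      refine ⟨?_, 0, GdR.zero, ?_⟩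
      · show GdR (Fp^[3] (0 : LK))
        rw [h3]
        exact GdR.zero
      · show Fp^[3] (0 : LK) = Fp (Fp 0)
        rw [h3, fz, fz]
    | add u v _ _ hu hv =>
      obtain ⟨hu1, x, hx, hu2⟩ := hu
      obtain ⟨hv1, x', hx', hv2⟩ := hv
      have h3 : ∀ a b : LK, Fp^[3] (a + b) = Fp^[3] a + Fp^[3] b := by
        intro a b
        show Fp (Fp (Fp (a + b))) = _
        rw [L.ops.add, L.ops.add, L.ops.add]
        rfl
      refine ⟨?_, x + x', hx.add hx', ?_⟩
      · show GdR (Fp^[3] (u 0 0 + v 0 0))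
        rw [h3]
        exact hu1.add hv1
      · show Fp^[3] (u 1 0 + v 1 0) = Fp (Fp (x + x'))
        rw [h3, hu2, hv2, L.ops.add, L.ops.add]
        rfl
    | smul c u _ hu =>
      obtain ⟨hu1, x, hx, hu2⟩ := hu
      have h3 : ∀ a : LK, Fp^[3] (c • a) = ((c ^ 2) ^ 2) ^ 2 • Fp^[3] a := by
        intro a
        show Fp (Fp (Fp (c • a))) = _
        rw [L.ops.smul, L.ops.smul, L.ops.smul]
        rfl
      refine ⟨?_, c ^ 2 • x, hx.smul _, ?_⟩
      · show GdR (Fp^[3] (c • u 0 0))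
        rw [h3]
        exact hu1.smul _
      · show Fp^[3] (c • u 1 0) = Fp (Fp (c ^ 2 • x))
        rw [h3, hu2, L.ops.smul, L.ops.smul]
        rfl
  intro w hw
  have hs : ∀ v : LK, ∃ u, Fp^[3] u = v := by
    intro v
    obtain ⟨v1, rfl⟩ := fp_surj L v
    obtain ⟨v2, rfl⟩ := fp_surj L v1
    obtain ⟨v3, rfl⟩ := fp_surj L v2
    exact ⟨v3, rfl⟩
  choose w' hw' using fun a c => hs (w a c)
  obtain rfl : (fun a c => Fp^[3] (w' a c)) = w := funext fun a => funext fun c => hw' a c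
  have hw0 : Fam2 P (rz z f) 0 2 w' := (fam2_th tw).1 ((fam2_th tw).1 ((fam2_th tw).1 hw))
  obtain ⟨h1, x, hx, h2⟩ := key w' hw0
  refine good2 L hT ht ‹Sol ta› E D hw (good_R 0 h1) ?_
  show Good Fp ta (Fp^[3] (w' 1 0))
  rw [h2]
  exact good_R 2 hx

/-- class N, type `(3,4,5)` -/
theorem all345N (D : PDat ι P y t0 ζ) (hζ : ζ = ζ' ^ 3) (M : ModF Fp P (rz z f) 3) :
    All3 P (rz z f) (Good Fp ta) 3 4 5 := by
  have h17 : ζ' ^ 17 = 1 := L.prim.pow_eq_one
  have tw := tw_fp L
  intro w hw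
  have hsj : ∀ v : LK, ∃ u, Fp (Fp (Fp u)) = v := by
    intro v
    obtain ⟨v1, rfl⟩ := fp_surj L v
    obtain ⟨v2, rfl⟩ := fp_surj L v1
    obtain ⟨v3, rfl⟩ := fp_surj L v2
    exact ⟨v3, rfl⟩
  choose w' hw' using fun a c e => hsj (w a c e)
  obtain rfl : (fun a c e => Fp (Fp (Fp (w' a c e)))) = w :=
    funext fun a => funext fun c => funext fun e => hw' a c e
  have hw0 : Fam3 P (rz z f) 0 1 2 w' := (fam3_th tw).1 ((fam3_th tw).1 ((fam3_th tw).1 hw))
  obtain ⟨hss0, hsa0, hsb0, hne0⟩ := M.three rfl w' hw0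
  set w : Fin 2 → Fin 2 → Fin 2 → LK := fun a c e => Fp (Fp (Fp (w' a c e))) with hwd
  have hss : SS3 (b3 w) := ss3_fp L (ss3_fp L (ss3_fp L hss0))
  have hsa : SA Fp (b3 w) := sa_fp L (sa_fp L (sa_fp L hsa0))
  have hsb : SB Fp (b3 w) := sb_fp L (sb_fp L (sb_fp L hsb0))
  have tt0 : ∀ a b c, w (1 - a) (1 - b) (1 - c) = T ta (w a b c) := by
    intro a b c
    rw [← hT, f3_t D hw]
  have tt : ∀ a b c, b3 w (!a) (!b) (!c) = T ta (b3 w a b c) := by
    intro a b c
    show w (bi !a) (bi !b) (bi !c) = T ta (w (bi a) (bi b) (bi c))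
    rw [← tt0, bi_not, bi_not, bi_not]
  by_cases h0 : w' = 0
  · intro a c e
    have h1 : w a c e = 0 := by
      show Fp (Fp (Fp (w' a c e))) = 0
      rw [h0]
      show Fp (Fp (Fp 0)) = 0
      rw [fp_zero L, fp_zero L, fp_zero L]
    rw [h1]
    exact good_R 0 GdR.zero
  have hne : ∀ a b c, w a b c ≠ 0 := by
    intro a b c h1
    apply hne0 h0 a b c
    apply L.ops.inj
    apply L.ops.inj
    apply L.ops.inj
    rw [fp_zero L, fp_zero L, fp_zero L]
    exact h1
  have hne' : ∀ a b c, b3 w a b c ≠ 0 := fun a b c => hne _ _ _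
  -- `w 1 1 1` has weight 2
  obtain ⟨k, o1, o3, r1, r2, r3, r0, hr, er⟩ := solR L hT hs 1 (f3_y D hζ h17 hw 1 1 1) (by decide)
    (by rw [← tt0]; exact hss false false false true true true)
  obtain ⟨k', o1', o3', r1', r2', r3', r0', hr', er'⟩ := solR L hT hs 2 (f3_y D hζ h17 hw 0 1 0) (by decide)
    (by rw [← tt0]; exact hss true false true false true false)
  obtain ⟨k'', o1'', o3'', r1'', r2'', r3'', r0'', hr'', er''⟩ := solR L hT hs 0 (f3_y D hζ h17 hw 1 0 0) (by decide)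
    (by rw [← tt0]; exact hss false true true true false false)
  obtain ⟨K1, K2, A, A2, B, hn, en⟩ := solN L hT hs 3 (f3_y D hζ h17 hw 1 1 0) (by decide)
    (by rw [← tt0]; exact hss false false true true true false)
  have e000 : w 0 0 0 = T ta (w 1 1 1) := by rw [← tt0]; rfl
  have hE := E.N012 (b3 w) (n3 k k' k'') (n3 o1 o1' o1'') (n3 o3 o3' o3'') (n3 r1 r1' r1'') (n3 r2 r2' r2'')
    (n3 r3 r3' r3'') (n3 r0 r0' r0'') K1 K2 A A2 B (n3_all hr hr' fun _ => hr'') hn
    (show w 0 0 0 = T ta (Fp^[1] (vR k o1 o3 r1 r2 r3 r0)) by rw [e000, er]) er' er'' en hne' tt hss hsa hsb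
  have h1 : o1 = 0 ∧ o3 = 0 := hE 0 (by norm_num)
  have h2 : o1' = 0 ∧ o3' = 0 := hE 1 (by norm_num)
  have h3 : o1'' = 0 ∧ o3'' = 0 := hE 2 (by norm_num)
  obtain ⟨rfl, rfl⟩ := h1
  obtain ⟨rfl, rfl⟩ := h2
  obtain ⟨rfl, rfl⟩ := h3
  have g111 : Good Fp ta (w 1 1 1) := er ▸ good_R 1 ⟨k, r1, r2, r3, r0, rfl⟩
  have g010 : Good Fp ta (w 0 1 0) := er' ▸ good_R 2 ⟨k', r1', r2', r3', r0', rfl⟩
  have g100 : Good Fp ta (w 1 0 0) := er'' ▸ good_R 0 ⟨k'', r1'', r2'', r3'', r0'', rfl⟩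
  have g110 : Good Fp ta (w 1 1 0) := en ▸ good_N 3 ⟨K1, K2, A, A2, B, hn, rfl⟩
  intro a c e
  match a, c, e with
  | 1, 1, 1 => exact g111
  | 0, 1, 0 => exact g010
  | 1, 0, 0 => exact g100
  | 1, 1, 0 => exact g110
  | 0, 0, 0 =>
    rw [e000]
    exact good_T hT ht g111
  | 1, 0, 1 =>
    have : w 1 0 1 = T ta (w 0 1 0) := tt0 0 1 0
    rw [this]
    exact good_T hT ht g010
  | 0, 1, 1 =>
    have : w 0 1 1 = T ta (w 1 0 0) := tt0 1 0 0
    rw [this]
    exact good_T hT ht g100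
  | 0, 0, 1 =>
    have : w 0 0 1 = T ta (w 1 1 0) := tt0 1 1 0
    rw [this]
    exact good_T hT ht g110

theorem all2N (D : PDat ι P y t0 ζ) (hζ : ζ = ζ' ^ 3) (M : ModF Fp P (rz z f) 2) :
    ∀ i j, i < j → j < 4 → All2 P (rz z f) (Good Fp ta) i j := by
  have tw := tw_fp L
  have hG := good_fp L hT
  have h12 := all12N L hT ht hs E D hζ M
  have h35 := all35N L hT ht hs E D hζ M
  have h23 := h12.th tw hG
  have h34 := h23.th tw hG
  have h45 := h34.th tw hG
  have h46 := h35.th tw hG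
  have h57 := h46.th tw hG
  have h03 : All2 P (rz z f) (Good Fp ta) 0 3 := All2.flip D h34.swap
  have h01 : All2 P (rz z f) (Good Fp ta) 0 1 := by
    have a1 : All2 P (rz z f) (Good Fp ta) 0 5 := All2.flip D h45
    have a2 : All2 P (rz z f) (Good Fp ta) 1 0 := All2.flip D a1.swap
    exact a2.swap
  have h02 : All2 P (rz z f) (Good Fp ta) 0 2 := by
    have a1 : All2 P (rz z f) (Good Fp ta) 0 6 := All2.flip D h46
    have a2 : All2 P (rz z f) (Good Fp ta) 2 0 := All2.flip D a1.swap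
    exact a2.swap
  have h13 : All2 P (rz z f) (Good Fp ta) 1 3 := by
    have a1 : All2 P (rz z f) (Good Fp ta) 1 7 := All2.flip D h57
    have a2 : All2 P (rz z f) (Good Fp ta) 3 1 := All2.flip D a1.swap
    exact a2.swap
  intro i j hij hj
  have : (i = 0 ∧ j = 1) ∨ (i = 0 ∧ j = 2) ∨ (i = 0 ∧ j = 3) ∨ (i = 1 ∧ j = 2) ∨ (i = 1 ∧ j = 3) ∨ (i = 2 ∧ j = 3) := by
    omega
  rcases this with ⟨rfl, rfl⟩ | ⟨rfl, rfl⟩ | ⟨rfl, rfl⟩ | ⟨rfl, rfl⟩ | ⟨rfl, rfl⟩ | ⟨rfl, rfl⟩
  · exact h01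
  · exact h02
  · exact h03
  · exact h12
  · exact h13
  · exact h23

theorem all3N (D : PDat ι P y t0 ζ) (hζ : ζ = ζ' ^ 3) (M : ModF Fp P (rz z f) 3) :
    ∀ i j l, i < j → j < l → l < 4 → All3 P (rz z f) (Good Fp ta) i j l := by
  have tw := tw_fp L
  have hG := good_fp L hT
  have h345 := all345N L hT ht hs E D hζ M
  have h456 := h345.th tw hG
  have h567 := h456.th tw hG
  have h678 := h567.th tw hG
  have h013 : All3 P (rz z f) (Good Fp ta) 0 1 3 := by
    have a1 : All3 P (rz z f) (Good Fp ta) 1 3 4 := All3.flip D h345.rot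
    exact All3.flip D a1.rot
  have h012 : All3 P (rz z f) (Good Fp ta) 0 1 2 := by
    have a1 : All3 P (rz z f) (Good Fp ta) 0 5 6 := All3.flip D h456
    have a2 : All3 P (rz z f) (Good Fp ta) 2 0 5 := All3.flip D a1.rot
    have a3 : All3 P (rz z f) (Good Fp ta) 1 2 0 := All3.flip D a2.rot
    exact a3.rot
  have h123 : All3 P (rz z f) (Good Fp ta) 1 2 3 := by
    have a1 : All3 P (rz z f) (Good Fp ta) 1 6 7 := All3.flip D h567
    have a2 : All3 P (rz z f) (Good Fp ta) 3 1 6 := All3.flip D a1.rot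
    have a3 : All3 P (rz z f) (Good Fp ta) 2 3 1 := All3.flip D a2.rot
    exact a3.rot
  have h023 : All3 P (rz z f) (Good Fp ta) 0 2 3 := by
    have a1 : All3 P (rz z f) (Good Fp ta) 2 7 8 := All3.flip D h678
    have a2 : All3 P (rz z f) (Good Fp ta) 4 2 7 := All3.flip D a1.rot
    have a3 : All3 P (rz z f) (Good Fp ta) 0 2 7 := All3.flip D a2
    have a4 : All3 P (rz z f) (Good Fp ta) 3 0 2 := All3.flip D a3.rot
    exact a4.rot.rot
  intro i j l hij hjl hl
  have : (i = 0 ∧ j = 1 ∧ l = 2) ∨ (i = 0 ∧ j = 1 ∧ l = 3) ∨ (i = 0 ∧ j = 2 ∧ l = 3) ∨ (i = 1 ∧ j = 2 ∧ l = 3) := by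
    omega
  rcases this with ⟨rfl, rfl, rfl⟩ | ⟨rfl, rfl, rfl⟩ | ⟨rfl, rfl, rfl⟩ | ⟨rfl, rfl, rfl⟩
  · exact h012
  · exact h013
  · exact h023
  · exact h123

/-- **all vectors of all families are good** -/
theorem glue (D : PDat ι P y t0 ζ) (hζ : ζ = ζ' ∨ ζ = ζ' ^ 3) {n : ℕ} (M : ModF Fp P (rz z f) n) :
    ∀ v ∈ FamV P (rz z f) n, Good Fp ta v := by
  have tw := tw_fp L
  have hG := good_fp L hT
  rintro v (⟨rfl, i, hi, w, hw, a, rfl⟩ | ⟨rfl, i, j, hij, hj, w, hw, a, b, rfl⟩ |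
    ⟨rfl, i, j, l, hij, hjl, hl, w, hw, a, b, c, rfl⟩)
  · have h0 : All1 P (rz z f) (Good Fp ta) 0 := by
      rcases hζ with h | h
      · exact all1R L hT ht hs E D (by rw [h, pow_one]) M
      · exact all1N L hT ht hs E D h M
    exact all1_of D tw hG h0 i hi w hw a
  · rcases hζ with h | h
    · have h' : ζ = ζ' ^ 1 := by rw [h, pow_one]
      exact all2_of D tw hG (all01R L hT ht hs E D h' M) (all02R L hT ht hs E D h' M) i j hij hj w hw a b
    · exact all2N L hT ht hs E D h M i j hij hj w hw a b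
  · rcases hζ with h | h
    · have h' : ζ = ζ' ^ 1 := by rw [h, pow_one]
      exact all3_of D tw hG (all012R L hT ht hs E D h' M) i j l hij hjl hl w hw a b c
    · exact all3N L hT ht hs E D h M i j l hij hjl hl w hw a b c

end Cases

end

end Cfsg.Agent.H911.L16
end
end

-- part: H771/L16/Ctr
section
set_option linter.all false
open scoped Cfsg.Agent.FastGrp

/-!
# S5916 (helper771): contractions of different families

`key` : `∑ b, B (∑ y, M y b • f y) (∑ u, M u (1 - b) • g u) = ∑ y, B (f y) (g (1 - y))` if `det M = 1` in characteristic 2.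
`con2` : `Fam2 i j`, `Fam2 j l` give `Fam2 i l`. `con3a` : `Fam3 i j l`, `Fam3 j l m` give `Fam2 i m`.
`con3b` : `Fam3 i j l`, `Fam3 l m (i + 4)` give `Fam2 j m`.
-/

set_option autoImplicit false
set_option linter.unusedSectionVars false

namespace Cfsg.Agent.H771.L16

open Matrix
open Cfsg.Agent.H280.L16 (PDat Fam1 Fam2 Fam3)

variable {k : Type*} [Field k] [CharP k 2] {V : Type*} [AddCommGroup V] [Module k V] (B : V →ₗ[k] V →ₗ[k] V)

/-- **the contraction** -/
theorem key {M : Fin 2 → Fin 2 → k} (hM : M 0 0 * M 1 1 - M 0 1 * M 1 0 = 1) (f g : Fin 2 → V) :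
    ∑ b, B (∑ y, M y b • f y) (∑ u, M u (1 - b) • g u) = ∑ y, B (f y) (g (1 - y)) := by
  have h2 : (2 : k) = 0 := by exact_mod_cast CharP.cast_eq_zero k 2
  simp only [Fin.sum_univ_two, sub_zero, sub_self, map_add, map_smul, LinearMap.add_apply, LinearMap.smul_apply]
  match_scalars
  · linear_combination M 0 0 * M 0 1 * h2
  · linear_combination hM + M 0 1 * M 1 0 * h2
  · linear_combination hM + M 0 1 * M 1 0 * h2
  · linear_combination M 1 0 * M 1 1 * h2

variable {F : Type*} [Field F] [Fintype F] {ι : F →+* k}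
  {P : SpecialLinearGroup (Fin 2) F →* Matrix (Fin 2) (Fin 2) k} {y t0 : SpecialLinearGroup (Fin 2) F} {ζ : k}
  {ρ : Representation k (SpecialLinearGroup (Fin 2) F) V}

theorem det_pow (D : PDat ι P y t0 ζ) (s : SpecialLinearGroup (Fin 2) F) (i : ℕ) :
    (P s 0 0) ^ 2 ^ i * (P s 1 1) ^ 2 ^ i - (P s 0 1) ^ 2 ^ i * (P s 1 0) ^ 2 ^ i = 1 := by
  rw [← mul_pow, ← mul_pow, ← sub_pow_char_pow, D.det, one_pow]

/-- the invariance of a bilinear map -/
def InvB (ρ : Representation k (SpecialLinearGroup (Fin 2) F) V) (B : V →ₗ[k] V →ₗ[k] V) : Prop :=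
  ∀ s u v, ρ s (B u v) = B (ρ s u) (ρ s v)

variable {B} (D : PDat ι P y t0 ζ) (hB : InvB ρ B)
include D hB

/-- **CON2** -/
theorem con2 {i j l : ℕ} {s t : Fin 2 → Fin 2 → V} (hs : Fam2 P ρ i j s) (ht : Fam2 P ρ j l t) :
    Fam2 P ρ i l fun a d => ∑ b, B (s a b) (t (1 - b) d) := by
  intro x a d
  have e1 : ∀ b, ρ x (s a b) = ∑ y, (P x y b) ^ 2 ^ j • (∑ a', (P x a' a) ^ 2 ^ i • s a' y) := by
    intro b
    rw [hs]
    simp only [Fin.sum_univ_two]
    module
  have e2 : ∀ b, ρ x (t b d) = ∑ y, (P x y b) ^ 2 ^ j • (∑ d', (P x d' d) ^ 2 ^ l • t y d') := by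
    intro b
    rw [ht]
    simp only [Fin.sum_univ_two]
    module
  rw [map_sum]
  have e3 : ∑ b, ρ x (B (s a b) (t (1 - b) d)) =
      ∑ b, B (∑ y, (P x y b) ^ 2 ^ j • (∑ a', (P x a' a) ^ 2 ^ i • s a' y))
        (∑ y, (P x y (1 - b)) ^ 2 ^ j • (∑ d', (P x d' d) ^ 2 ^ l • t y d')) :=
    Finset.sum_congr rfl fun b _ => by rw [hB, e1, e2]
  rw [e3, key B (M := fun a b => (P x a b) ^ 2 ^ j) (det_pow D x j) (fun y => ∑ a', (P x a' a) ^ 2 ^ i • s a' y) (fun y => ∑ d', (P x d' d) ^ 2 ^ l • t y d')]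
  simp only [Fin.sum_univ_two, sub_zero, sub_self, map_add, map_smul, LinearMap.add_apply, LinearMap.smul_apply]
  module

/-- **CON3a** -/
theorem con3a {i j l m : ℕ} {s t : Fin 2 → Fin 2 → Fin 2 → V} (hs : Fam3 P ρ i j l s) (ht : Fam3 P ρ j l m t) :
    Fam2 P ρ i m fun a d => ∑ b, ∑ c, B (s a b c) (t (1 - b) (1 - c) d) := by
  intro x a d
  have e1 : ∀ b c, ρ x (s a b c) = ∑ z, (P x z c) ^ 2 ^ l • (∑ y, (P x y b) ^ 2 ^ j • (∑ a', (P x a' a) ^ 2 ^ i • s a' y z)) := by
    intro b c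
    rw [hs]
    simp only [Fin.sum_univ_two]
    module
  have e2 : ∀ b c, ρ x (t b c d) = ∑ z, (P x z c) ^ 2 ^ l • (∑ y, (P x y b) ^ 2 ^ j • (∑ d', (P x d' d) ^ 2 ^ m • t y z d')) := by
    intro b c
    rw [ht]
    simp only [Fin.sum_univ_two]
    module
  have e3 : ρ x (∑ b, ∑ c, B (s a b c) (t (1 - b) (1 - c) d)) =
      ∑ b, ∑ c, B (∑ z, (P x z c) ^ 2 ^ l • (∑ y, (P x y b) ^ 2 ^ j • (∑ a', (P x a' a) ^ 2 ^ i • s a' y z)))
        (∑ z, (P x z (1 - c)) ^ 2 ^ l • (∑ y, (P x y (1 - b)) ^ 2 ^ j • (∑ d', (P x d' d) ^ 2 ^ m • t y z d'))) := by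
    rw [map_sum]
    refine Finset.sum_congr rfl fun b _ => ?_
    rw [map_sum]
    exact Finset.sum_congr rfl fun c _ => by rw [hB, e1, e2]
  have e4 : ∀ b, ∑ c, B (∑ z, (P x z c) ^ 2 ^ l • (∑ y, (P x y b) ^ 2 ^ j • (∑ a', (P x a' a) ^ 2 ^ i • s a' y z)))
        (∑ z, (P x z (1 - c)) ^ 2 ^ l • (∑ y, (P x y (1 - b)) ^ 2 ^ j • (∑ d', (P x d' d) ^ 2 ^ m • t y z d'))) =
      ∑ z, B (∑ y, (P x y b) ^ 2 ^ j • (∑ a', (P x a' a) ^ 2 ^ i • s a' y z))
        (∑ y, (P x y (1 - b)) ^ 2 ^ j • (∑ d', (P x d' d) ^ 2 ^ m • t y (1 - z) d')) := fun b =>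
    key B (M := fun a b => (P x a b) ^ 2 ^ l) (det_pow D x l) (fun z => ∑ y, (P x y b) ^ 2 ^ j • (∑ a', (P x a' a) ^ 2 ^ i • s a' y z))
      (fun z => ∑ y, (P x y (1 - b)) ^ 2 ^ j • (∑ d', (P x d' d) ^ 2 ^ m • t y z d'))
  have e5 : ∀ z, ∑ b, B (∑ y, (P x y b) ^ 2 ^ j • (∑ a', (P x a' a) ^ 2 ^ i • s a' y z))
        (∑ y, (P x y (1 - b)) ^ 2 ^ j • (∑ d', (P x d' d) ^ 2 ^ m • t y (1 - z) d')) =
      ∑ y, B (∑ a', (P x a' a) ^ 2 ^ i • s a' y z) (∑ d', (P x d' d) ^ 2 ^ m • t (1 - y) (1 - z) d') := fun z =>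
    key B (M := fun a b => (P x a b) ^ 2 ^ j) (det_pow D x j) (fun y => ∑ a', (P x a' a) ^ 2 ^ i • s a' y z)
      (fun y => ∑ d', (P x d' d) ^ 2 ^ m • t y (1 - z) d')
  rw [e3, Finset.sum_congr rfl fun b _ => e4 b, Finset.sum_comm, Finset.sum_congr rfl fun z _ => e5 z]
  simp only [Fin.sum_univ_two, sub_zero, sub_self, map_add, map_smul, LinearMap.add_apply, LinearMap.smul_apply]
  module

/-- **CON3b** -/
theorem con3b {i j l m : ℕ} {s t : Fin 2 → Fin 2 → Fin 2 → V} (hs : Fam3 P ρ i j l s) (ht : Fam3 P ρ l m (i + 4) t) :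
    Fam2 P ρ j m fun b d => ∑ a, ∑ c, B (s a b c) (t (1 - c) d a) := by
  have h1 : Fam3 P ρ j l i fun b c a => s a b c := hs.rot.rot
  have h2 : Fam3 P ρ l i m fun c a d => t c d (1 - a) := (D.dn3.1 ht.rot).swap
  have h3 := con3a D hB h1 h2
  intro x b d
  have h4 := h3 x b d
  simp only [sub_sub_cancel] at h4
  have e : ∀ b d, ∑ c, ∑ a, B (s a b c) (t (1 - c) d a) = ∑ a, ∑ c, B (s a b c) (t (1 - c) d a) := fun b d =>
    Finset.sum_comm
  simpa only [e] using h4

end Cfsg.Agent.H771.L16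
end
end
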